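import Groth.Agent.PP16Lib29.Model
import Groth.Agent.CAlgML.Projective
import Mathlib.RingTheory.Kaehler.TensorProduct
import Mathlib.RingTheory.Flat.FaithfullyFlat.Algebra

/-! # Base change and descent of differential smoothness -/

set_option autoImplicit false

noncomputable section

open scoped TensorProduct

namespace Groth.Agent.PP16Lib29

universe u v

variable (A B A' B' : Type u) [CommRing A] [CommRing B] [Algebra A B]
    [CommRing A'] [CommRing B'] [Algebra A' B'] [Algebra A A'] [Algebra B B'] [Algebra A B']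
    [IsScalarTower A A' B'] [IsScalarTower A B B'] [Algebra.IsPushout A B A' B']

local notation "mapΩ" => KaehlerDifferential.map A A' B B'

/-- `B' ⊗ Ω = Ω'` -/
theorem exists_equiv : ∃ e : B' ⊗[B] KaehlerDifferential A B ≃ₗ[B'] KaehlerDifferential A' B',
    ∀ (b : B') w, e (b ⊗ₜ w) = b • mapΩ w := by
  haveI : Algebra.IsPushout A A' B B' := Algebra.IsPushout.symm inferInstance
  refine ⟨KaehlerDifferential.tensorKaehlerEquiv A A' B B', fun b w => ?_⟩
  have hw : w ∈ Submodule.span B (Set.range (KaehlerDifferential.D A B)) := by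
    rw [KaehlerDifferential.span_range_derivation]; trivial
  induction hw using Submodule.span_induction generalizing b with
  | mem w hw =>
    obtain ⟨c, rfl⟩ := hw
    rw [KaehlerDifferential.tensorKaehlerEquiv_tmul_D, KaehlerDifferential.map_D]
  | zero => simp
  | add x y _ _ hx hy => rw [TensorProduct.tmul_add, map_add, hx, hy, map_add, smul_add]
  | smul c x _ hx =>
    rw [← TensorProduct.smul_tmul, hx, map_smul, ← algebraMap_smul B' c (mapΩ x), Algebra.smul_def,
      mul_comm, mul_smul]

variable {A B A' B'}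

/-- base change of coefficient vectors -/
def mapCoeff (σ : Type v) : (σ →₀ B) →ₗ[B] (σ →₀ B') := Finsupp.mapRange.linearMap (Algebra.linearMap B B')

theorem linForm_mapCoeff {σ : Type v} (c : σ →₀ B) :
    MvPolynomial.map (algebraMap B B') (linForm c) = linForm (mapCoeff (B' := B') σ c) := by
  induction c using Finsupp.induction_linear with
  | zero => simp
  | add a b ha hb => rw [map_add, map_add, ha, hb, map_add, map_add]
  | single i b =>
    rw [linForm_single, map_mul, MvPolynomial.map_C, MvPolynomial.map_X]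
    simp [mapCoeff, linForm_single]

/-- The base change of `L`. -/
theorem exists_baseChange_split {σ : Type v} (L : KaehlerDifferential A B →ₗ[B] (σ →₀ B)) :
    ∃ L' : KaehlerDifferential A' B' →ₗ[B'] (σ →₀ B'), (∀ w, L' (mapΩ w) = mapCoeff σ (L w)) ∧
      ∀ r : (σ →₀ B) →ₗ[B] KaehlerDifferential A B, (∀ w, r (L w) = w) →
        ∃ r' : (σ →₀ B') →ₗ[B'] KaehlerDifferential A' B', ∀ w', r' (L' w') = w' := by
  obtain ⟨e, he⟩ := exists_equiv A B A' B'
  let ℓ : KaehlerDifferential A B →ₗ[B] (σ →₀ B') := (mapCoeff σ).comp L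
  let L' : KaehlerDifferential A' B' →ₗ[B'] (σ →₀ B') := (ℓ.liftBaseChange B').comp e.symm.toLinearMap
  have hL' : ∀ w, L' (mapΩ w) = mapCoeff σ (L w) := fun w => by
    have : e.symm (mapΩ w) = (1 : B') ⊗ₜ w := by rw [LinearEquiv.symm_apply_eq, he, one_smul]
    simp [L', this, ℓ]
  refine ⟨L', hL', fun r hrL => ?_⟩
  let r' : (σ →₀ B') →ₗ[B'] KaehlerDifferential A' B' :=
    Finsupp.linearCombination B' fun i => mapΩ (r (Finsupp.single i 1))
  have hr' : ∀ c, r' (mapCoeff σ c) = mapΩ (r c) := fun c => by
    induction c using Finsupp.induction_linear with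
    | zero => simp
    | add a b ha hb => rw [map_add, map_add, ha, hb, map_add, map_add]
    | single i b =>
      rw [show Finsupp.single i b = b • Finsupp.single i (1 : B) by simp,
        LinearMap.map_smul (mapCoeff σ), LinearMap.map_smul r, LinearMap.map_smul mapΩ,
        ← algebraMap_smul B' b (mapCoeff σ (Finsupp.single i (1 : B))), LinearMap.map_smul r',
        algebraMap_smul]
      congr 1
      simp [r', mapCoeff]
  refine ⟨r', fun w' => ?_⟩
  obtain ⟨x, rfl⟩ := e.surjective w'
  induction x using TensorProduct.induction_on with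
  | zero => simp
  | add a b ha hb => rw [map_add, map_add, map_add, ha, hb]
  | tmul b w => rw [he, map_smul, map_smul, hL', hr', hrL]

/-- Taylor maps pull back along base change. -/
theorem hasTaylor_baseChange {σ : Type u} {L : KaehlerDifferential A B →ₗ[B] (σ →₀ B)}
    (L' : KaehlerDifferential A' B' →ₗ[B'] (σ →₀ B')) (hL' : ∀ w, L' (mapΩ w) = mapCoeff σ (L w))
    {n : ℕ} (h : HasTaylor A B L n) : HasTaylor A' B' L' n := by
  obtain ⟨g, hgA, hg⟩ := h
  have hmapX : (varIdeal σ B).map (MvPolynomial.map (algebraMap B B')) ≤ varIdeal σ B' := by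
    rw [Ideal.map_span, Ideal.span_le]
    rintro _ ⟨_, ⟨i, rfl⟩, rfl⟩
    rw [MvPolynomial.map_X]
    exact Ideal.subset_span ⟨i, rfl⟩
  have hmapk : ∀ {k : ℕ} {p}, p ∈ varIdeal σ B ^ k →
      MvPolynomial.map (algebraMap B B') p ∈ varIdeal σ B' ^ k := fun {k p} hp =>
    map_pow_mem _ (fun x hx => hmapX (Ideal.mem_map_of_mem _ hx)) hp
  let mT : Trunc σ B n →+* Trunc σ B' n :=
    Ideal.Quotient.lift _ ((Ideal.Quotient.mk _).comp (MvPolynomial.map (algebraMap B B')))
      fun p hp => Ideal.Quotient.eq_zero_iff_mem.2 (hmapk hp)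
  have hmT : ∀ p, mT (Ideal.Quotient.mk _ p) = Ideal.Quotient.mk _ (MvPolynomial.map (algebraMap B B') p) :=
    fun p => rfl
  let f₁ : B →ₐ[A] Trunc σ B' n :=
    { mT.comp g with
      commutes' := fun a => by
        show mT (g (algebraMap A B a)) = _
        rw [hgA, hmT, MvPolynomial.map_C, ← IsScalarTower.algebraMap_apply]
        rfl }
  let f₂ : A' →ₐ[A] Trunc σ B' n :=
    ((Ideal.Quotient.mkₐ A _).comp (IsScalarTower.toAlgHom A B' (MvPolynomial σ B'))).comp
      (IsScalarTower.toAlgHom A A' B')
  let g' : B' →ₐ[A] Trunc σ B' n := Algebra.pushoutDesc B' f₁ f₂ fun x y => Commute.all _ _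
  have hg'l : ∀ b, g' (algebraMap B B' b) = mT (g b) := fun b => Algebra.pushoutDesc_left B' f₁ f₂ _ b
  have hg'r : ∀ a, g' (algebraMap A' B' a) = Ideal.Quotient.mk _ (MvPolynomial.C (algebraMap A' B' a)) :=
    fun a => Algebra.pushoutDesc_right B' f₁ f₂ _ a
  refine ⟨g'.toRingHom, hg'r, fun b' => ?_⟩
  set J : Ideal (Trunc σ B' n) := (varIdeal σ B' ^ 2).map (Ideal.Quotient.mk _) with hJ
  let D₁ : B' → MvPolynomial σ B' := fun b => linForm (L' (KaehlerDifferential.D A' B' b))
  let q : MvPolynomial σ B' →+* Trunc σ B' n ⧸ J := (Ideal.Quotient.mk J).comp (Ideal.Quotient.mk _)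
  have hq2 : ∀ x ∈ varIdeal σ B' ^ 2, q x = 0 := fun x hx =>
    Ideal.Quotient.eq_zero_iff_mem.2 (Ideal.mem_map_of_mem _ hx)
  let g₁ : B' →+* Trunc σ B' n ⧸ J :=
    { toFun := fun b => q (MvPolynomial.C b + D₁ b)
      map_one' := by simp [D₁]
      map_mul' := fun x y => by
        rw [← map_mul q, ← sub_eq_zero, ← map_sub]
        refine hq2 _ ?_
        have e : MvPolynomial.C (x * y) + D₁ (x * y) -
            (MvPolynomial.C x + D₁ x) * (MvPolynomial.C y + D₁ y) = -(D₁ x * D₁ y) := by
          simp only [D₁, linForm_D_mul, map_mul]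
          ring
        rw [e, sq]
        exact neg_mem (Ideal.mul_mem_mul (linForm_mem _) (linForm_mem _))
      map_zero' := by simp [D₁]
      map_add' := fun x y => by
        rw [← map_add q]
        simp only [D₁, map_add]
        ring_nf }
  let g₁' : B' →ₐ[A] Trunc σ B' n ⧸ J :=
    { g₁ with
      commutes' := fun a => by
        show q (MvPolynomial.C (algebraMap A B' a) + D₁ (algebraMap A B' a)) = _
        rw [IsScalarTower.algebraMap_apply A A' B']
        simp only [D₁, Derivation.map_algebraMap, map_zero, add_zero]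
        rw [← IsScalarTower.algebraMap_apply]
        rfl }
  have key : (Ideal.Quotient.mkₐ A J).comp g' = g₁' := by
    refine Algebra.IsPushout.algHom_ext (R := A) (S := B) (R' := A') (S' := B') ?_ ?_
    · refine AlgHom.ext fun a => ?_
      show Ideal.Quotient.mk J (g' (algebraMap A' B' a)) =
        q (MvPolynomial.C (algebraMap A' B' a) + D₁ (algebraMap A' B' a))
      rw [hg'r]
      simp only [D₁, Derivation.map_algebraMap, map_zero, add_zero]
      rfl
    · refine AlgHom.ext fun b => ?_
      show Ideal.Quotient.mk J (g' (algebraMap B B' b)) =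
        Ideal.Quotient.mk J (Ideal.Quotient.mk _ (MvPolynomial.C (algebraMap B B' b) + D₁ (algebraMap B B' b)))
      rw [Ideal.Quotient.eq, hg'l]
      have e : MvPolynomial.C (algebraMap B B' b) + D₁ (algebraMap B B' b) =
          MvPolynomial.map (algebraMap B B') (MvPolynomial.C b + linForm (L (KaehlerDifferential.D A B b))) := by
        rw [map_add, MvPolynomial.map_C, linForm_mapCoeff, ← hL', KaehlerDifferential.map_D]
      rw [e, ← hmT, ← map_sub]
      have h2 : (varIdeal σ B ^ 2).map (Ideal.Quotient.mk _) ≤ J.comap mT := by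
        rw [Ideal.map_le_iff_le_comap]
        intro p hp
        show mT (Ideal.Quotient.mk _ p) ∈ J
        rw [hmT]
        exact map_mk_mem_of _ _ (hmapk hp)
      exact h2 (hg b)
  rw [← Ideal.Quotient.eq]
  exact AlgHom.congr_fun key b'

theorem isDiffSmooth_baseChange (h : PP16.IsDiffSmooth A B) : PP16.IsDiffSmooth A' B' := by
  obtain ⟨s, hs⟩ := h.1.out
  obtain ⟨L', hL', hr⟩ := exists_baseChange_split (A' := A') (B' := B') s
  obtain ⟨r', hr'⟩ := hr (Finsupp.linearCombination B id) hs
  haveI : Module.Projective B' (KaehlerDifferential A' B') :=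
    Module.Projective.of_split L' r' (LinearMap.ext hr')
  exact isDiffSmooth_of_taylor r' hr' fun n =>
    hasTaylor_baseChange L' hL' (hasTaylor_of_isDiffSmooth s (Finsupp.linearCombination B id) h hs n)

/-- Faithfully flat descent. -/
theorem isDiffSmooth_descent [Module.FaithfullyFlat B B'] (h : PP16.IsDiffSmooth A' B') :
    PP16.IsDiffSmooth A B := by
  classical
  obtain ⟨e, he⟩ := exists_equiv A B A' B'
  haveI := h.1
  haveI : Module.Projective B' (B' ⊗[B] KaehlerDifferential A B) := Module.Projective.of_equiv e.symm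
  haveI hproj : Module.Projective B (KaehlerDifferential A B) :=
    CAlgML.projective_descent (S := B')
  refine ⟨hproj, fun ι _ => ?_⟩
  obtain ⟨s, hs⟩ := hproj.out
  obtain ⟨L', hL', -⟩ := exists_baseChange_split (A' := A') (B' := B') s
  obtain ⟨φ, hφD, -⟩ := exists_phi A B ι
  obtain ⟨φ', hφ'D, hφ'bij⟩ := h.2 ι
  refine ⟨φ, hφD, ?_, phi_surjective A B ι φ hφD⟩
  obtain ⟨S, hS, -⟩ := exists_symToPoly s ι
  obtain ⟨S', hS', -⟩ := exists_symToPoly L' ι
  have hSinj := symToPoly_injective s (Finsupp.linearCombination B id) hs ι S hS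
  have hmapI : (KaehlerDifferential.ideal A B).map (PP16.tensorMap A B A' B') ≤
      KaehlerDifferential.ideal A' B' := PP16.ideal_map_tensorMap_le A B A' B'
  let jl : ↥((KaehlerDifferential.ideal A B ^ Fintype.card ι).restrictScalars B) →ₗ[B]
      PP16.grI A' B' (Fintype.card ι) :=
    { toFun := fun x => cls A' B' _ ⟨PP16.tensorMap A B A' B' x.1,
        map_pow_mem (PP16.tensorMap A B A' B').toRingHom (fun y hy => hmapI (Ideal.mem_map_of_mem _ hy)) x.2⟩
      map_add' := fun x y => by
        rw [← map_add (cls A' B' _)]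
        congr 1
        exact Subtype.ext (map_add (PP16.tensorMap A B A' B') x.1 y.1)
      map_smul' := fun c x => by
        rw [RingHom.id_apply]
        refine Eq.trans ?_ (algebraMap_smul B' c _)
        rw [← map_smul (cls A' B' _)]
        congr 1
        refine Subtype.ext ?_
        show PP16.tensorMap A B A' B' (c • x.1) = algebraMap B B' c • PP16.tensorMap A B A' B' x.1
        rw [smul_eq_mul_algebraMap, map_mul, smul_eq_mul_algebraMap]
        congr 1
        show PP16.tensorMap A B A' B' (c ⊗ₜ[A] 1) = algebraMap B B' c ⊗ₜ[A'] 1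
        rw [PP16.tensorMap_tmul, map_one] }
  have hjl : ((KaehlerDifferential.ideal A B ^ (Fintype.card ι + 1)).restrictScalars B).comap
      ((KaehlerDifferential.ideal A B ^ Fintype.card ι).restrictScalars B).subtype ≤ LinearMap.ker jl := by
    intro x hx
    show jl x = 0
    rw [← map_zero (cls A' B' (Fintype.card ι))]
    show cls A' B' _ _ = cls A' B' _ 0
    rw [cls_eq_iff]
    simpa using map_pow_mem (PP16.tensorMap A B A' B').toRingHom
      (fun y hy => hmapI (Ideal.mem_map_of_mem _ hy)) hx
  let j : PP16.grI A B (Fintype.card ι) →ₗ[B] PP16.grI A' B' (Fintype.card ι) := Submodule.liftQ _ jl hjl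
  let T : PP16.grI A' B' (Fintype.card ι) →ₗ[B'] MvPolynomial _ B' :=
    S'.comp (LinearEquiv.ofBijective φ' hφ'bij).symm.toLinearMap
  let M : MvPolynomial (KaehlerDifferential A B) B →ₗ[B] MvPolynomial (KaehlerDifferential A B) B' :=
    (MvPolynomial.mapAlgHom (Algebra.ofId B B')).toLinearMap
  have hM : ∀ p, M p = MvPolynomial.map (algebraMap B B') p := fun p => rfl
  have h1 : ((T.restrictScalars B).comp (j.comp φ)) = M.comp S := by
    refine LinearMap.ext_on (s := Set.range (SymmetricPower.tprod B (ι := ι) (M := KaehlerDifferential A B)))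
      (by rw [SymmetricPower.span_tprod_eq_top]) ?_
    rintro _ ⟨w, rfl⟩
    have hmult : ((T.restrictScalars B).comp (j.comp φ)).compMultilinearMap (SymmetricPower.tprod B) =
        (M.comp S).compMultilinearMap (SymmetricPower.tprod B) := by
      refine multilinear_ext_of_span (KaehlerDifferential.span_range_derivation A B) fun b hb => ?_
      choose c hc using hb
      rw [show b = fun i => KaehlerDifferential.D A B (c i) from funext fun i => (hc i).symm]
      simp only [LinearMap.compMultilinearMap_apply, LinearMap.comp_apply, LinearMap.coe_restrictScalars,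
        hφD]
      have e1 : j (PP16.zetaProd A B c) = PP16.zetaProd A' B' fun i => algebraMap B B' (c i) := by
        show cls A' B' _ _ = cls A' B' _ _
        congr 1
        refine Subtype.ext ?_
        show PP16.tensorMap A B A' B' (∏ i, _) = ∏ i, _
        rw [map_prod]
        refine Finset.prod_congr rfl fun i _ => ?_
        rw [map_sub, PP16.tensorMap_tmul, PP16.tensorMap_tmul, map_one]
      rw [e1, ← hφ'D]
      show S' ((LinearEquiv.ofBijective φ' hφ'bij).symm (LinearEquiv.ofBijective φ' hφ'bij _)) = _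
      rw [LinearEquiv.symm_apply_apply, hM, hS', hS, map_prod]
      refine Finset.prod_congr rfl fun i _ => ?_
      rw [linForm_mapCoeff, ← hL', KaehlerDifferential.map_D]
    exact congrArg (fun H : MultilinearMap B (fun _ : ι => KaehlerDifferential A B) _ => H w) hmult
  refine (injective_iff_map_eq_zero φ).2 fun x hx => hSinj ?_
  have h3 := LinearMap.congr_fun h1 x
  rw [LinearMap.comp_apply, LinearMap.comp_apply, LinearMap.comp_apply, hx, map_zero, map_zero, hM] at h3
  refine MvPolynomial.map_injective (algebraMap B B') (FaithfulSMul.algebraMap_injective B B') ?_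
  rw [map_zero, map_zero, ← h3]

end Groth.Agent.PP16Lib29
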