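import Groth.Prelude.Def_PP16
import Mathlib.RingTheory.Nilpotent.Lemmas
import Mathlib.RingTheory.IntegralClosure.IsIntegralClosure.Basic
import Mathlib.RingTheory.Finiteness.ModuleFinitePresentation
import Mathlib.RingTheory.FiniteStability

/-! # Rings of principal parts: lifting property and basic structure -/

set_option autoImplicit false

noncomputable section

open scoped TensorProduct

namespace Groth.Agent.PP16Lib29

universe u v

variable (n : ℕ) (A B : Type u) [CommRing A] [CommRing B] [Algebra A B]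

theorem algebraMap_P (b : B) :
    algebraMap B (PP16.P n A B) b = Ideal.Quotient.mk _ (b ⊗ₜ[A] (1 : B)) := rfl

theorem dn_apply (b : B) : PP16.dn n A B b = Ideal.Quotient.mk _ ((1 : B) ⊗ₜ[A] b) := rfl

theorem mk_tmul (b c : B) :
    (Ideal.Quotient.mk _ (b ⊗ₜ[A] c) : PP16.P n A B) =
      algebraMap B (PP16.P n A B) b * PP16.dn n A B c := by
  rw [algebraMap_P, dn_apply, ← map_mul, Algebra.TensorProduct.tmul_mul_tmul, mul_one, one_mul]

/-- `ζ_b = d^n b - b`. -/
def zeta (b : B) : PP16.P n A B := PP16.dn n A B b - algebraMap B (PP16.P n A B) b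

theorem zeta_eq_mk (b : B) :
    zeta n A B b = Ideal.Quotient.mk _ ((1 : B) ⊗ₜ[A] b - b ⊗ₜ[A] (1 : B)) :=
  (map_sub (Ideal.Quotient.mk ((KaehlerDifferential.ideal A B) ^ (n + 1))) _ _).symm

theorem dn_eq (b : B) : PP16.dn n A B b = algebraMap B (PP16.P n A B) b + zeta n A B b := by
  rw [zeta]; abel

theorem augIdeal_eq_span : PP16.augIdeal n A B = Ideal.span (Set.range (zeta n A B)) := by
  rw [PP16.augIdeal]
  refine (congrArg (Ideal.map _) (KaehlerDifferential.span_range_eq_ideal A B).symm).trans ?_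
  rw [Ideal.map_span, ← Set.range_comp]
  congr 2

theorem zeta_mem (b : B) : zeta n A B b ∈ PP16.augIdeal n A B := by
  rw [augIdeal_eq_span]; exact Ideal.subset_span ⟨b, rfl⟩

theorem augIdeal_pow : PP16.augIdeal n A B ^ (n + 1) = ⊥ := by
  rw [PP16.augIdeal, ← Ideal.map_pow, Ideal.map_quotient_self]

theorem isNilpotent_of_mem {x : PP16.P n A B} (hx : x ∈ PP16.augIdeal n A B) : IsNilpotent x :=
  ⟨n + 1, by simpa [augIdeal_pow] using Ideal.pow_mem_pow hx (n + 1)⟩

section Aug

/-- The augmentation `P^n → B`. -/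
def aug : PP16.P n A B →ₐ[B] B :=
  Ideal.Quotient.liftₐ _
    ((Algebra.TensorProduct.lift (AlgHom.id B B) (AlgHom.id A B) fun _ _ => Commute.all _ _) :
      B ⊗[A] B →ₐ[B] B)
    fun x hx => by
      have hx' : x ∈ KaehlerDifferential.ideal A B :=
        Ideal.pow_le_self (Nat.succ_ne_zero n) hx
      have h : ∀ y : B ⊗[A] B, ((Algebra.TensorProduct.lift (AlgHom.id B B) (AlgHom.id A B)
          fun _ _ => Commute.all _ _) : B ⊗[A] B →ₐ[B] B) y =
            Algebra.TensorProduct.lmul' A (S := B) y := by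
        intro y
        induction y using TensorProduct.induction_on with
        | zero => simp
        | tmul a b => simp
        | add a b ha hb => rw [map_add, map_add, ha, hb]
      rw [h]
      exact RingHom.mem_ker.1 hx'

theorem aug_mk_tmul (b c : B) : aug n A B (Ideal.Quotient.mk _ (b ⊗ₜ[A] c)) = b * c := by
  show ((Algebra.TensorProduct.lift (AlgHom.id B B) (AlgHom.id A B) fun _ _ => Commute.all _ _) :
    B ⊗[A] B →ₐ[B] B) (b ⊗ₜ[A] c) = b * c
  rw [Algebra.TensorProduct.lift_tmul]; rfl

@[simp] theorem aug_algebraMap (b : B) : aug n A B (algebraMap B (PP16.P n A B) b) = b := by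
  rw [algebraMap_P, aug_mk_tmul, mul_one]

@[simp] theorem aug_dn (b : B) : aug n A B (PP16.dn n A B b) = b := by
  rw [dn_apply, aug_mk_tmul, one_mul]

theorem sub_aug_mem (x : PP16.P n A B) :
    x - algebraMap B (PP16.P n A B) (aug n A B x) ∈ PP16.augIdeal n A B := by
  obtain ⟨x, rfl⟩ := Ideal.Quotient.mk_surjective x
  induction x using TensorProduct.induction_on with
  | zero => simp
  | tmul b c =>
    rw [aug_mk_tmul, mk_tmul, map_mul, ← mul_sub]
    exact Ideal.mul_mem_left _ _ (zeta_mem n A B c)
  | add x y hx hy =>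
    convert add_mem hx hy using 1
    simp only [map_add]
    abel

theorem mem_augIdeal_iff {x : PP16.P n A B} : x ∈ PP16.augIdeal n A B ↔ aug n A B x = 0 := by
  refine ⟨fun hx => ?_, fun hx => ?_⟩
  · have : PP16.augIdeal n A B ≤ RingHom.ker (aug n A B) := by
      rw [augIdeal_eq_span, Ideal.span_le]
      rintro _ ⟨b, rfl⟩
      simp [zeta]
    exact RingHom.mem_ker.1 (this hx)
  · have := sub_aug_mem n A B x
    rwa [hx, map_zero, sub_zero] at this

end Aug

section Gen

theorem span_range_dn : Submodule.span B (Set.range (PP16.dn n A B)) = ⊤ := by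
  rw [eq_top_iff]
  intro x _
  obtain ⟨x, rfl⟩ := Ideal.Quotient.mk_surjective x
  induction x using TensorProduct.induction_on with
  | zero => simp
  | tmul b c =>
    rw [mk_tmul, ← Algebra.smul_def]
    exact Submodule.smul_mem _ _ (Submodule.subset_span ⟨c, rfl⟩)
  | add x y hx hy => rw [map_add]; exact add_mem (hx trivial) (hy trivial)

theorem addHom_ext {M : Type v} [AddCommMonoid M] {f g : PP16.P n A B →+ M}
    (h : ∀ b c, f (algebraMap B (PP16.P n A B) b * PP16.dn n A B c) =
      g (algebraMap B (PP16.P n A B) b * PP16.dn n A B c)) : f = g := by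
  refine AddMonoidHom.ext fun x => ?_
  obtain ⟨x, rfl⟩ := Ideal.Quotient.mk_surjective x
  induction x using TensorProduct.induction_on with
  | zero => simp
  | tmul b c => rw [mk_tmul, h]
  | add x y hx hy => rw [map_add, map_add, map_add, hx, hy]

theorem ringHom_ext {R : Type v} [Semiring R] {f g : PP16.P n A B →+* R}
    (h₁ : ∀ b, f (algebraMap B (PP16.P n A B) b) = g (algebraMap B (PP16.P n A B) b))
    (h₂ : ∀ b, f (PP16.dn n A B b) = g (PP16.dn n A B b)) : f = g := by
  have h := addHom_ext n A B (f := f.toAddMonoidHom) (g := g.toAddMonoidHom) fun b c => by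
    simp [h₁, h₂]
  exact RingHom.ext fun x => DFunLike.congr_fun h x

end Gen

section Lift

variable {n A B} {R : Type v} [CommRing R]

/-- The universal property of `P^n`: two ring maps `B → R` agreeing on `A` and congruent modulo
an ideal `J` with `J^(n+1) = 0`. -/
theorem exists_lift (f g : B →+* R) (hA : f.comp (algebraMap A B) = g.comp (algebraMap A B))
    (J : Ideal R) (hJ : J ^ (n + 1) = ⊥) (h : ∀ b, g b - f b ∈ J) :
    ∃ φ : PP16.P n A B →+* R, (∀ b, φ (algebraMap B (PP16.P n A B) b) = f b) ∧
      ∀ b, φ (PP16.dn n A B b) = g b := by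
  letI : Algebra A R := (f.comp (algebraMap A B)).toAlgebra
  let f' : B →ₐ[A] R := { f with commutes' := fun a => rfl }
  let g' : B →ₐ[A] R := { g with commutes' := fun a => (RingHom.congr_fun hA a).symm }
  let L : B ⊗[A] B →ₐ[A] R := Algebra.TensorProduct.lift f' g' fun _ _ => Commute.all _ _
  have hI : (KaehlerDifferential.ideal A B).map L.toRingHom ≤ J := by
    rw [← KaehlerDifferential.span_range_eq_ideal, Ideal.map_span, Ideal.span_le]
    rintro _ ⟨_, ⟨b, rfl⟩, rfl⟩
    show L _ ∈ J
    rw [map_sub]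
    simp only [L, Algebra.TensorProduct.lift_tmul, map_one, one_mul, mul_one]
    exact h b
  have hker : ∀ x ∈ KaehlerDifferential.ideal A B ^ (n + 1), L.toRingHom x = 0 := by
    intro x hx
    have := (Ideal.pow_right_mono hI (n + 1)) (by rw [← Ideal.map_pow]; exact Ideal.mem_map_of_mem _ hx)
    rwa [hJ, Ideal.mem_bot] at this
  refine ⟨Ideal.Quotient.lift _ L.toRingHom hker, fun b => ?_, fun b => ?_⟩
  · rw [algebraMap_P, Ideal.Quotient.lift_mk]
    show L (b ⊗ₜ[A] 1) = f b
    simp [L, f']
  · rw [dn_apply, Ideal.Quotient.lift_mk]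
    show L (1 ⊗ₜ[A] b) = g b
    simp [L, g']

/-- A ring map out of `P^n` maps the augmentation ideal into `J`. -/
theorem map_augIdeal_le (φ : PP16.P n A B →+* R) (J : Ideal R)
    (h : ∀ b, φ (PP16.dn n A B b) - φ (algebraMap B (PP16.P n A B) b) ∈ J) :
    (PP16.augIdeal n A B).map φ ≤ J := by
  rw [augIdeal_eq_span, Ideal.map_span, Ideal.span_le]
  rintro _ ⟨_, ⟨b, rfl⟩, rfl⟩
  simpa [zeta] using h b

/-- Kernel computation through a left inverse modulo `K`. -/
theorem ker_le_of_leftInverse {X : Type v} {Y : Type*} [CommRing X] [CommRing Y] (φ : X →+* Y)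
    (K : Ideal X) (ψ : Y →+* X ⧸ K) (h : ψ.comp φ = Ideal.Quotient.mk K) : RingHom.ker φ ≤ K := by
  intro x hx
  rw [← Ideal.Quotient.eq_zero_iff_mem, ← h, RingHom.comp_apply, RingHom.mem_ker.1 hx, map_zero]

end Lift

section Finite

instance isIntegral : Algebra.IsIntegral B (PP16.P n A B) := ⟨fun x => by
  obtain ⟨k, hk⟩ := isNilpotent_of_mem n A B (sub_aug_mem n A B x)
  have h1 : IsIntegral B (x - algebraMap B (PP16.P n A B) (aug n A B x)) :=
    ⟨Polynomial.X ^ k, Polynomial.monic_X_pow k, by simp [hk]⟩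
  simpa using h1.add (isIntegral_algebraMap (x := aug n A B x))⟩

theorem finiteType [Algebra.FiniteType A B] : Algebra.FiniteType B (PP16.P n A B) :=
  Algebra.FiniteType.of_surjective
    (Ideal.Quotient.mkₐ B ((KaehlerDifferential.ideal A B) ^ (n + 1)))
    Ideal.Quotient.mk_surjective

theorem finite [Algebra.FiniteType A B] : Module.Finite B (PP16.P n A B) := by
  have := finiteType n A B
  exact Algebra.IsIntegral.finite

theorem finitePresentation [Algebra.FinitePresentation A B] :
    Module.FinitePresentation B (PP16.P n A B) := by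
  have := finite n A B
  have hfg : ((KaehlerDifferential.ideal A B) ^ (n + 1)).FG :=
    Submodule.FG.pow (KaehlerDifferential.ideal_fg A B) _
  have : Algebra.FinitePresentation B (PP16.P n A B) := Algebra.FinitePresentation.quotient hfg
  exact Module.FinitePresentation.of_finite_of_finitePresentation B (PP16.P n A B)

end Finite

end Groth.Agent.PP16Lib29
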