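import Groth.Agent.PP16Lib29.Basic
import Groth.Agent.Diff16.Basic

/-! # Differential operators and principal parts -/

set_option autoImplicit false

noncomputable section

open scoped TensorProduct

namespace Groth.Agent.PP16Lib29

universe u

open _root_.Diff16 (commutator IsDiffOpLE linearize)

variable (n : ℕ) (A B : Type u) [CommRing A] [CommRing B] [Algebra A B]

/-- A differential operator on `B` factors through `P^n`. -/
theorem exists_factor {N : Type u} [AddCommGroup N] [Module A N] [Module B N] [IsScalarTower A B N]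
    (D : B →ₗ[A] N) (hD : IsDiffOpLE A B B N n D) :
    ∃ v : PP16.P n A B →ₗ[B] N, ∀ b, v (PP16.dn n A B b) = D b := by
  have hlin : ∀ (c : B) (x : B ⊗[A] B), linearize A B B N D (c • x) = c • linearize A B B N D x := by
    intro c x
    induction x using TensorProduct.induction_on with
    | zero => simp
    | tmul a b => rw [TensorProduct.smul_tmul', Diff16.linearize_tmul, Diff16.linearize_tmul, smul_eq_mul, mul_smul]
    | add a b ha hb => rw [smul_add, map_add, ha, hb, map_add, smul_add]
  let L : B ⊗[A] B →ₗ[B] N :=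
    { toFun := linearize A B B N D, map_add' := map_add _, map_smul' := hlin }
  let v : PP16.P n A B →ₗ[B] N :=
    (Submodule.liftQ (((KaehlerDifferential.ideal A B) ^ (n + 1)).restrictScalars B) L fun x hx =>
      (Diff16.isDiffOpLE_iff_linearize n D).1 hD x hx).comp
      (Submodule.Quotient.restrictScalarsEquiv B ((KaehlerDifferential.ideal A B) ^ (n + 1))).symm.toLinearMap
  refine ⟨v, fun b => ?_⟩
  show linearize A B B N D ((1 : B) ⊗ₜ[A] b) = D b
  rw [Diff16.linearize_tmul, one_smul]

theorem mul_mem_pow_succ {R : Type u} [CommRing R] {I : Ideal R} {k : ℕ} {x y : R} (hx : x ∈ I ^ k)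
    (hy : y ∈ I) : x * y ∈ I ^ (k + 1) := pow_succ I k ▸ Ideal.mul_mem_mul hx hy

theorem one_mem_pow_zero {R : Type u} [CommRing R] (I : Ideal R) : (1 : R) ∈ I ^ 0 := by simp

/-- `P^n` seen in the synonym. -/
def toPr (p : PP16.P n A B) : PP16.Pr n A B := p

/-- the synonym seen in `P^n`. -/
def ofPr (p : PP16.Pr n A B) : PP16.P n A B := p

/-- Multilinear form: maps `m ↦ u(p • (1 ⊗ m))` with `p ∈ aug^k` have order `≤ n - k`. -/
theorem isDiffOpLE_of_factor {M N : Type u} [AddCommGroup M] [Module A M] [Module B M] [IsScalarTower A B M]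
    [AddCommGroup N] [Module A N] [Module B N] [IsScalarTower A B N]
    (u : PP16.PM n A B M →+ N)
    (hu : ∀ (b : B) (t : PP16.PM n A B M), u (algebraMap B (PP16.P n A B) b • t) = b • u t) :
    ∀ (j k : ℕ) (p : PP16.P n A B), p ∈ PP16.augIdeal n A B ^ k → n ≤ k + j →
      ∀ D : M →ₗ[A] N, (∀ m, D m = u (p • PP16.dM n A B M m)) → IsDiffOpLE A B M N j D := by
  have hdM : ∀ (b : B) (m : M), PP16.dM n A B M (b • m) = PP16.dn n A B b • PP16.dM n A B M m := by
    intro b m
    show (1 : PP16.Pr n A B) ⊗ₜ[B] (b • m) = PP16.dn n A B b • ((1 : PP16.Pr n A B) ⊗ₜ[B] m)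
    rw [← TensorProduct.smul_tmul, TensorProduct.smul_tmul']
    rfl
  have hcomm : ∀ (p : PP16.P n A B) (b : B) (m : M),
      u (p • PP16.dM n A B M (b • m)) - b • u (p • PP16.dM n A B M m) =
        u ((p * zeta n A B b) • PP16.dM n A B M m) := by
    intro p b m
    rw [hdM, smul_smul, ← hu, smul_smul, ← map_sub, ← sub_smul, mul_comm (algebraMap B _ b) p, ← mul_sub]
    rfl
  intro j
  induction j with
  | zero =>
    intro k p hp hk D hD b m
    rw [hD, hD, ← sub_eq_zero, hcomm]
    have h1 : p * zeta n A B b ∈ PP16.augIdeal n A B ^ (n + 1) :=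
      mul_mem_pow_succ (Ideal.pow_le_pow_right (by omega) hp) (zeta_mem n A B b)
    rw [augIdeal_pow, Ideal.mem_bot] at h1
    rw [h1, zero_smul, map_zero]
  | succ j ih =>
    intro k p hp hk D hD b
    refine ih (k + 1) (p * zeta n A B b) ?_ (by omega) _ fun m => ?_
    · exact mul_mem_pow_succ hp (zeta_mem n A B b)
    · rw [Diff16.commutator_apply, hD, hD, hcomm]

/-- The factorisation theorem. -/
theorem isDiffOpLE_iff_existsUnique {M N : Type u} [AddCommGroup M] [Module A M] [Module B M]
    [IsScalarTower A B M] [AddCommGroup N] [Module A N] [Module B N] [IsScalarTower A B N]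
    (D : M →ₗ[A] N) :
    IsDiffOpLE A B M N n D ↔
      ∃! u : PP16.PM n A B M →+ N,
        (∀ (b : B) (t : PP16.PM n A B M), u (algebraMap B (PP16.P n A B) b • t) = b • u t) ∧
          ∀ m : M, u (PP16.dM n A B M m) = D m := by
  have htmul : ∀ (b c : B) (m : M),
      toPr n A B (algebraMap B (PP16.P n A B) b * PP16.dn n A B c) ⊗ₜ[B] m =
        algebraMap B (PP16.P n A B) b • PP16.dM n A B M (c • m) := by
    intro b c m
    show _ = algebraMap B (PP16.P n A B) b • ((1 : PP16.Pr n A B) ⊗ₜ[B] (c • m))
    rw [← TensorProduct.smul_tmul, TensorProduct.smul_tmul']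
    congr 1
    show (algebraMap B (PP16.P n A B) b * PP16.dn n A B c : PP16.P n A B) =
      algebraMap B (PP16.P n A B) b * (PP16.dn n A B c * (1 : PP16.P n A B))
    rw [mul_one]
  refine ⟨fun hD => ?_, fun ⟨u, ⟨hu₁, hu₂⟩, _⟩ => ?_⟩
  · have hv : ∀ m : M, ∃ v : PP16.P n A B →ₗ[B] N, ∀ b, v (PP16.dn n A B b) = D (b • m) := by
      intro m
      refine exists_factor n A B (D ∘ₗ ((LinearMap.toSpanSingleton B M m).restrictScalars A)) ?_
      refine Diff16.isDiffOpLE_comp n 0 n (by simp) _ D (fun b c => ?_) hD
      simp [mul_smul]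
    choose v hv using hv
    have hadd : ∀ m m', v (m + m') = v m + v m' := fun m m' =>
      LinearMap.ext_on (span_range_dn n A B) (by
        rintro _ ⟨b, rfl⟩
        rw [LinearMap.add_apply, hv, hv, hv, smul_add, map_add])
    let F : PP16.Pr n A B →+ M →+ N :=
      AddMonoidHom.mk' (fun p => AddMonoidHom.mk' (fun m => v m p) fun m m' => by
        rw [hadd, LinearMap.add_apply]) fun p q => by
          refine AddMonoidHom.ext fun m => ?_
          exact map_add (v m) _ _
    have hbal : ∀ (c : B) (p : PP16.Pr n A B) (m : M), F (c • p) m = F p (c • m) := by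
      intro c p m
      show v m (PP16.dn n A B c * ofPr n A B p) = v (c • m) (ofPr n A B p)
      have : (v m).comp (LinearMap.mulLeft B (PP16.dn n A B c)) = v (c • m) :=
        LinearMap.ext_on (span_range_dn n A B) (by
          rintro _ ⟨b, rfl⟩
          rw [LinearMap.comp_apply, LinearMap.mulLeft_apply, ← map_mul, hv, hv, mul_smul, smul_comm])
      exact LinearMap.congr_fun this p
    let u : PP16.PM n A B M →+ N := TensorProduct.liftAddHom F hbal
    have hu₁ : ∀ (b : B) (t : PP16.PM n A B M), u (algebraMap B (PP16.P n A B) b • t) = b • u t := by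
      intro b t
      induction t using TensorProduct.induction_on with
      | zero => simp
      | tmul p m =>
        rw [TensorProduct.smul_tmul']
        show v m (algebraMap B (PP16.P n A B) b * ofPr n A B p) = b • v m (ofPr n A B p)
        rw [← Algebra.smul_def, map_smul]
      | add x y hx hy => rw [smul_add, map_add, hx, hy, map_add, smul_add]
    have hu₂ : ∀ m : M, u (PP16.dM n A B M m) = D m := by
      intro m
      show v m (1 : PP16.P n A B) = D m
      rw [← map_one (PP16.dn n A B), hv, one_smul]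
    refine ⟨u, ⟨hu₁, hu₂⟩, ?_⟩
    rintro u' ⟨h₁, h₂⟩
    refine AddMonoidHom.ext fun t => ?_
    induction t using TensorProduct.induction_on with
    | zero => simp
    | add x y hx hy => rw [map_add, map_add, hx, hy]
    | tmul p m =>
      have hlin : ∀ w : PP16.PM n A B M →+ N,
          (∀ (b : B) (t : PP16.PM n A B M), w (algebraMap B (PP16.P n A B) b • t) = b • w t) →
          (∀ m : M, w (PP16.dM n A B M m) = D m) →
          ∀ b c : B, w (toPr n A B (algebraMap B (PP16.P n A B) b * PP16.dn n A B c) ⊗ₜ[B] m)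
            = b • D (c • m) := fun w hw₁ hw₂ b c => by rw [htmul, hw₁, hw₂]
      have := addHom_ext n A B
        (f := u'.comp ((TensorProduct.mk B (PP16.Pr n A B) M).flip m).toAddMonoidHom)
        (g := u.comp ((TensorProduct.mk B (PP16.Pr n A B) M).flip m).toAddMonoidHom)
        fun b c => (hlin u' h₁ h₂ b c).trans (hlin u hu₁ hu₂ b c).symm
      exact DFunLike.congr_fun this p
  · refine isDiffOpLE_of_factor n A B u hu₁ n 0 1 (one_mem_pow_zero _) (by omega) D fun m => ?_
    rw [one_smul, hu₂]

end Groth.Agent.PP16Lib29
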