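import Groth.Agent.PP16Lib29.Model
import Groth.Agent.PP16Lib29.DiffOp

/-! # Coordinates: monomial bases and divided power operators -/

set_option autoImplicit false

noncomputable section

open scoped TensorProduct

namespace Groth.Agent.PP16Lib29

universe u v

open _root_.Diff16 (IsDiffOpLE linearize)

variable {A B : Type u} [CommRing A] [CommRing B] [Algebra A B] {σ : Type v} (z : σ → B)

local notation "𝓘" => KaehlerDifferential.ideal A B

/-- substitution into `B ⊗ B` -/
def subTensor : MvPolynomial σ B →ₐ[B] B ⊗[A] B :=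
  MvPolynomial.aeval fun i => (1 : B) ⊗ₜ[A] z i - z i ⊗ₜ[A] (1 : B)

theorem subst_eq_mk (n : ℕ) (p : MvPolynomial σ B) :
    subst n A B z p = Ideal.Quotient.mk _ (subTensor (A := A) z p) := by
  have : subst n A B z = (Ideal.Quotient.mkₐ B _).comp (subTensor (A := A) z) :=
    MvPolynomial.algHom_ext fun i => by
      rw [subst, MvPolynomial.aeval_X, AlgHom.comp_apply, subTensor, MvPolynomial.aeval_X, zeta_eq_mk]
      rfl
  rw [this]; rfl

theorem subst_pow_mem {n k : ℕ} {p : MvPolynomial σ B} (hp : p ∈ varIdeal σ B ^ k) :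
    subst n A B z p ∈ PP16.augIdeal n A B ^ k := by
  refine map_pow_mem (subst n A B z).toRingHom (fun x hx => ?_) hp
  have hle : varIdeal σ B ≤ (PP16.augIdeal n A B).comap (subst n A B z).toRingHom := by
    rw [Ideal.span_le]
    rintro _ ⟨i, rfl⟩
    show subst n A B z (MvPolynomial.X i) ∈ PP16.augIdeal n A B
    rw [subst, MvPolynomial.aeval_X]
    exact zeta_mem n A B (z i)
  exact hle hx

theorem subst_linForm (n : ℕ) (d : σ →₀ B) : subst n A B z (linForm d) -
    liftP n (d.sum fun i a => a • KaehlerDifferential.D A B (z i)) ∈ PP16.augIdeal n A B ^ 2 := by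
  obtain ⟨hadd, hsmul⟩ := exists_additive_liftP (A := A) (B := B) n
  induction d using Finsupp.induction_linear with
  | zero =>
    have h0 := hsmul 0 (0 : KaehlerDifferential A B)
    rw [zero_smul, zero_smul, sub_zero] at h0
    simpa using neg_mem h0
  | add d e hd he =>
    have := sub_mem (add_mem hd he) (hadd (d.sum fun i a => a • KaehlerDifferential.D A B (z i))
      (e.sum fun i a => a • KaehlerDifferential.D A B (z i)))
    convert this using 1
    rw [map_add, map_add, Finsupp.sum_add_index' (by simp) (by simp [add_smul])]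
    ring
  | single i a =>
    rw [Finsupp.sum_single_index (by simp)]
    have h1 := hsmul a (KaehlerDifferential.D A B (z i))
    have h2 := zeta_sub_liftP n (A := A) (B := B) (z i)
    have h3 := sub_mem (Ideal.mul_mem_left _ (algebraMap B (PP16.P n A B) a) h2) h1
    convert h3 using 1
    rw [linForm_single, map_mul, subst, MvPolynomial.aeval_C, MvPolynomial.aeval_X, Algebra.smul_def]
    ring

theorem exists_subst_approx (hz : Submodule.span B (Set.range fun i => KaehlerDifferential.D A B (z i)) = ⊤)
    (n : ℕ) (b : B) : ∃ c : σ →₀ B,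
      KaehlerDifferential.D A B b = c.sum (fun i a => a • KaehlerDifferential.D A B (z i)) ∧
      zeta n A B b - subst n A B z (linForm c) ∈ PP16.augIdeal n A B ^ 2 := by
  have : KaehlerDifferential.D A B b ∈ Submodule.span B (Set.range fun i => KaehlerDifferential.D A B (z i)) := by
    rw [hz]; trivial
  obtain ⟨c, hc⟩ := Finsupp.mem_span_range_iff_exists_finsupp.1 this
  refine ⟨c, hc.symm, ?_⟩
  have h1 := sub_mem (zeta_sub_liftP n (A := A) (B := B) b) (subst_linForm z n c)
  rw [hc] at h1
  convert h1 using 1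
  ring

theorem subst_surjective (hz : Submodule.span B (Set.range fun i => KaehlerDifferential.D A B (z i)) = ⊤)
    (n : ℕ) : Function.Surjective (subst n A B z) := by
  set Θ := subst n A B z
  have happrox1 : ∀ b ∈ PP16.augIdeal n A B, ∃ s, b - Θ s ∈ PP16.augIdeal n A B ^ 2 := by
    intro b hb
    rw [augIdeal_eq_span] at hb
    induction hb using Submodule.span_induction with
    | mem y hy =>
      obtain ⟨c, rfl⟩ := hy
      obtain ⟨d, -, hd⟩ := exists_subst_approx z hz n c
      exact ⟨_, hd⟩
    | zero => exact ⟨0, by simp⟩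
    | add a c _ _ ha hc =>
      obtain ⟨s, hs⟩ := ha
      obtain ⟨t, ht⟩ := hc
      refine ⟨s + t, ?_⟩
      convert add_mem hs ht using 1
      rw [map_add]; ring
    | smul c a hmem ha =>
      obtain ⟨s, hs⟩ := ha
      refine ⟨MvPolynomial.C (aug n A B c) * s, ?_⟩
      rw [smul_eq_mul, map_mul, ← MvPolynomial.algebraMap_eq, AlgHom.commutes]
      have ha' : a ∈ PP16.augIdeal n A B := by rw [augIdeal_eq_span]; exact hmem
      have := add_mem (Ideal.mul_mem_left _ (algebraMap B (PP16.P n A B) (aug n A B c)) hs)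
        (mul_mem_pow_add (mem_pow_one_iff.2 (sub_aug_mem n A B c)) (mem_pow_one_iff.2 ha'))
      convert this using 1
      ring
  have happrox : ∀ k, ∀ a ∈ PP16.augIdeal n A B ^ k, ∃ s ∈ varIdeal σ B ^ 0,
      a - Θ s ∈ PP16.augIdeal n A B ^ (k + 1) := by
    intro k
    induction k with
    | zero =>
      intro a _
      refine ⟨MvPolynomial.C (aug n A B a), mem_pow_zero' _ _, ?_⟩
      rw [← MvPolynomial.algebraMap_eq, AlgHom.commutes]
      exact mem_pow_one_iff.2 (sub_aug_mem n A B a)
    | succ k ih =>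
      intro a ha
      refine pow_succ_induction (C := fun a => ∃ s ∈ varIdeal σ B ^ 0,
        a - Θ s ∈ PP16.augIdeal n A B ^ (k + 1 + 1)) ha (fun x hx y hy => ?_) fun x y hx hy => ?_
      · obtain ⟨s, -, hs⟩ := ih x hx
        obtain ⟨t, ht⟩ := happrox1 y hy
        refine ⟨s * t, mem_pow_zero' _ _, ?_⟩
        have hΘs : Θ s ∈ PP16.augIdeal n A B ^ k := by
          have := sub_mem hx (Ideal.pow_le_pow_right (Nat.le_succ k) hs)
          simpa using this
        have h1 := mul_mem_pow_add hs (mem_pow_one_iff.2 hy)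
        have h2 : Θ s * (y - Θ t) ∈ PP16.augIdeal n A B ^ (k + 1 + 1) := mul_mem_pow_add (i := k) (j := 2) hΘs ht
        convert add_mem h1 h2 using 1
        rw [map_mul]; ring
      · obtain ⟨s, -, hs⟩ := hx
        obtain ⟨t, -, ht⟩ := hy
        refine ⟨s + t, mem_pow_zero' _ _, ?_⟩
        convert add_mem hs ht using 1
        rw [map_add]; ring
  have hsurj : ∀ j k, k + j = n + 1 → ∀ a ∈ PP16.augIdeal n A B ^ k, ∃ s, Θ s = a := by
    intro j
    induction j with
    | zero =>
      intro k hk a ha
      rw [Nat.add_zero] at hk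
      rw [hk, augIdeal_pow, Ideal.mem_bot] at ha
      exact ⟨0, by rw [map_zero, ha]⟩
    | succ j ih =>
      intro k hk a ha
      obtain ⟨s, -, hs⟩ := happrox k a ha
      obtain ⟨t, ht⟩ := ih (k + 1) (by omega) _ hs
      exact ⟨s + t, by rw [map_add, ht]; ring⟩
  exact fun a => hsurj (n + 1) 0 (by omega) a (mem_pow_zero' _ a)

theorem aug_subst (n : ℕ) (p : MvPolynomial σ B) :
    aug n A B (subst n A B z p) = MvPolynomial.constantCoeff p := by
  have : ((aug n A B).comp (subst n A B z)).toRingHom = MvPolynomial.constantCoeff := by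
    refine MvPolynomial.ringHom_ext (fun b => ?_) fun i => ?_
    · show aug n A B (subst n A B z (MvPolynomial.C b)) = _
      rw [subst, MvPolynomial.aeval_C, MvPolynomial.constantCoeff_C]
      exact aug_algebraMap n A B b
    · show aug n A B (subst n A B z (MvPolynomial.X i)) = _
      rw [subst, MvPolynomial.aeval_X, MvPolynomial.constantCoeff_X]
      simp [zeta]
  exact RingHom.congr_fun this p

theorem exists_preimage_pow {n : ℕ} (hs : Function.Surjective (subst n A B z)) {k : ℕ}
    {a : PP16.P n A B} (ha : a ∈ PP16.augIdeal n A B ^ k) :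
    ∃ p ∈ varIdeal σ B ^ k, subst n A B z p = a := by
  have h1 : PP16.augIdeal n A B ≤ (varIdeal σ B).map (subst n A B z).toRingHom := by
    intro x hx
    obtain ⟨p, rfl⟩ := hs x
    refine Ideal.mem_map_of_mem (subst n A B z).toRingHom (constantCoeff_eq_zero_iff.1 ?_)
    rw [← aug_subst (A := A) z n, (mem_augIdeal_iff n A B).1 hx]
  have h2 := Ideal.pow_right_mono h1 k ha
  rw [← Ideal.map_pow] at h2
  exact (Ideal.mem_map_iff_of_surjective (subst n A B z).toRingHom hs).1 h2

theorem coeff_eq_zero_of_mem_pow {p : MvPolynomial σ B} {m : ℕ} (hp : p ∈ varIdeal σ B ^ (m + 1))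
    {d : σ →₀ ℕ} (hd : Finsupp.degree d ≤ m) : p.coeff d = 0 :=
  (MvPolynomial.mem_pow_idealOfVars_iff' (m + 1) p).1 hp d (by omega)

/-- translation `U ↦ U + z` is bijective on polynomials: `∏ (z + U)^q` span everything -/
theorem ext_of_translates {N : Type*} [AddCommGroup N] [Module B N] {f g : MvPolynomial σ B →ₗ[B] N}
    (h : ∀ q : σ →₀ ℕ, f (q.prod fun i e => (MvPolynomial.C (z i) + MvPolynomial.X i) ^ e) =
      g (q.prod fun i e => (MvPolynomial.C (z i) + MvPolynomial.X i) ^ e)) : f = g := by
  let T : MvPolynomial σ B →ₐ[B] MvPolynomial σ B :=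
    MvPolynomial.aeval fun i => MvPolynomial.C (z i) + MvPolynomial.X i
  let T' : MvPolynomial σ B →ₐ[B] MvPolynomial σ B :=
    MvPolynomial.aeval fun i => MvPolynomial.X i - MvPolynomial.C (z i)
  have hT : T.comp T' = AlgHom.id B _ := MvPolynomial.algHom_ext fun i => by
    simp only [T, T', AlgHom.comp_apply, MvPolynomial.aeval_X, map_sub, MvPolynomial.aeval_C,
      AlgHom.id_apply]
    rw [MvPolynomial.algebraMap_eq]
    ring
  have hfg : f.comp T.toLinearMap = g.comp T.toLinearMap := by
    refine (MvPolynomial.basisMonomials σ B).ext fun d => ?_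
    rw [MvPolynomial.coe_basisMonomials, LinearMap.comp_apply, LinearMap.comp_apply]
    simp only [T, AlgHom.toLinearMap_apply, MvPolynomial.aeval_monomial, map_one, one_mul]
    exact h d
  refine LinearMap.ext fun p => ?_
  have := LinearMap.congr_fun hfg (T' p)
  rw [LinearMap.comp_apply, LinearMap.comp_apply, AlgHom.toLinearMap_apply,
    show T (T' p) = p from AlgHom.congr_fun hT p] at this
  exact this

theorem isDiffOpLE_of_functional {m : ℕ} (v : PP16.P m A B →ₗ[B] B) (D : B →ₗ[A] B)
    (hv : ∀ x, D x = v (PP16.dn m A B x)) : IsDiffOpLE A B B B m D := by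
  refine (Diff16.isDiffOpLE_iff_linearize m D).2 fun x hx => ?_
  have : ∀ y : B ⊗[A] B, linearize A B B B D y = v (Ideal.Quotient.mk _ y) := by
    intro y
    induction y using TensorProduct.induction_on with
    | zero => simp
    | tmul a b =>
      rw [Diff16.linearize_tmul, mk_tmul, ← Algebra.smul_def, map_smul, hv]
    | add a b ha hb => rw [map_add, map_add, map_add, ha, hb]
  rw [this, Ideal.Quotient.eq_zero_iff_mem.2 hx, map_zero]

theorem subst_translate (n : ℕ) (q : σ →₀ ℕ) :
    subst n A B z (q.prod fun i e => (MvPolynomial.C (z i) + MvPolynomial.X i) ^ e) =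
      PP16.dn n A B (q.prod fun i e => z i ^ e) := by
  simp only [Finsupp.prod, map_prod, map_pow, map_add, subst, MvPolynomial.aeval_C, MvPolynomial.aeval_X,
    ← dn_eq]

section Finite

variable [Fintype σ]

theorem coeff_translate (q p : σ →₀ ℕ) :
    (q.prod fun i e => (MvPolynomial.C (z i) + MvPolynomial.X i) ^ e : MvPolynomial σ B).coeff p =
      ((∏ i, Nat.choose (q i) (p i) : ℕ) : B) * ∏ i, z i ^ (q i - p i) := by
  classical
  rw [Finsupp.prod_fintype _ _ (fun i => pow_zero _)]
  simp only [add_comm (MvPolynomial.C (z _)), add_pow]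
  rw [Finset.prod_univ_sum, MvPolynomial.coeff_sum]
  have hterm : ∀ x : σ → ℕ,
      (∏ i, MvPolynomial.X i ^ x i * MvPolynomial.C (z i) ^ (q i - x i) *
          ((q i).choose (x i) : MvPolynomial σ B)) =
        MvPolynomial.monomial (Finsupp.equivFunOnFinite.symm x)
          (((∏ i, Nat.choose (q i) (x i) : ℕ) : B) * ∏ i, z i ^ (q i - x i)) := by
    intro x
    rw [MvPolynomial.monomial_eq, Finsupp.prod_pow, Finset.prod_mul_distrib, Finset.prod_mul_distrib,
      map_mul, map_natCast, map_prod, Nat.cast_prod]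
    simp only [map_pow]
    rw [show (∏ i, MvPolynomial.X i ^ (Finsupp.equivFunOnFinite.symm x) i : MvPolynomial σ B) =
      ∏ i, MvPolynomial.X i ^ x i from rfl]
    ring
  simp only [hterm, MvPolynomial.coeff_monomial, Equiv.symm_apply_eq]
  rw [Finset.sum_ite_eq']
  split_ifs with h
  · rfl
  · obtain ⟨i, hi⟩ : ∃ i, q i < p i := by
      by_contra h'
      push Not at h'
      exact h (Fintype.mem_piFinset.2 fun i => Finset.mem_range.2 (Nat.lt_succ_of_le (h' i)))
    rw [Finset.prod_eq_zero (f := fun i => (q i).choose (p i)) (Finset.mem_univ i)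
      (Nat.choose_eq_zero_of_lt hi)]
    simp

/-- The defining property of divided power operators, in `Finsupp` form. -/
def IsDP (Dp : (σ →₀ ℕ) → (B →ₗ[A] B)) : Prop :=
  (∀ p, ∃ k : ℕ, IsDiffOpLE A B B B k (Dp p)) ∧
    ∀ p q : σ →₀ ℕ, Dp p (q.prod fun i e => z i ^ e) =
      (q.prod fun i e => (MvPolynomial.C (z i) + MvPolynomial.X i) ^ e : MvPolynomial σ B).coeff p

variable {z}

theorem coeff_of_subst {Dp : (σ →₀ ℕ) → (B →ₗ[A] B)} (hD : IsDP z Dp) (p : σ →₀ ℕ) :
    ∃ N, Finsupp.degree p ≤ N ∧ ∃ v : PP16.P N A B →ₗ[B] B,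
      (∀ x, v (PP16.dn N A B x) = Dp p x) ∧ ∀ q, v (subst N A B z q) = q.coeff p := by
  obtain ⟨k, hk⟩ := hD.1 p
  refine ⟨max k (Finsupp.degree p), le_max_right _ _, ?_⟩
  obtain ⟨v, hv⟩ := exists_factor _ A B (Dp p) (Diff16.isDiffOpLE_mono (le_max_left k (Finsupp.degree p)) hk)
  refine ⟨v, hv, fun q => ?_⟩
  have : v.comp (subst _ A B z).toLinearMap = MvPolynomial.lcoeff B p := by
    refine ext_of_translates z fun r => ?_
    rw [LinearMap.comp_apply, AlgHom.toLinearMap_apply, subst_translate, hv, hD.2]
    rfl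
  exact LinearMap.congr_fun this q

variable {Dp : (σ →₀ ℕ) → (B →ₗ[A] B)}
  (hz : Submodule.span B (Set.range fun i => KaehlerDifferential.D A B (z i)) = ⊤) (hD : IsDP z Dp)

include hz hD

theorem ker_subst_of_isDP (m : ℕ) :
    RingHom.ker (subst m A B z).toRingHom = varIdeal σ B ^ (m + 1) := by
  refine le_antisymm (fun q hq => ?_) (pow_span_X_le_ker m A B _ fun i => by
    rw [subst, MvPolynomial.aeval_X]; exact zeta_mem m A B (z i))
  rw [show varIdeal σ B = MvPolynomial.idealOfVars σ B from rfl, MvPolynomial.mem_pow_idealOfVars_iff']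
  intro p hp
  obtain ⟨N₀, hN₀, v, -, hv⟩ := coeff_of_subst hD p
  have hq' : subTensor (A := A) z q ∈ 𝓘 ^ (m + 1) := by
    have : subst m A B z q = 0 := hq
    rwa [subst_eq_mk, Ideal.Quotient.eq_zero_iff_mem] at this
  have h1 : subst N₀ A B z q ∈ PP16.augIdeal N₀ A B ^ (m + 1) := by
    rw [subst_eq_mk]; exact mk_mem_aug_pow N₀ hq'
  obtain ⟨q', hq'U, hq'⟩ := exists_preimage_pow z (subst_surjective z hz N₀) h1
  rw [← hv q, ← hq', hv q']
  exact coeff_eq_zero_of_mem_pow hq'U (by omega)

theorem coeff_eq_Dp {m : ℕ} {p : σ →₀ ℕ} (hp : Finsupp.degree p ≤ m) {x : B} {q : MvPolynomial σ B}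
    (hq : subst m A B z q = PP16.dn m A B x) : q.coeff p = Dp p x := by
  obtain ⟨N₀, hN₀, v, hvx, hv⟩ := coeff_of_subst hD p
  obtain ⟨r, hr⟩ := subst_surjective z hz (max N₀ m) (PP16.dn (max N₀ m) A B x)
  have hr₁ : subTensor (A := A) z r - (1 : B) ⊗ₜ[A] x ∈ 𝓘 ^ (max N₀ m + 1) := by
    rw [subst_eq_mk, dn_apply, Ideal.Quotient.eq] at hr; exact hr
  have hrm : subst m A B z r = PP16.dn m A B x := by
    rw [subst_eq_mk, dn_apply, Ideal.Quotient.eq]
    exact Ideal.pow_le_pow_right (by omega) hr₁
  have hrN : subst N₀ A B z r = PP16.dn N₀ A B x := by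
    rw [subst_eq_mk, dn_apply, Ideal.Quotient.eq]
    exact Ideal.pow_le_pow_right (by omega) hr₁
  have hker : q - r ∈ RingHom.ker (subst m A B z).toRingHom := by
    show subst m A B z (q - r) = 0
    rw [map_sub, hq, hrm, sub_self]
  rw [ker_subst_of_isDP hz hD m] at hker
  have h2 := coeff_eq_zero_of_mem_pow hker hp
  rw [MvPolynomial.coeff_sub, sub_eq_zero] at h2
  rw [h2, ← hv r, hrN, hvx]

theorem exists_functional {m : ℕ} {p : σ →₀ ℕ} (hp : Finsupp.degree p ≤ m) :
    ∃ v : PP16.P m A B →ₗ[B] B, (∀ x, v (PP16.dn m A B x) = Dp p x) ∧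
      ∀ q, v (subst m A B z q) = q.coeff p := by
  have hs := subst_surjective z hz m
  refine ⟨(Submodule.liftQ (LinearMap.ker (subst m A B z).toLinearMap) (MvPolynomial.lcoeff B p) ?_).comp
    ((subst m A B z).toLinearMap.quotKerEquivOfSurjective hs).symm.toLinearMap, fun x => ?_, fun q => ?_⟩
  · intro q hq
    have : q ∈ varIdeal σ B ^ (m + 1) := ker_subst_of_isDP hz hD m ▸ hq
    exact coeff_eq_zero_of_mem_pow this hp
  · obtain ⟨q, hq⟩ := hs (PP16.dn m A B x)
    rw [← hq, ← coeff_eq_Dp hz hD hp hq]
    simp [LinearMap.comp_apply, LinearEquiv.coe_coe]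
    rw [← AlgHom.toLinearMap_apply, LinearMap.quotKerEquivOfSurjective_symm_apply, Submodule.liftQ_apply]
    rfl
  · simp only [LinearMap.comp_apply, LinearEquiv.coe_coe]
    rw [← AlgHom.toLinearMap_apply, LinearMap.quotKerEquivOfSurjective_symm_apply, Submodule.liftQ_apply]
    rfl

end Finite

section Smooth

variable {z}

theorem ker_subst_of_basis (h : PP16.IsDiffSmooth A B) (b : Module.Basis σ B (KaehlerDifferential A B))
    (hb : ∀ i, b i = KaehlerDifferential.D A B (z i)) (m : ℕ) :
    RingHom.ker (subst m A B z).toRingHom = varIdeal σ B ^ (m + 1) := by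
  refine le_antisymm (fun q hq => ?_) (pow_span_X_le_ker m A B _ fun i => by
    rw [subst, MvPolynomial.aeval_X]; exact zeta_mem m A B (z i))
  obtain ⟨g, hgA, hg⟩ := hasTaylor_of_isDiffSmooth b.repr.toLinearMap b.repr.symm.toLinearMap h
    (fun w => b.repr.symm_apply_apply w) m
  set U : Ideal (Trunc σ B m) := (varIdeal σ B).map (Ideal.Quotient.mk _) with hU
  have hg2 : ∀ i, g (z i) - Ideal.Quotient.mk _ (MvPolynomial.C (z i) + MvPolynomial.X i) ∈ U ^ 2 := by
    intro i
    have := hg (z i)
    rw [← hb, LinearEquiv.coe_coe, b.repr_self, linForm_single, map_one, one_mul, Ideal.map_pow] at this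
    exact this
  have hgU : ∀ x, g x - Ideal.Quotient.mk _ (MvPolynomial.C x) ∈ U := by
    intro x
    have h1 := hg x
    rw [Ideal.map_pow, ← hU] at h1
    have h2 : Ideal.Quotient.mk _ (linForm (b.repr.toLinearMap (KaehlerDifferential.D A B x))) ∈ U :=
      Ideal.mem_map_of_mem _ (linForm_mem _)
    convert add_mem (Ideal.pow_le_self two_ne_zero h1) h2 using 1
    rw [map_add]; ring
  obtain ⟨ψ, hψ₁, hψ₂⟩ := exists_lift (n := m) (A := A) (B := B) (R := Trunc σ B m)
    ((Ideal.Quotient.mk _).comp MvPolynomial.C) g (RingHom.ext fun a => (hgA a).symm) U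
    (by rw [hU, ← Ideal.map_pow, Ideal.map_quotient_self]) hgU
  let E : MvPolynomial σ B →+* Trunc σ B m := ψ.comp (subst m A B z).toRingHom
  have hEC : ∀ c, E (MvPolynomial.C c) = Ideal.Quotient.mk _ (MvPolynomial.C c) := fun c => by
    show ψ (subst m A B z (MvPolynomial.C c)) = _
    rw [subst, MvPolynomial.aeval_C, hψ₁]; rfl
  have hEX : ∀ i, E (MvPolynomial.X i) - Ideal.Quotient.mk _ (MvPolynomial.X i) ∈ U ^ 2 := fun i => by
    show ψ (subst m A B z (MvPolynomial.X i)) - _ ∈ _
    rw [subst, MvPolynomial.aeval_X, zeta, map_sub, hψ₁, hψ₂]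
    convert hg2 i using 1
    rw [map_add, RingHom.comp_apply]; ring
  have hE0 : ∀ p, E p - Ideal.Quotient.mk _ p ∈ U := by
    have : (Ideal.Quotient.mk U).comp E = (Ideal.Quotient.mk U).comp (Ideal.Quotient.mk _) := by
      refine MvPolynomial.ringHom_ext (fun c => ?_) fun i => Ideal.Quotient.eq.2 ?_
      · exact congrArg (Ideal.Quotient.mk U) (hEC c)
      · exact Ideal.pow_le_self two_ne_zero (hEX i)
    exact fun p => Ideal.Quotient.eq.1 (RingHom.congr_fun this p)
  have hEk : ∀ k, ∀ p ∈ varIdeal σ B ^ k, E p - Ideal.Quotient.mk _ p ∈ U ^ (k + 1) := by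
    intro k
    induction k with
    | zero => intro p _; exact mem_pow_one_iff.2 (hE0 p)
    | succ k ih =>
      have hE1 : ∀ y ∈ varIdeal σ B, E y - Ideal.Quotient.mk _ y ∈ U ^ 2 := by
        intro y hy
        induction hy using Submodule.span_induction with
        | mem y hy => obtain ⟨i, rfl⟩ := hy; exact hEX i
        | zero => simp
        | add a b _ _ ha hb =>
          convert add_mem ha hb using 1
          simp only [map_add]; ring
        | smul c a hmem ha =>
          have := add_mem (Ideal.mul_mem_left _ (E c) ha)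
            (mul_mem_pow_add (i := 1) (j := 1) (mem_pow_one_iff.2 (hE0 c))
              (mem_pow_one_iff.2 (Ideal.mem_map_of_mem (Ideal.Quotient.mk _) hmem : _ ∈ U)))
          convert this using 1
          rw [smul_eq_mul, map_mul, map_mul]; ring
      intro p hp
      refine pow_succ_induction (C := fun p => E p - Ideal.Quotient.mk _ p ∈ U ^ (k + 1 + 1)) hp
        (fun x hx y hy => ?_) fun x y hx hy => ?_
      · have hEy : E y ∈ U := by
          have := add_mem (Ideal.pow_le_self two_ne_zero (hE1 y hy))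
            (Ideal.mem_map_of_mem (Ideal.Quotient.mk (varIdeal σ B ^ (m + 1))) hy)
          simpa using this
        have h1 := mul_mem_pow_add (i := k + 1) (j := 1) (ih x hx) (mem_pow_one_iff.2 hEy)
        have h2 : Ideal.Quotient.mk _ x * (E y - Ideal.Quotient.mk _ y) ∈ U ^ (k + 1 + 1) :=
          mul_mem_pow_add (i := k) (j := 2)
            (by rw [hU, ← Ideal.map_pow]; exact Ideal.mem_map_of_mem _ hx) (hE1 y hy)
        convert add_mem h1 h2 using 1
        rw [map_mul, map_mul]; ring
      · convert add_mem hx hy using 1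
        simp only [map_add]; ring
  have hE : E q = 0 := by
    show ψ (subst m A B z q) = 0
    rw [show subst m A B z q = 0 from hq, map_zero]
  suffices ∀ k ≤ m + 1, q ∈ varIdeal σ B ^ k from this (m + 1) le_rfl
  intro k
  induction k with
  | zero => intro _; exact mem_pow_zero' _ _
  | succ k ih =>
    intro hk
    have h1 := hEk k q (ih (by omega))
    rw [hE, zero_sub, neg_mem_iff, hU, ← Ideal.map_pow, Ideal.mem_quotient_iff_mem_sup,
      sup_eq_left.2 (Ideal.pow_le_pow_right (by omega))] at h1
    exact h1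

/-- monomials form a basis -/
theorem exists_monomial_basis {m : ℕ} (hs : Function.Surjective (subst m A B z))
    (hker : RingHom.ker (subst m A B z).toRingHom = varIdeal σ B ^ (m + 1)) :
    ∃ b : Module.Basis {p : σ →₀ ℕ // Finsupp.degree p ≤ m} B (PP16.P m A B),
      ∀ p, b p = subst m A B z (MvPolynomial.monomial p.1 1) := by
  classical
  let v : {p : σ →₀ ℕ // Finsupp.degree p ≤ m} → PP16.P m A B :=
    fun p => subst m A B z (MvPolynomial.monomial p.1 1)
  have hli : LinearIndependent B v := by
    rw [linearIndependent_iff]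
    intro l hl
    have hq : (l.sum fun p a => a • MvPolynomial.monomial p.1 (1 : B)) ∈
        RingHom.ker (subst m A B z).toRingHom := by
      show subst m A B z _ = 0
      rw [← hl, Finsupp.linearCombination_apply, map_finsuppSum]
      simp only [map_smul]; rfl
    rw [hker] at hq
    ext p
    have := coeff_eq_zero_of_mem_pow hq p.2
    rw [Finsupp.sum, MvPolynomial.coeff_sum] at this
    simp only [MvPolynomial.coeff_smul, MvPolynomial.coeff_monomial, smul_eq_mul, mul_ite, mul_one,
      mul_zero] at this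
    simp only [Subtype.val_inj, Finset.sum_ite_eq'] at this
    split_ifs at this with hp
    · exact this
    · simpa using hp
  have hspan : ⊤ ≤ Submodule.span B (Set.range v) := by
    intro x _
    obtain ⟨q, rfl⟩ := hs x
    rw [q.as_sum, map_sum]
    refine Submodule.sum_mem _ fun d _ => ?_
    by_cases hd : Finsupp.degree d ≤ m
    · rw [show MvPolynomial.monomial d (q.coeff d) = q.coeff d • MvPolynomial.monomial d 1 by
        rw [MvPolynomial.smul_monomial, smul_eq_mul, mul_one], map_smul]
      exact Submodule.smul_mem _ _ (Submodule.subset_span ⟨⟨d, hd⟩, rfl⟩)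
    · have : MvPolynomial.monomial d (q.coeff d) ∈ RingHom.ker (subst m A B z).toRingHom := by
        rw [hker, show varIdeal σ B = MvPolynomial.idealOfVars σ B from rfl,
          MvPolynomial.mem_pow_idealOfVars_iff']
        intro x hx
        rw [MvPolynomial.coeff_monomial, if_neg]
        rintro rfl
        omega
      rw [show subst m A B z (MvPolynomial.monomial d (q.coeff d)) = 0 from this]
      exact zero_mem _
  exact ⟨Module.Basis.mk hli hspan, fun p => Module.Basis.mk_apply hli hspan p⟩

/-- coordinate functionals are differential operators -/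
theorem exists_coord_op {m : ℕ} (hs : Function.Surjective (subst m A B z))
    (hker : RingHom.ker (subst m A B z).toRingHom = varIdeal σ B ^ (m + 1)) {p : σ →₀ ℕ}
    (hp : Finsupp.degree p ≤ m) :
    ∃ D : B →ₗ[A] B, IsDiffOpLE A B B B m D ∧
      ∀ q : σ →₀ ℕ, D (q.prod fun i e => z i ^ e) =
        (q.prod fun i e => (MvPolynomial.C (z i) + MvPolynomial.X i) ^ e : MvPolynomial σ B).coeff p := by
  classical
  obtain ⟨b, hb⟩ := exists_monomial_basis hs hker
  let v : PP16.P m A B →ₗ[B] B := (Finsupp.lapply ⟨p, hp⟩).comp b.repr.toLinearMap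
  have hv : ∀ q, v (subst m A B z q) = q.coeff p := by
    intro q
    have : v.comp (subst m A B z).toLinearMap = MvPolynomial.lcoeff B p := by
      refine (MvPolynomial.basisMonomials σ B).ext fun d => ?_
      rw [MvPolynomial.coe_basisMonomials, LinearMap.comp_apply, AlgHom.toLinearMap_apply]
      show v _ = (MvPolynomial.monomial d (1 : B)).coeff p
      rw [MvPolynomial.coeff_monomial]
      by_cases hd : Finsupp.degree d ≤ m
      · rw [show subst m A B z (MvPolynomial.monomial d 1) = b ⟨d, hd⟩ from (hb ⟨d, hd⟩).symm]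
        simp [v, b.repr_self, Finsupp.single_apply, Subtype.ext_iff]
      · have h0 : MvPolynomial.monomial d (1 : B) ∈ RingHom.ker (subst m A B z).toRingHom := by
          rw [hker, show varIdeal σ B = MvPolynomial.idealOfVars σ B from rfl,
            MvPolynomial.mem_pow_idealOfVars_iff']
          intro x hx
          rw [MvPolynomial.coeff_monomial, if_neg]
          rintro rfl
          omega
        rw [show subst m A B z (MvPolynomial.monomial d 1) = 0 from h0, map_zero, if_neg]
        rintro rfl
        exact hd hp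
    exact LinearMap.congr_fun this q
  refine ⟨(v.restrictScalars A).comp (PP16.dn m A B).toLinearMap,
    isDiffOpLE_of_functional v _ fun x => rfl, fun q => ?_⟩
  show v (PP16.dn m A B _) = _
  rw [← subst_translate, hv]

/-- differential smoothness from exact kernels -/
theorem isDiffSmooth_of_ker (hz : Submodule.span B (Set.range fun i => KaehlerDifferential.D A B (z i)) = ⊤)
    (hker : ∀ m, RingHom.ker (subst m A B z).toRingHom = varIdeal σ B ^ (m + 1)) :
    PP16.IsDiffSmooth A B ∧
      ∃ b : Module.Basis σ B (KaehlerDifferential A B), ∀ i, b i = KaehlerDifferential.D A B (z i) := by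
  have hli : LinearIndependent B fun i => KaehlerDifferential.D A B (z i) := by
    rw [linearIndependent_iff]
    intro c hc
    rw [Finsupp.linearCombination_apply] at hc
    have h0 := subst_linForm (A := A) z 1 c
    rw [hc] at h0
    have h00 : (2 : ℕ) = 1 + 1 := rfl
    rw [h00, augIdeal_pow, Ideal.mem_bot] at h0
    obtain ⟨hadd, -⟩ := exists_additive_liftP (A := A) (B := B) 1
    have hl0 : liftP 1 (0 : KaehlerDifferential A B) = (0 : PP16.P 1 A B) := by
      have := hadd 0 0
      rw [h00, augIdeal_pow, Ideal.mem_bot, add_zero, sub_eq_zero] at this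
      simpa using this
    rw [hl0, sub_zero] at h0
    have hmem : linForm c ∈ varIdeal σ B ^ (1 + 1) := hker 1 ▸ h0
    have hc0 := eq_zero_of_isHomogeneous_of_mem_pow (linForm_isHomogeneous c) hmem
    ext i
    have h3 : ∀ d : σ →₀ B, (linForm d).coeff (Finsupp.single i 1) = d i := by
      intro d
      classical
      induction d using Finsupp.induction_linear with
      | zero => simp
      | add a b ha hb => rw [map_add, MvPolynomial.coeff_add, ha, hb]; rfl
      | single j b =>
        rw [linForm_single, MvPolynomial.coeff_C_mul, MvPolynomial.coeff_X', Finsupp.single_apply]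
        simp [Finsupp.single_left_inj]
    rw [← h3 c, hc0]
    simp
  let b := Module.Basis.mk hli hz.ge
  have hb : ∀ i, b i = KaehlerDifferential.D A B (z i) := fun i => Module.Basis.mk_apply hli hz.ge i
  refine ⟨?_, b, hb⟩
  haveI : Module.Projective B (KaehlerDifferential A B) := Module.Projective.of_basis b
  refine isDiffSmooth_of_taylor b.repr.symm.toLinearMap (L := b.repr.toLinearMap)
    (fun w => b.repr.symm_apply_apply w) fun n => ?_
  have hs := subst_surjective z hz n
  let ψ : PP16.P n A B →ₐ[B] Trunc σ B n :=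
    AlgHom.liftOfSurjective (subst n A B z) hs (Ideal.Quotient.mkₐ B _) (by
      rw [hker n]; exact (Ideal.Quotient.mkₐ_ker B _).ge)
  have hψ : ∀ q, ψ (subst n A B z q) = Ideal.Quotient.mk _ q := fun q =>
    AlgHom.liftOfSurjective_apply _ _ _ _ q
  refine ⟨ψ.toRingHom.comp (PP16.dn n A B).toRingHom, fun a => ?_, fun x => ?_⟩
  · show ψ (PP16.dn n A B (algebraMap A B a)) = _
    rw [AlgHom.commutes, IsScalarTower.algebraMap_apply A B (PP16.P n A B), AlgHom.commutes]
    rfl
  · obtain ⟨c, hc, hcz⟩ := exists_subst_approx z hz n x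
    have hrepr : b.repr (KaehlerDifferential.D A B x) = c := by
      rw [hc, ← show Finsupp.linearCombination B b c = c.sum fun i a => a • KaehlerDifferential.D A B (z i) by
        rw [Finsupp.linearCombination_apply]; simp only [hb]]
      exact b.repr_linearCombination c
    show ψ (PP16.dn n A B x) - _ ∈ _
    have hU : ∀ a ∈ PP16.augIdeal n A B, ψ a ∈ (varIdeal σ B).map (Ideal.Quotient.mk _) := by
      intro a ha
      obtain ⟨p, hp, rfl⟩ := exists_preimage_pow z hs (k := 1) (mem_pow_one_iff.2 ha)
      rw [hψ]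
      exact map_mk_mem_of _ _ (mem_pow_one_iff.1 hp)
    rw [Ideal.map_pow]
    have h1 := map_pow_mem ψ.toRingHom hU hcz
    convert h1 using 1
    rw [LinearEquiv.coe_coe, hrepr, dn_eq]
    show ψ (_ + _) - _ = ψ (_ - _)
    rw [map_add, map_sub, hψ, AlgHom.commutes, map_add]
    show algebraMap B (Trunc σ B n) x + _ - (algebraMap B (Trunc σ B n) x + _) = _
    ring

end Smooth

end Groth.Agent.PP16Lib29
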