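import Groth.Agent.PP16Lib29.Gr
import Mathlib.RingTheory.Smooth.Basic
import Mathlib.RingTheory.Nilpotent.Exp
import Mathlib.RingTheory.DualNumber
import Mathlib.Algebra.Module.Projective

/-! # Differential smoothness from Taylor maps -/

set_option autoImplicit false

noncomputable section

open scoped TensorProduct

namespace Groth.Agent.PP16Lib29

universe u v

variable (A B : Type u) [CommRing A] [CommRing B] [Algebra A B]

local notation "𝓘" => KaehlerDifferential.ideal A B

/-- the ideal generated by the variables -/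
abbrev varIdeal (σ : Type v) (B : Type u) [CommRing B] : Ideal (MvPolynomial σ B) :=
  Ideal.span (Set.range (MvPolynomial.X : σ → MvPolynomial σ B))

/-- A Taylor map of order `n` with linear part `L`. -/
def HasTaylor {σ : Type v} (L : KaehlerDifferential A B →ₗ[B] (σ →₀ B)) (n : ℕ) : Prop :=
  ∃ g : B →+* Trunc σ B n,
    (∀ a, g (algebraMap A B a) = Ideal.Quotient.mk _ (MvPolynomial.C (algebraMap A B a))) ∧
    ∀ b, g b - Ideal.Quotient.mk _ (MvPolynomial.C b + linForm (L (KaehlerDifferential.D A B b))) ∈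
      (varIdeal σ B ^ 2).map (Ideal.Quotient.mk _)

theorem map_pow_mem {R S : Type*} [CommRing R] [CommRing S] (f : R →+* S) {I : Ideal R} {J : Ideal S}
    (h : ∀ x ∈ I, f x ∈ J) {k : ℕ} {x : R} (hx : x ∈ I ^ k) : f x ∈ J ^ k :=
  Ideal.pow_right_mono (Ideal.map_le_iff_le_comap.2 h) k
    (Ideal.map_pow f I k ▸ Ideal.mem_map_of_mem f hx)

theorem map_mk_mem_of {R : Type*} [CommRing R] (J K : Ideal R) {x : R} (hx : x ∈ K) :
    Ideal.Quotient.mk J x ∈ K.map (Ideal.Quotient.mk J) := Ideal.mem_map_of_mem _ hx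

section Crit

variable {A B} {σ : Type v} {L : KaehlerDifferential A B →ₗ[B] (σ →₀ B)}

/-- A Taylor map gives a partial inverse of `φ`. -/
theorem exists_detect {n : ℕ} (hg : HasTaylor A B L n) :
    ∃ Λ : B ⊗[A] B →+* Trunc σ B n,
      (∀ c : B, Λ (algebraMap B (B ⊗[A] B) c) = Ideal.Quotient.mk _ (MvPolynomial.C c)) ∧
      (∀ x ∈ 𝓘, Λ x ∈ (varIdeal σ B).map (Ideal.Quotient.mk _)) ∧
      ∀ w, Λ (liftΩ A B w) - Ideal.Quotient.mk _ (linForm (L w)) ∈
        ((varIdeal σ B).map (Ideal.Quotient.mk _)) ^ 2 := by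
  obtain ⟨g, hgA, hg⟩ := hg
  set U : Ideal (Trunc σ B n) := (varIdeal σ B).map (Ideal.Quotient.mk _) with hU
  have hUpow : U ^ (n + 1) = ⊥ := by rw [hU, ← Ideal.map_pow, Ideal.map_quotient_self]
  have hg2 : ∀ b, g b - Ideal.Quotient.mk _ (MvPolynomial.C b + linForm (L (KaehlerDifferential.D A B b))) ∈
      U ^ 2 := fun b => by rw [hU, ← Ideal.map_pow]; exact hg b
  have hU2 : U ^ 2 ≤ U := Ideal.pow_le_self two_ne_zero
  obtain ⟨ψ, hψ₁, hψ₂⟩ := exists_lift (n := n) (A := A) (B := B) (R := Trunc σ B n)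
    ((Ideal.Quotient.mk _).comp MvPolynomial.C) g (RingHom.ext fun a => (hgA a).symm) U hUpow
    (fun b => by
      have h1 := hU2 (hg2 b)
      have h2 : Ideal.Quotient.mk _ (linForm (L (KaehlerDifferential.D A B b))) ∈ U :=
        Ideal.mem_map_of_mem _ (linForm_mem _)
      have := add_mem h1 h2
      rw [map_add] at this
      show g b - Ideal.Quotient.mk _ (MvPolynomial.C b) ∈ U
      convert this using 1
      ring)
  let Λ : B ⊗[A] B →+* Trunc σ B n := ψ.comp (Ideal.Quotient.mk _)
  have hΛl : ∀ c : B, Λ (algebraMap B (B ⊗[A] B) c) = Ideal.Quotient.mk _ (MvPolynomial.C c) :=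
    fun c => hψ₁ c
  have hΛr : ∀ c : B, Λ ((1 : B) ⊗ₜ[A] c) = g c := fun c => hψ₂ c
  have hΛd : ∀ b : B, Λ ((1 : B) ⊗ₜ[A] b - b ⊗ₜ[A] (1 : B)) -
      Ideal.Quotient.mk _ (linForm (L (KaehlerDifferential.D A B b))) ∈ U ^ 2 := by
    intro b
    have h1 : Λ (b ⊗ₜ[A] (1 : B)) = Ideal.Quotient.mk _ (MvPolynomial.C b) := hΛl b
    rw [map_sub, hΛr, h1, sub_sub, ← map_add]
    exact hg2 b
  have hΛI : ∀ x ∈ 𝓘, Λ x ∈ U := by
    have : 𝓘 ≤ U.comap Λ := by
      rw [← KaehlerDifferential.span_range_eq_ideal, Ideal.span_le]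
      rintro _ ⟨b, rfl⟩
      have h2 : Ideal.Quotient.mk _ (linForm (L (KaehlerDifferential.D A B b))) ∈ U :=
        Ideal.mem_map_of_mem _ (linForm_mem _)
      have := add_mem (hU2 (hΛd b)) h2
      rwa [sub_add_cancel] at this
    exact fun x hx => this hx
  have hΛI2 : ∀ x ∈ 𝓘 ^ 2, Λ x ∈ U ^ 2 := fun x hx => map_pow_mem Λ hΛI hx
  refine ⟨Λ, hΛl, hΛI, fun w => ?_⟩
  have hw : w ∈ Submodule.span B (Set.range (KaehlerDifferential.D A B)) := by
    rw [KaehlerDifferential.span_range_derivation]; trivial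
  induction hw using Submodule.span_induction with
  | mem w hw =>
    obtain ⟨b, rfl⟩ := hw
    have h1 := hΛI2 _ (liftΩ_D A B b)
    rw [map_sub] at h1
    have := add_mem h1 (hΛd b)
    rwa [sub_add_sub_cancel] at this
  | zero =>
    have h1 := hΛI2 _ (liftΩ_add A B 0 0)
    rw [add_zero, map_sub, map_add] at h1
    have : Λ (liftΩ A B 0) ∈ U ^ 2 := by
      have := neg_mem h1
      rw [neg_sub, add_sub_cancel_right] at this
      exact this
    simpa using this
  | add a b _ _ ha hb =>
    have h1 := hΛI2 _ (liftΩ_add A B a b)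
    rw [map_sub, map_add] at h1
    have := add_mem h1 (add_mem ha hb)
    convert this using 1
    simp only [map_add]
    ring
  | smul c a _ ha =>
    have h1 := hΛI2 _ (liftΩ_smul A B c a)
    rw [map_sub, smul_eq_mul_algebraMap, map_mul, hΛl] at h1
    have := add_mem h1 (Ideal.mul_mem_left _ (Ideal.Quotient.mk _ (MvPolynomial.C c)) ha)
    convert this using 1
    rw [map_smul, map_smul, MvPolynomial.smul_eq_C_mul, map_mul]
    ring

/-- Injectivity of `φ` from a Taylor map. -/
theorem phi_injective_of_taylor (r : (σ →₀ B) →ₗ[B] KaehlerDifferential A B) (hrL : ∀ w, r (L w) = w)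
    (ι : Type u) [Fintype ι] (hg : HasTaylor A B L (Fintype.card ι))
    (φ : SymmetricPower B ι (KaehlerDifferential A B) →ₗ[B] PP16.grI A B (Fintype.card ι))
    (hφ : ∀ w, φ (SymmetricPower.tprod B w) = cls A B _ (prodLift A B ι w)) :
    Function.Injective φ := by
  classical
  obtain ⟨Λ, hΛl, hΛI, hΛ⟩ := exists_detect hg
  set U : Ideal (Trunc σ B (Fintype.card ι)) := (varIdeal σ B).map (Ideal.Quotient.mk _) with hU
  have hUpow : U ^ ((Fintype.card ι) + 1) = ⊥ := by rw [hU, ← Ideal.map_pow, Ideal.map_quotient_self]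
  obtain ⟨S, hS, hShom⟩ := exists_symToPoly L ι
  let Λl : ↥((𝓘 ^ (Fintype.card ι)).restrictScalars B) →ₗ[B] Trunc σ B (Fintype.card ι) :=
    { toFun := fun x => Λ x.1
      map_add' := fun x y => map_add Λ x.1 y.1
      map_smul' := fun c x => by
        show Λ (c • x.1) = c • Λ x.1
        rw [smul_eq_mul_algebraMap, map_mul, hΛl]
        exact (Algebra.smul_def c (Λ x.1)).symm }
  have hkill : ((𝓘 ^ ((Fintype.card ι) + 1)).restrictScalars B).comap ((𝓘 ^ (Fintype.card ι)).restrictScalars B).subtype ≤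
      LinearMap.ker Λl := by
    intro x hx
    have h1 : Λ x.1 ∈ U ^ (Fintype.card ι + 1) := map_pow_mem Λ hΛI hx
    rw [hUpow, Ideal.mem_bot] at h1
    exact h1
  let Λ' : PP16.grI A B (Fintype.card ι) →ₗ[B] Trunc σ B (Fintype.card ι) := Submodule.liftQ _ Λl hkill
  have hcomp : Λ'.comp φ = (Ideal.Quotient.mkₐ B (varIdeal σ B ^ ((Fintype.card ι) + 1))).toLinearMap.comp S := by
    refine LinearMap.ext_on (s := Set.range (SymmetricPower.tprod B (ι := ι) (M := KaehlerDifferential A B)))
      (by rw [SymmetricPower.span_tprod_eq_top]) ?_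
    rintro _ ⟨w, rfl⟩
    show Λ' (φ _) = Ideal.Quotient.mk _ (S _)
    rw [hφ, hS]
    show Λ (∏ i, liftΩ A B (w i)) = Ideal.Quotient.mk _ (∏ i, linForm (L (w i)))
    rw [map_prod, map_prod, ← sub_eq_zero]
    have := prod_sub_prod_mem U Finset.univ (fun i => Λ (liftΩ A B (w i)))
      (fun i => Ideal.Quotient.mk (varIdeal σ B ^ ((Fintype.card ι) + 1)) (linForm (L (w i))))
      (fun i _ => hΛI _ (liftΩ_mem A B (w i)))
      (fun i _ => Ideal.mem_map_of_mem _ (linForm_mem _))
      (fun i _ => hΛ (w i))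
    rw [Finset.card_univ, hUpow, Ideal.mem_bot] at this
    exact this
  refine (injective_iff_map_eq_zero φ).2 fun x hx => symToPoly_injective L r hrL ι S hS ?_
  have h1 := LinearMap.congr_fun hcomp x
  rw [LinearMap.comp_apply, hx, map_zero] at h1
  rw [map_zero]
  exact eq_zero_of_isHomogeneous_of_mem_pow (hShom x) (Ideal.Quotient.eq_zero_iff_mem.1 h1.symm)

/-- The criterion. -/
theorem isDiffSmooth_of_taylor [Module.Projective B (KaehlerDifferential A B)]
    (r : (σ →₀ B) →ₗ[B] KaehlerDifferential A B) (hrL : ∀ w, r (L w) = w)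
    (hg : ∀ n, HasTaylor A B L n) : PP16.IsDiffSmooth A B := by
  refine ⟨inferInstance, fun ι _ => ?_⟩
  obtain ⟨φ, hφD, hφ⟩ := exists_phi A B ι
  exact ⟨φ, hφD, phi_injective_of_taylor r hrL ι (hg _) φ hφ, phi_surjective A B ι φ hφD⟩

end Crit

section FormallySmooth

theorem linForm_D_mul {σ : Type v} (L : KaehlerDifferential A B →ₗ[B] (σ →₀ B)) (x y : B) :
    linForm (L (KaehlerDifferential.D A B (x * y))) =
      MvPolynomial.C x * linForm (L (KaehlerDifferential.D A B y)) +
        MvPolynomial.C y * linForm (L (KaehlerDifferential.D A B x)) := by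
  rw [Derivation.leibniz, map_add, map_add, map_smul, map_smul, map_smul, map_smul,
    MvPolynomial.smul_eq_C_mul, MvPolynomial.smul_eq_C_mul]

/-- Formally smooth algebras have Taylor maps. -/
theorem hasTaylor_of_formallySmooth [Algebra.FormallySmooth A B] {σ : Type u}
    (L : KaehlerDifferential A B →ₗ[B] (σ →₀ B)) (n : ℕ) : HasTaylor A B L n := by
  set J : Ideal (Trunc σ B n) := (varIdeal σ B ^ 2).map (Ideal.Quotient.mk _) with hJ
  have hnil : IsNilpotent J := ⟨n + 1, by
    rw [Ideal.zero_eq_bot, eq_bot_iff, hJ, ← Ideal.map_pow, ← pow_mul]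
    refine (Ideal.map_mono (Ideal.pow_le_pow_right (show n + 1 ≤ 2 * (n + 1) by omega))).trans ?_
    rw [Ideal.map_quotient_self]⟩
  let D₁ : B → MvPolynomial σ B := fun b => linForm (L (KaehlerDifferential.D A B b))
  let q : MvPolynomial σ B →+* Trunc σ B n ⧸ J := (Ideal.Quotient.mk J).comp (Ideal.Quotient.mk _)
  have hq2 : ∀ x ∈ varIdeal σ B ^ 2, q x = 0 := fun x hx =>
    Ideal.Quotient.eq_zero_iff_mem.2 (Ideal.mem_map_of_mem _ hx)
  let g₁ : B →+* Trunc σ B n ⧸ J :=
    { toFun := fun b => q (MvPolynomial.C b + D₁ b)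
      map_one' := by simp [D₁]
      map_mul' := fun x y => by
        rw [← map_mul q, ← sub_eq_zero, ← map_sub]
        refine hq2 _ ?_
        have e : MvPolynomial.C (x * y) + D₁ (x * y) -
            (MvPolynomial.C x + D₁ x) * (MvPolynomial.C y + D₁ y) = -(D₁ x * D₁ y) := by
          simp only [D₁, linForm_D_mul, map_mul]
          ring
        rw [e, sq]
        exact neg_mem (Ideal.mul_mem_mul (linForm_mem _) (linForm_mem _))
      map_zero' := by simp [D₁]
      map_add' := fun x y => by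
        rw [← map_add q]
        simp only [D₁, map_add]
        ring_nf }
  let g₁' : B →ₐ[A] Trunc σ B n ⧸ J :=
    { g₁ with
      commutes' := fun a => by
        show q (MvPolynomial.C (algebraMap A B a) + D₁ (algebraMap A B a)) = _
        simp only [D₁, Derivation.map_algebraMap, map_zero, add_zero]
        rfl }
  obtain ⟨g, hg⟩ := Algebra.FormallySmooth.exists_lift J hnil g₁'
  refine ⟨g.toRingHom, fun a => g.commutes a, fun b => ?_⟩
  rw [← hJ, ← Ideal.Quotient.eq]
  exact AlgHom.congr_fun hg b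

theorem isDiffSmooth_of_formallySmooth [Algebra.FormallySmooth A B] : PP16.IsDiffSmooth A B := by
  obtain ⟨s, hs⟩ := (inferInstance : Module.Projective B (KaehlerDifferential A B)).out
  exact isDiffSmooth_of_taylor (L := s) (Finsupp.linearCombination B id) hs
    (hasTaylor_of_formallySmooth A B s)

end FormallySmooth

section CharZero

variable [Algebra ℚ B]

theorem hasTaylor_of_rat {σ : Type u} (L : KaehlerDifferential A B →ₗ[B] (σ →₀ B)) (n : ℕ) :
    HasTaylor A B L n := by
  classical
  let R := MvPolynomial σ B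
  let D₁ : B → R := fun b => linForm (L (KaehlerDifferential.D A B b))
  let c₁ : B →+* DualNumber R :=
    { toFun := fun b => TrivSqZeroExt.inl (MvPolynomial.C b) + TrivSqZeroExt.inr (D₁ b)
      map_one' := by simp [D₁]
      map_mul' := fun x y => by
        refine TrivSqZeroExt.ext ?_ ?_
        · simp only [TrivSqZeroExt.fst_mul, TrivSqZeroExt.fst_add, TrivSqZeroExt.fst_inl,
            TrivSqZeroExt.fst_inr, add_zero, map_mul]
        · simp only [D₁, TrivSqZeroExt.snd_mul, TrivSqZeroExt.snd_add, TrivSqZeroExt.fst_add,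
            TrivSqZeroExt.fst_inl, TrivSqZeroExt.fst_inr, TrivSqZeroExt.snd_inl, TrivSqZeroExt.snd_inr,
            add_zero, zero_add, linForm_D_mul, smul_eq_mul, op_smul_eq_mul]
          ring
      map_zero' := by simp [D₁]
      map_add' := fun x y => by
        simp only [D₁, map_add, TrivSqZeroExt.inr_add]
        rw [TrivSqZeroExt.inl_add]
        abel }
  let Φ : R →+* DualNumber R :=
    MvPolynomial.eval₂Hom c₁ fun i => TrivSqZeroExt.inl (MvPolynomial.X i)
  have hΦC : ∀ b, Φ (MvPolynomial.C b) =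
      TrivSqZeroExt.inl (MvPolynomial.C b) + TrivSqZeroExt.inr (D₁ b) :=
    fun b => MvPolynomial.eval₂Hom_C _ _ b
  have hΦX : ∀ i, Φ (MvPolynomial.X i) = TrivSqZeroExt.inl (MvPolynomial.X i) :=
    fun i => MvPolynomial.eval₂Hom_X' _ _ i
  have hΦfst : ∀ p, (Φ p).fst = p := by
    intro p
    induction p using MvPolynomial.induction_on with
    | C b => rw [hΦC, TrivSqZeroExt.fst_add, TrivSqZeroExt.fst_inl, TrivSqZeroExt.fst_inr, add_zero]
    | add p q hp hq => rw [map_add, TrivSqZeroExt.fst_add, hp, hq]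
    | mul_X p i hp => rw [map_mul, TrivSqZeroExt.fst_mul, hp, hΦX, TrivSqZeroExt.fst_inl]
  let δ : R →ₗ[A] R :=
    { toFun := fun p => (Φ p).snd
      map_add' := fun p q => by rw [map_add, TrivSqZeroExt.snd_add]
      map_smul' := fun a p => by
        rw [Algebra.smul_def, map_mul, TrivSqZeroExt.snd_mul, RingHom.id_apply]
        rw [hΦfst, show (Φ (algebraMap A R a)).snd = 0 by
          rw [show algebraMap A R a = MvPolynomial.C (algebraMap A B a) from rfl, hΦC,
            TrivSqZeroExt.snd_add, TrivSqZeroExt.snd_inl, TrivSqZeroExt.snd_inr, zero_add]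
          simp [D₁]]
        simp [Algebra.smul_def] }
  have hδmul : ∀ p q, δ (p * q) = p * δ q + δ p * q := fun p q => by
    show (Φ (p * q)).snd = p * (Φ q).snd + (Φ p).snd * q
    rw [map_mul, TrivSqZeroExt.snd_mul, hΦfst, hΦfst]
    simp [mul_comm]
  have hδC : ∀ b, δ (MvPolynomial.C b) = D₁ b := fun b => by
    show (Φ (MvPolynomial.C b)).snd = D₁ b
    rw [hΦC, TrivSqZeroExt.snd_add, TrivSqZeroExt.snd_inl, TrivSqZeroExt.snd_inr, zero_add]
  have hδX : ∀ i, δ (MvPolynomial.X i) = 0 := fun i => by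
    show (Φ (MvPolynomial.X i)).snd = 0
    rw [hΦX, TrivSqZeroExt.snd_inl]
  have hδ0 : ∀ p, δ p ∈ varIdeal σ B := by
    intro p
    induction p using MvPolynomial.induction_on with
    | C b => rw [hδC]; exact linForm_mem _
    | add p q hp hq => rw [map_add]; exact add_mem hp hq
    | mul_X p i hp => rw [hδmul, hδX, mul_zero, zero_add]; exact Ideal.mul_mem_right _ _ hp
  have hδ1 : ∀ p ∈ varIdeal σ B, δ p ∈ varIdeal σ B ^ 2 := by
    intro p hp
    induction hp using Submodule.span_induction with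
    | mem y hy => obtain ⟨i, rfl⟩ := hy; rw [hδX]; exact zero_mem _
    | zero => rw [map_zero]; exact zero_mem _
    | add a b _ _ ha hb => rw [map_add]; exact add_mem ha hb
    | smul c a hmem ha =>
      rw [smul_eq_mul, hδmul]
      refine add_mem (Ideal.mul_mem_left _ _ ha) ?_
      rw [sq]
      exact Ideal.mul_mem_mul (hδ0 c) hmem
  have hδk : ∀ k, ∀ p ∈ varIdeal σ B ^ k, δ p ∈ varIdeal σ B ^ (k + 1) := by
    intro k
    induction k with
    | zero => intro p _; rw [zero_add, pow_one]; exact hδ0 p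
    | succ k ih =>
      intro p hp
      rw [pow_succ] at hp
      refine Submodule.mul_induction_on hp (fun a ha b hb => ?_) (fun a b ha hb => ?_)
      · rw [hδmul]
        refine add_mem ?_ ?_
        · have := Ideal.mul_mem_mul ha (hδ1 b hb)
          rwa [← pow_add] at this
        · have := Ideal.mul_mem_mul (ih a ha) hb
          rwa [← pow_succ] at this
      · rw [map_add]; exact add_mem ha hb
  set K : Ideal R := varIdeal σ B ^ (n + 1) with hK
  have hδK : ∀ p ∈ K, δ p ∈ K := fun p hp =>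
    Ideal.pow_le_pow_right (Nat.le_succ _) (hδk (n + 1) p hp)
  let sec : R ⧸ K → R := Function.surjInv Ideal.Quotient.mk_surjective
  have hsec : ∀ y, Ideal.Quotient.mk K (sec y) = y := Function.surjInv_eq _
  have hwd : ∀ y p, Ideal.Quotient.mk K p = y → Ideal.Quotient.mk K (δ p) = Ideal.Quotient.mk K (δ (sec y)) :=
    fun y p h => by
      rw [Ideal.Quotient.eq, ← map_sub]
      exact hδK _ (Ideal.Quotient.eq.1 (h.trans (hsec y).symm))
  let δ' : (R ⧸ K) →ₗ[A] (R ⧸ K) :=
    { toFun := fun y => Ideal.Quotient.mk K (δ (sec y))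
      map_add' := fun x y => by
        rw [← map_add, ← map_add δ]
        exact (hwd (x + y) _ (by rw [map_add, hsec, hsec])).symm
      map_smul' := fun a y => by
        rw [RingHom.id_apply, ← Ideal.Quotient.mkₐ_eq_mk A, ← map_smul, ← map_smul δ, Ideal.Quotient.mkₐ_eq_mk]
        exact (hwd (a • y) _ (by
          rw [← Ideal.Quotient.mkₐ_eq_mk A, map_smul, Ideal.Quotient.mkₐ_eq_mk, hsec])).symm }
  have hδ' : ∀ p, δ' (Ideal.Quotient.mk K p) = Ideal.Quotient.mk K (δ p) := fun p => (hwd _ p rfl).symm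
  have hiter : ∀ k p, (δ' ^ k) (Ideal.Quotient.mk K p) = Ideal.Quotient.mk K ((δ ^ k) p) := by
    intro k
    induction k with
    | zero => intro p; rfl
    | succ k ih => intro p; rw [pow_succ', pow_succ', Module.End.mul_apply, Module.End.mul_apply, ih, hδ']
  have hiterU : ∀ k p, (δ ^ k) p ∈ varIdeal σ B ^ k := by
    intro k
    induction k with
    | zero => intro p; rw [pow_zero, pow_zero, Ideal.one_eq_top]; trivial
    | succ k ih => intro p; rw [pow_succ' δ, Module.End.mul_apply]; exact hδk k _ (ih p)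
  have hpow : ∀ j, n + 1 ≤ j → δ' ^ j = 0 := by
    intro j hj
    refine LinearMap.ext fun y => ?_
    obtain ⟨p, rfl⟩ := Ideal.Quotient.mk_surjective y
    rw [hiter, LinearMap.zero_apply, Ideal.Quotient.eq_zero_iff_mem, hK]
    exact Ideal.pow_le_pow_right hj (hiterU j p)
  have hder : ∀ x y, δ' (x * y) = x * δ' y + δ' x * y := by
    intro x y
    obtain ⟨p, rfl⟩ := Ideal.Quotient.mk_surjective x
    obtain ⟨q, rfl⟩ := Ideal.Quotient.mk_surjective y
    rw [← map_mul, hδ', hδ', hδ', hδmul, map_add, map_mul, map_mul]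
  let E : Module.End A (R ⧸ K) := IsNilpotent.exp δ'
  have hE : ∀ y, E y = ∑ i ∈ Finset.range (n + 2), (i.factorial : ℚ)⁻¹ • (δ' ^ i) y := by
    intro y
    simp only [E, IsNilpotent.exp_eq_sum (hpow (n + 2) (by omega)), LinearMap.sum_apply, LinearMap.smul_apply]
  have hEmul : ∀ x y, E (x * y) = E x * E y :=
    Module.End.exp_mul_of_derivation A (R ⧸ K) δ' hder ⟨n + 1, hpow _ le_rfl⟩
  have hEfix : ∀ y, δ' y = 0 → E y = y := by
    intro y hy
    rw [hE, Finset.sum_range_succ']
    simp only [pow_zero, Module.End.one_apply, Nat.factorial_zero, Nat.cast_one, inv_one, one_smul]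
    rw [Finset.sum_eq_zero fun i _ => by rw [pow_succ, Module.End.mul_apply, hy, map_zero, smul_zero],
      zero_add]
  let g : B →+* Trunc σ B n :=
    { toFun := fun b => E (Ideal.Quotient.mk K (MvPolynomial.C b))
      map_one' := by
        rw [map_one, map_one]
        refine hEfix _ ?_
        rw [← map_one (Ideal.Quotient.mk K), hδ', ← map_one MvPolynomial.C, hδC]
        simp [D₁]
      map_mul' := fun x y => by rw [map_mul, map_mul, hEmul]
      map_zero' := by rw [map_zero, map_zero, map_zero]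
      map_add' := fun x y => by rw [map_add, map_add, map_add] }
  refine ⟨g, fun a => hEfix _ ?_, fun b => ?_⟩
  · rw [hδ', hδC]
    simp [D₁]
  · show E (Ideal.Quotient.mk K (MvPolynomial.C b)) - _ ∈ _
    rw [hE, Finset.sum_range_succ', Finset.sum_range_succ']
    simp only [pow_zero, pow_one, zero_add, Module.End.one_apply, Nat.factorial_zero,
      Nat.factorial_one, Nat.cast_one, inv_one, one_smul]
    rw [hδ', hδC, map_add]
    have e : ∀ (s x y : Trunc σ B n), s + x + y - (y + x) = s := fun s x y => by ring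
    refine (e _ _ _).symm ▸ Ideal.sum_mem _ fun i _ => ?_
    rw [hiter, ← algebraMap_smul (Trunc σ B n) (((i + 1 + 1).factorial : ℚ)⁻¹), smul_eq_mul]
    refine Ideal.mul_mem_left _ _ (Ideal.mem_map_of_mem _ ?_)
    exact Ideal.pow_le_pow_right (by omega) (hiterU (i + 1 + 1) _)

theorem isDiffSmooth_of_rat_of_free [Module.Free B (KaehlerDifferential A B)] : PP16.IsDiffSmooth A B :=
  isDiffSmooth_of_taylor (L := (Module.Free.chooseBasis B (KaehlerDifferential A B)).repr.toLinearMap)
    (Module.Free.chooseBasis B (KaehlerDifferential A B)).repr.symm.toLinearMap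
    (fun w => (Module.Free.chooseBasis B (KaehlerDifferential A B)).repr.symm_apply_apply w)
    (hasTaylor_of_rat A B _)

end CharZero

end Groth.Agent.PP16Lib29
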