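import Groth.Agent.PP16Lib29.Basic
import Mathlib.RingTheory.Localization.BaseChange
import Mathlib.RingTheory.IsTensorProduct
import Mathlib.RingTheory.Nilpotent.Basic

/-! # Functoriality of principal parts -/

set_option autoImplicit false

noncomputable section

open scoped TensorProduct

namespace Groth.Agent.PP16Lib29

universe u v

variable (n : ℕ)

/-- A ring map sending `K` into a nilpotent ideal kills the corresponding power of `K`. -/
theorem pow_le_ker {X R : Type*} [CommRing X] [CommRing R] (φ : X →+* R) (K : Ideal X) (J : Ideal R)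
    {m : ℕ} (hJ : J ^ m = ⊥) (h : ∀ b ∈ K, φ b ∈ J) : K ^ m ≤ RingHom.ker φ := by
  rw [← Ideal.map_eq_bot_iff_le_ker, eq_bot_iff, Ideal.map_pow, ← hJ]
  exact Ideal.pow_right_mono (Ideal.map_le_iff_le_comap.2 h) m

section Map

variable (A B A' B' : Type u) [CommRing A] [CommRing B] [Algebra A B]
  [CommRing A'] [CommRing B'] [Algebra A' B'] [Algebra A A'] [Algebra B B'] [Algebra A B']
  [IsScalarTower A A' B'] [IsScalarTower A B B']

theorem map_zeta (b : B) :
    PP16.map n A B A' B' (zeta n A B b) = zeta n A' B' (algebraMap B B' b) := by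
  rw [zeta, map_sub, PP16.map_dn, PP16.map_algebraMap, zeta]

theorem map_augIdeal_le_augIdeal :
    (PP16.augIdeal n A B).map (PP16.map n A B A' B') ≤ PP16.augIdeal n A' B' := by
  rw [augIdeal_eq_span n A B, Ideal.map_span, Ideal.span_le]
  rintro _ ⟨_, ⟨b, rfl⟩, rfl⟩
  rw [map_zeta]
  exact zeta_mem n A' B' _

theorem map_surjective (h : Function.Surjective (algebraMap B B')) :
    Function.Surjective (PP16.map n A B A' B') := by
  intro y
  obtain ⟨y, rfl⟩ := Ideal.Quotient.mk_surjective y
  induction y using TensorProduct.induction_on with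
  | zero => exact ⟨0, map_zero _⟩
  | tmul b c =>
    obtain ⟨b, rfl⟩ := h b
    obtain ⟨c, rfl⟩ := h c
    exact ⟨Ideal.Quotient.mk _ (b ⊗ₜ[A] c), by rw [PP16.map_mk, PP16.tensorMap_tmul]⟩
  | add a b ha hb =>
    obtain ⟨x, hx⟩ := ha
    obtain ⟨y, hy⟩ := hb
    exact ⟨x + y, by rw [map_add, hx, hy, map_add]⟩

end Map

section Tower

variable (A B C : Type u) [CommRing A] [CommRing B] [CommRing C]
    [Algebra A B] [Algebra B C] [Algebra A C] [IsScalarTower A B C]

theorem map_tower :
    Function.Surjective (PP16.map n A C B C) ∧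
      RingHom.ker (PP16.map n A C B C) = (PP16.augIdeal n A B).map (PP16.map n A B A C) := by
  refine ⟨map_surjective n A C B C fun c => ⟨c, rfl⟩, le_antisymm ?_ ?_⟩
  · set K : Ideal (PP16.P n A C) := (PP16.augIdeal n A B).map (PP16.map n A B A C) with hK
    obtain ⟨ψ, hψ₁, hψ₂⟩ := exists_lift (n := n) (A := B) (B := C) (R := PP16.P n A C ⧸ K)
      ((Ideal.Quotient.mk K).comp (algebraMap C (PP16.P n A C)))
      ((Ideal.Quotient.mk K).comp (PP16.dn n A C).toRingHom)
      (RingHom.ext fun b => by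
        refine (Ideal.Quotient.eq.2 ?_).symm
        have hmem : PP16.map n A B A C (zeta n A B b) ∈ K := Ideal.mem_map_of_mem _ (zeta_mem n A B b)
        rw [map_zeta] at hmem
        exact hmem)
      ((PP16.augIdeal n A C).map (Ideal.Quotient.mk K))
      (by rw [← Ideal.map_pow, augIdeal_pow, Ideal.map_bot])
      (fun c => by
        simp only [RingHom.comp_apply, ← map_sub]
        exact Ideal.mem_map_of_mem _ (zeta_mem n A C c))
    refine ker_le_of_leftInverse (PP16.map n A C B C).toRingHom K ψ (ringHom_ext n A C ?_ ?_)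
    · intro c
      show ψ (PP16.map n A C B C (algebraMap C _ c)) = _
      rw [PP16.map_algebraMap, hψ₁]; rfl
    · intro c
      show ψ (PP16.map n A C B C (PP16.dn n A C c)) = _
      rw [PP16.map_dn, hψ₂]; rfl
  · rw [augIdeal_eq_span n A B, Ideal.map_span, Ideal.span_le]
    rintro _ ⟨_, ⟨b, rfl⟩, rfl⟩
    show PP16.map n A C B C (PP16.map n A B A C (zeta n A B b)) = 0
    rw [map_zeta, map_zeta, zeta, sub_eq_zero]
    show PP16.dn n B C (algebraMap B C b) = algebraMap C (PP16.P n B C) (algebraMap B C b)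
    rw [AlgHom.commutes, ← IsScalarTower.algebraMap_apply]

end Tower

section Quot

variable (A B : Type u) [CommRing A] [CommRing B] [Algebra A B] (K : Ideal B)

theorem map_quotient :
    Function.Surjective (PP16.map n A B A (B ⧸ K)) ∧
      RingHom.ker (PP16.map n A B A (B ⧸ K)) =
        K.map (algebraMap B (PP16.P n A B)) ⊔ K.map (PP16.dn n A B) := by
  set L : Ideal (PP16.P n A B) := K.map (algebraMap B (PP16.P n A B)) ⊔ K.map (PP16.dn n A B) with hL
  refine ⟨map_surjective n A B A (B ⧸ K) Ideal.Quotient.mk_surjective, le_antisymm ?_ ?_⟩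
  · let f : B ⧸ K →+* PP16.P n A B ⧸ L := Ideal.Quotient.lift K
      ((Ideal.Quotient.mk L).comp (algebraMap B (PP16.P n A B))) fun b hb => by
        rw [RingHom.comp_apply, Ideal.Quotient.eq_zero_iff_mem]
        exact Ideal.mem_sup_left (Ideal.mem_map_of_mem _ hb)
    let g : B ⧸ K →+* PP16.P n A B ⧸ L := Ideal.Quotient.lift K
      ((Ideal.Quotient.mk L).comp (PP16.dn n A B).toRingHom) fun b hb => by
        rw [RingHom.comp_apply, Ideal.Quotient.eq_zero_iff_mem]
        exact Ideal.mem_sup_right (Ideal.mem_map_of_mem _ hb)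
    obtain ⟨ψ, hψ₁, hψ₂⟩ := exists_lift (n := n) (A := A) (B := B ⧸ K) f g
      (RingHom.ext fun a => by
        show f (Ideal.Quotient.mk K (algebraMap A B a)) = g (Ideal.Quotient.mk K (algebraMap A B a))
        simp only [f, g, Ideal.Quotient.lift_mk, RingHom.comp_apply, AlgHom.toRingHom_eq_coe,
          RingHom.coe_coe, AlgHom.commutes, ← IsScalarTower.algebraMap_apply])
      ((PP16.augIdeal n A B).map (Ideal.Quotient.mk L))
      (by rw [← Ideal.map_pow, augIdeal_pow, Ideal.map_bot])
      (fun c => by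
        obtain ⟨b, rfl⟩ := Ideal.Quotient.mk_surjective c
        simp only [f, g, Ideal.Quotient.lift_mk, RingHom.comp_apply, ← map_sub]
        exact Ideal.mem_map_of_mem _ (zeta_mem n A B b))
    refine ker_le_of_leftInverse (PP16.map n A B A (B ⧸ K)).toRingHom L ψ (ringHom_ext n A B ?_ ?_)
    · intro b
      show ψ (PP16.map n A B A (B ⧸ K) (algebraMap B _ b)) = _
      rw [PP16.map_algebraMap, hψ₁]; rfl
    · intro b
      show ψ (PP16.map n A B A (B ⧸ K) (PP16.dn n A B b)) = _
      rw [PP16.map_dn, hψ₂]; rfl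
  · refine sup_le (Ideal.map_le_iff_le_comap.2 fun b hb => ?_) (Ideal.map_le_iff_le_comap.2 fun b hb => ?_)
    · show PP16.map n A B A (B ⧸ K) (algebraMap B _ b) = 0
      rw [PP16.map_algebraMap, show algebraMap B (B ⧸ K) b = 0 from Ideal.Quotient.eq_zero_iff_mem.2 hb,
        map_zero]
    · show PP16.map n A B A (B ⧸ K) (PP16.dn n A B b) = 0
      rw [PP16.map_dn, show algebraMap B (B ⧸ K) b = 0 from Ideal.Quotient.eq_zero_iff_mem.2 hb,
        map_zero]

end Quot

section Retraction

variable (A B : Type u) [CommRing A] [CommRing B] [Algebra A B] (g : B →ₐ[A] A)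

theorem dn_mod_section :
    Function.Surjective ((Ideal.Quotient.mk ((RingHom.ker g).map (algebraMap B (PP16.P n A B)))).comp
        (PP16.dn n A B).toRingHom) ∧
      RingHom.ker ((Ideal.Quotient.mk ((RingHom.ker g).map (algebraMap B (PP16.P n A B)))).comp
        (PP16.dn n A B).toRingHom) = RingHom.ker g ^ (n + 1) := by
  obtain ⟨L, hL⟩ : ∃ L : Ideal (PP16.P n A B), L = (RingHom.ker g).map (algebraMap B (PP16.P n A B)) :=
    ⟨_, rfl⟩
  rw [← hL]
  obtain ⟨φ, hφ⟩ : ∃ φ : B →+* PP16.P n A B ⧸ L, φ = (Ideal.Quotient.mk L).comp (PP16.dn n A B).toRingHom :=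
    ⟨_, rfl⟩
  rw [← hφ]
  have hsub : ∀ b : B, b - algebraMap A B (g b) ∈ RingHom.ker g := fun b => by
    rw [RingHom.mem_ker, map_sub, AlgHom.commutes]; simp
  have halg : ∀ b : B, Ideal.Quotient.mk L (algebraMap B (PP16.P n A B) b) =
      φ (algebraMap A B (g b)) := fun b => by
    have h1 : Ideal.Quotient.mk L (algebraMap B (PP16.P n A B) b) =
        Ideal.Quotient.mk L (algebraMap B (PP16.P n A B) (algebraMap A B (g b))) := by
      refine Ideal.Quotient.eq.2 ?_
      rw [← map_sub]
      rw [hL]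
      exact Ideal.mem_map_of_mem _ (hsub b)
    rw [h1, hφ, RingHom.comp_apply]
    simp only [AlgHom.toRingHom_eq_coe, RingHom.coe_coe, AlgHom.commutes,
      ← IsScalarTower.algebraMap_apply]
  refine ⟨fun y => ?_, le_antisymm ?_ ?_⟩
  · obtain ⟨y, rfl⟩ := Ideal.Quotient.mk_surjective y
    obtain ⟨y, rfl⟩ := Ideal.Quotient.mk_surjective y
    induction y using TensorProduct.induction_on with
    | zero => exact ⟨0, by simp⟩
    | tmul b c =>
      refine ⟨algebraMap A B (g b) * c, ?_⟩
      rw [map_mul, mk_tmul, map_mul, halg, hφ]; rfl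
    | add a b ha hb =>
      obtain ⟨x, hx⟩ := ha
      obtain ⟨z, hz⟩ := hb
      exact ⟨x + z, by rw [map_add, hx, hz, ← map_add, ← map_add]⟩
  · obtain ⟨K, hK⟩ : ∃ K : Ideal B, K = RingHom.ker g ^ (n + 1) := ⟨_, rfl⟩
    rw [← hK]
    obtain ⟨ψ, hψ₁, hψ₂⟩ := exists_lift (n := n) (A := A) (B := B) (R := B ⧸ K)
      ((Ideal.Quotient.mk K).comp ((algebraMap A B).comp g.toRingHom)) (Ideal.Quotient.mk K)
      (RingHom.ext fun a => by simp)
      ((RingHom.ker g).map (Ideal.Quotient.mk K))
      (by rw [← Ideal.map_pow, ← hK, Ideal.map_quotient_self])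
      (fun b => by
        simp only [RingHom.comp_apply, ← map_sub]
        exact Ideal.mem_map_of_mem _ (hsub b))
    have hkill : ∀ x ∈ L, ψ x = 0 := by
      intro x hx
      have : L ≤ RingHom.ker ψ := by
        rw [hL, Ideal.map_le_iff_le_comap]
        intro b hb
        show ψ (algebraMap B _ b) = 0
        rw [hψ₁]
        simp [RingHom.mem_ker.1 hb]
      exact RingHom.mem_ker.1 (this hx)
    intro b hb
    rw [RingHom.mem_ker, hφ, RingHom.comp_apply, Ideal.Quotient.eq_zero_iff_mem] at hb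
    have h0 := hkill _ hb
    rw [AlgHom.toRingHom_eq_coe, RingHom.coe_coe, hψ₂] at h0
    exact Ideal.Quotient.eq_zero_iff_mem.1 h0
  · refine pow_le_ker φ (RingHom.ker g) ((PP16.augIdeal n A B).map (Ideal.Quotient.mk L))
      (by rw [← Ideal.map_pow, augIdeal_pow, Ideal.map_bot]) fun b hb => ?_
    have e : φ b = Ideal.Quotient.mk L (zeta n A B b) := by
      rw [zeta, map_sub, halg, RingHom.mem_ker.1 hb]
      simp [hφ]
    rw [e]
    exact Ideal.mem_map_of_mem _ (zeta_mem n A B b)

end Retraction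

section PushoutCriterion

variable (A B A' B' : Type u) [CommRing A] [CommRing B] [Algebra A B]
  [CommRing A'] [CommRing B'] [Algebra A' B'] [Algebra A A'] [Algebra B B'] [Algebra A B']
  [IsScalarTower A A' B'] [IsScalarTower A B B']
  (Q : Type u) [CommRing Q] [Algebra B Q] [Algebra Q (PP16.P n A' B')]
  [IsScalarTower B Q (PP16.P n A' B')]

/-- Abstract form: `Q` stands for `P^n_{B/A}`. -/
theorem isPushout_of_extend (dq : B →+* Q) (I : Ideal Q) (hI : I ^ (n + 1) = ⊥)
    (hQext : ∀ u v : Q →+* B' ⊗[B] Q, (∀ b, u (algebraMap B Q b) = v (algebraMap B Q b)) →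
      (∀ b, u (dq b) = v (dq b)) → u = v)
    (hmap : ∀ b, algebraMap Q (PP16.P n A' B') (dq b) = PP16.dn n A' B' (algebraMap B B' b))
    (g : B' →+* B' ⊗[B] Q) (hg : ∀ b, g (algebraMap B B' b) = (1 : B') ⊗ₜ[B] dq b)
    (hgA : ∀ a, g (algebraMap A' B' a) = algebraMap A' B' a ⊗ₜ[B] 1)
    (hgJ : ∀ x, g x - x ⊗ₜ[B] 1 ∈
      I.map (Algebra.TensorProduct.includeRight : Q →ₐ[B] B' ⊗[B] Q).toRingHom)
    (hext : ∀ (u v : B' →+* PP16.P n A' B'), (∀ a, u (algebraMap A' B' a) = v (algebraMap A' B' a)) →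
      (∀ b, u (algebraMap B B' b) = v (algebraMap B B' b)) → u = v) :
    Algebra.IsPushout B B' Q (PP16.P n A' B') := by
  let φ : B' ⊗[B] Q →ₐ[B'] PP16.P n A' B' :=
    Algebra.TensorProduct.lift (Algebra.ofId B' _)
      (IsScalarTower.toAlgHom B Q (PP16.P n A' B')) fun _ _ => Commute.all _ _
  have hφl : ∀ x : B', φ (x ⊗ₜ[B] 1) = algebraMap B' _ x := fun x => by simp [φ]
  have hφr : ∀ p : Q, φ ((1 : B') ⊗ₜ[B] p) = algebraMap Q (PP16.P n A' B') p := fun p => by
    simp [φ]
  obtain ⟨ψ, hψ₁, hψ₂⟩ := exists_lift (n := n) (A := A') (B := B')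
    (algebraMap B' (B' ⊗[B] Q)) g
    (RingHom.ext fun a => by
      show algebraMap B' (B' ⊗[B] Q) (algebraMap A' B' a) = g (algebraMap A' B' a)
      rw [hgA, Algebra.TensorProduct.algebraMap_apply]
      rfl)
    (I.map (Algebra.TensorProduct.includeRight : Q →ₐ[B] B' ⊗[B] Q).toRingHom)
    (by rw [← Ideal.map_pow, hI, Ideal.map_bot])
    (fun x => by simpa [Algebra.TensorProduct.algebraMap_apply] using hgJ x)
  have hψl : ∀ x : B', ψ (algebraMap B' _ x) = x ⊗ₜ[B] 1 := fun x => by
    rw [hψ₁, Algebra.TensorProduct.algebraMap_apply]; rfl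
  have hP : (ψ.comp φ.toRingHom).comp
      (Algebra.TensorProduct.includeRight : Q →ₐ[B] B' ⊗[B] Q).toRingHom =
      (Algebra.TensorProduct.includeRight : Q →ₐ[B] B' ⊗[B] Q).toRingHom := by
    refine hQext _ _ (fun b => ?_) fun b => ?_
    · show ψ (φ ((1 : B') ⊗ₜ[B] algebraMap B _ b)) = (1 : B') ⊗ₜ[B] algebraMap B _ b
      rw [hφr, ← IsScalarTower.algebraMap_apply, IsScalarTower.algebraMap_apply B B' (PP16.P n A' B'),
        hψl, Algebra.algebraMap_eq_smul_one, TensorProduct.smul_tmul,
        Algebra.algebraMap_eq_smul_one]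
    · show ψ (φ ((1 : B') ⊗ₜ[B] dq b)) = (1 : B') ⊗ₜ[B] dq b
      rw [hφr, hmap, hψ₂, hg]
  have hleft : ψ.comp φ.toRingHom = RingHom.id _ := by
    refine RingHom.ext fun y => ?_
    induction y using TensorProduct.induction_on with
    | zero => simp
    | tmul x p =>
      have : x ⊗ₜ[B] p = (x ⊗ₜ[B] (1 : Q)) * ((1 : B') ⊗ₜ[B] p) := by simp
      rw [this, map_mul, RingHom.id_apply]
      congr 1
      · show ψ (φ (x ⊗ₜ[B] 1)) = _
        rw [hφl, hψl]
      · exact RingHom.congr_fun hP p
    | add a b ha hb => rw [map_add, map_add, ha, hb]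
  have hright : φ.toRingHom.comp ψ = RingHom.id _ := by
    refine ringHom_ext n A' B' (fun x => ?_) fun x => ?_
    · show φ (ψ _) = _
      rw [hψl, hφl]; rfl
    · have := hext ((φ.toRingHom.comp ψ).comp (PP16.dn n A' B').toRingHom) (PP16.dn n A' B').toRingHom
        (fun a => by
          show φ (ψ (PP16.dn n A' B' (algebraMap A' B' a))) = PP16.dn n A' B' (algebraMap A' B' a)
          rw [hψ₂, hgA, hφl, AlgHom.commutes, ← IsScalarTower.algebraMap_apply])
        (fun b => by
          show φ (ψ (PP16.dn n A' B' (algebraMap B B' b))) = PP16.dn n A' B' (algebraMap B B' b)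
          rw [hψ₂, hg, hφr, hmap])
      exact RingHom.congr_fun this x
  let e : B' ⊗[B] Q ≃ₐ[B'] PP16.P n A' B' :=
    AlgEquiv.ofBijective φ ⟨(Function.LeftInverse.injective (g := ψ)
        fun y => RingHom.congr_fun hleft y),
      (Function.RightInverse.surjective (g := ψ) fun y => RingHom.congr_fun hright y)⟩
  letI : Algebra Q (B' ⊗[B] Q) := Algebra.TensorProduct.rightAlgebra
  exact Algebra.IsPushout.of_equiv (h := inferInstance) e (RingHom.ext fun p => hφr p)

theorem tmul_one_eq (b : B) : algebraMap B B' b ⊗ₜ[B] (1 : Q) = (1 : B') ⊗ₜ[B] algebraMap B Q b := by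
  rw [Algebra.algebraMap_eq_smul_one, TensorProduct.smul_tmul, Algebra.algebraMap_eq_smul_one]

/-- Base change, abstract form. -/
theorem isPushout_baseChange' [Algebra.IsPushout A B A' B'] [Algebra A Q] [IsScalarTower A B Q]
    (dq : B →ₐ[A] Q) (I : Ideal Q) (hI : I ^ (n + 1) = ⊥)
    (hζ : ∀ b, dq b - algebraMap B Q b ∈ I)
    (hQext : ∀ u v : Q →+* B' ⊗[B] Q, (∀ b, u (algebraMap B Q b) = v (algebraMap B Q b)) →
      (∀ b, u (dq b) = v (dq b)) → u = v)
    (hmap : ∀ b, algebraMap Q (PP16.P n A' B') (dq b) = PP16.dn n A' B' (algebraMap B B' b)) :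
    Algebra.IsPushout B Q B' (PP16.P n A' B') := by
  refine Algebra.IsPushout.symm ?_
  let f₁ : B →ₐ[A] B' ⊗[B] Q :=
    ((Algebra.TensorProduct.includeRight : Q →ₐ[B] B' ⊗[B] Q).restrictScalars A).comp dq
  let f₂ : A' →ₐ[A] B' ⊗[B] Q :=
    ((Algebra.TensorProduct.includeLeft : B' →ₐ[B] B' ⊗[B] Q).restrictScalars A).comp
      (IsScalarTower.toAlgHom A A' B')
  let g : B' →ₐ[A] B' ⊗[B] Q :=
    Algebra.pushoutDesc B' f₁ f₂ fun x y => Commute.all (S := B' ⊗[B] Q) (f₁ x) (f₂ y)
  have hg₁ : ∀ b, g (algebraMap B B' b) = (1 : B') ⊗ₜ[B] dq b := fun b =>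
    Algebra.pushoutDesc_left B' f₁ f₂ _ b
  have hg₂ : ∀ a, g (algebraMap A' B' a) = algebraMap A' B' a ⊗ₜ[B] 1 := fun a =>
    Algebra.pushoutDesc_right B' f₁ f₂ _ a
  refine isPushout_of_extend n B A' B' Q dq.toRingHom I hI hQext hmap g.toRingHom hg₁ hg₂ ?_ ?_
  · intro x
    set J := I.map (Algebra.TensorProduct.includeRight : Q →ₐ[B] B' ⊗[B] Q).toRingHom
    rw [← Ideal.Quotient.eq]
    have : (Ideal.Quotient.mkₐ A J).comp g = (Ideal.Quotient.mkₐ A J).comp
        ((Algebra.TensorProduct.includeLeft : B' →ₐ[B] B' ⊗[B] Q).restrictScalars A) := by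
      refine Algebra.IsPushout.algHom_ext (R := A) (S := B) (R' := A') (S' := B') ?_ ?_
      · refine AlgHom.ext fun a => ?_
        show Ideal.Quotient.mk J (g (algebraMap A' B' a)) = Ideal.Quotient.mk J (algebraMap A' B' a ⊗ₜ[B] 1)
        rw [hg₂]
      · refine AlgHom.ext fun b => Ideal.Quotient.eq.2 ?_
        show g (algebraMap B B' b) - algebraMap B B' b ⊗ₜ[B] 1 ∈ J
        rw [hg₁, tmul_one_eq B B' Q, ← TensorProduct.tmul_sub]
        exact Ideal.mem_map_of_mem _ (hζ b)
    exact AlgHom.congr_fun this x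
  · intro u v ha hb
    have hAu : ∀ a, u (algebraMap A B' a) = v (algebraMap A B' a) := fun a => by
      rw [IsScalarTower.algebraMap_apply A B B', hb]
    letI : Algebra A (PP16.P n A' B') := (u.comp (algebraMap A B')).toAlgebra
    let u' : B' →ₐ[A] PP16.P n A' B' := { u with commutes' := fun a => rfl }
    let v' : B' →ₐ[A] PP16.P n A' B' := { v with commutes' := fun a => (hAu a).symm }
    have : u' = v' := Algebra.IsPushout.algHom_ext (R := A) (S := B) (R' := A') (S' := B')
      (AlgHom.ext fun a => ha a) (AlgHom.ext fun b => hb b)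
    exact RingHom.ext fun x => AlgHom.congr_fun this x

/-- Localisation, abstract form. -/
theorem isLocalization' (S : Submonoid B) [IsLocalization S B']
    (hA : Function.Surjective (algebraMap A A'))
    (dq : B →+* Q) (hdA : ∀ a, dq (algebraMap A B a) = algebraMap B Q (algebraMap A B a))
    (I : Ideal Q) (hI : I ^ (n + 1) = ⊥) (hζ : ∀ b, dq b - algebraMap B Q b ∈ I)
    (hQext : ∀ u v : Q →+* B' ⊗[B] Q, (∀ b, u (algebraMap B Q b) = v (algebraMap B Q b)) →
      (∀ b, u (dq b) = v (dq b)) → u = v)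
    (hmap : ∀ b, algebraMap Q (PP16.P n A' B') (dq b) = PP16.dn n A' B' (algebraMap B B' b)) :
    IsLocalization (S.map (algebraMap B Q)) (PP16.P n A' B') := by
  set incl := (Algebra.TensorProduct.includeRight : Q →ₐ[B] B' ⊗[B] Q).toRingHom with hincl
  have hcong : ∀ b, incl (dq b) = incl (dq b - algebraMap B Q b) + algebraMap B B' b ⊗ₜ[B] (1 : Q) := by
    intro b
    rw [tmul_one_eq B B' Q, map_sub]
    show incl (dq b) = incl (dq b) - incl (algebraMap B Q b) + incl (algebraMap B Q b)
    rw [sub_add_cancel]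
  have hu : ∀ s : S, IsUnit (incl.comp dq s) := by
    intro s
    show IsUnit (incl (dq s))
    rw [hcong]
    refine IsNilpotent.isUnit_add_right_of_commute ?_ ?_ (Commute.all _ _)
    · exact IsNilpotent.map ⟨n + 1, by simpa [hI] using Ideal.pow_mem_pow (hζ s) (n + 1)⟩ incl
    · exact (IsLocalization.map_units B' s).map
        (Algebra.TensorProduct.includeLeftRingHom : B' →+* B' ⊗[B] Q)
  let g : B' →+* B' ⊗[B] Q := IsLocalization.lift hu
  have hg : ∀ b, g (algebraMap B B' b) = (1 : B') ⊗ₜ[B] dq b := fun b =>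
    IsLocalization.lift_eq hu b
  have : Algebra.IsPushout B B' Q (PP16.P n A' B') := by
    refine isPushout_of_extend n B A' B' Q dq I hI hQext hmap g hg ?_ ?_ ?_
    · intro a
      obtain ⟨a, rfl⟩ := hA a
      rw [← IsScalarTower.algebraMap_apply A A' B', IsScalarTower.algebraMap_apply A B B', hg,
        hdA, tmul_one_eq B B' Q]
    · intro x
      rw [← Ideal.Quotient.eq]
      have : (Ideal.Quotient.mk (I.map incl)).comp g = (Ideal.Quotient.mk (I.map incl)).comp
          (Algebra.TensorProduct.includeLeftRingHom : B' →+* B' ⊗[B] Q) := by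
        refine IsLocalization.ringHom_ext S (RingHom.ext fun b => ?_)
        refine Ideal.Quotient.eq.2 ?_
        show g (algebraMap B B' b) - algebraMap B B' b ⊗ₜ[B] 1 ∈ I.map incl
        rw [hg, tmul_one_eq B B' Q, ← TensorProduct.tmul_sub]
        exact Ideal.mem_map_of_mem incl (hζ b)
      exact RingHom.congr_fun this x
    · exact fun u v _ hb => IsLocalization.ringHom_ext S (RingHom.ext hb)
  exact (Algebra.isLocalization_iff_isPushout S B').2 this.symm

end PushoutCriterion

section PushoutInst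

variable (A B A' B' : Type u) [CommRing A] [CommRing B] [Algebra A B]
  [CommRing A'] [CommRing B'] [Algebra A' B'] [Algebra A A'] [Algebra B B'] [Algebra A B']
  [IsScalarTower A A' B'] [IsScalarTower A B B']

attribute [local instance] PP16.mapAlgebra PP16.isScalarTower_mapAlgebra

theorem isPushout_baseChange [Algebra.IsPushout A B A' B'] :
    Algebra.IsPushout B (PP16.P n A B) B' (PP16.P n A' B') :=
  isPushout_baseChange' n A B A' B' (PP16.P n A B) (PP16.dn n A B) (PP16.augIdeal n A B)
    (augIdeal_pow n A B) (zeta_mem n A B) (fun _ _ h₁ h₂ => ringHom_ext n A B h₁ h₂)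
    (PP16.map_dn n A B A' B')

theorem isLocalization (S : Submonoid B) [IsLocalization S B']
    (hA : Function.Surjective (algebraMap A A')) :
    IsLocalization (S.map (algebraMap B (PP16.P n A B))) (PP16.P n A' B') :=
  isLocalization' n A B A' B' (PP16.P n A B) S hA (PP16.dn n A B).toRingHom
    (fun a => by
      show PP16.dn n A B (algebraMap A B a) = _
      rw [AlgHom.commutes, ← IsScalarTower.algebraMap_apply])
    (PP16.augIdeal n A B) (augIdeal_pow n A B) (zeta_mem n A B)
    (fun _ _ h₁ h₂ => ringHom_ext n A B h₁ h₂) (PP16.map_dn n A B A' B')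

end PushoutInst

section BaseLocalization

variable (A B A' B' : Type u) [CommRing A] [CommRing B] [Algebra A B]
  [CommRing A'] [CommRing B'] [Algebra A A'] [Algebra B B'] [Algebra A' B'] [Algebra A B']
  [IsScalarTower A A' B'] [IsScalarTower A B B']

/-- Enlarging the base along an epimorphism does not change principal parts. -/
theorem map_bijective_of_base_ext
    (hext : ∀ (R : Type u) [CommRing R] (u v : A' →+* R),
      u.comp (algebraMap A A') = v.comp (algebraMap A A') → u = v) :
    Function.Bijective (PP16.map n A B' A' B') := by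
  refine ⟨?_, map_surjective n A B' A' B' fun x => ⟨x, rfl⟩⟩
  obtain ⟨ψ, hψ₁, hψ₂⟩ := exists_lift (n := n) (A := A') (B := B')
    (algebraMap B' (PP16.P n A B')) (PP16.dn n A B').toRingHom
    (hext _ _ _ (RingHom.ext fun a => by
      show algebraMap B' (PP16.P n A B') (algebraMap A' B' (algebraMap A A' a)) =
        PP16.dn n A B' (algebraMap A' B' (algebraMap A A' a))
      rw [← IsScalarTower.algebraMap_apply A A' B', AlgHom.commutes, ← IsScalarTower.algebraMap_apply]))
    (PP16.augIdeal n A B') (augIdeal_pow n A B') (zeta_mem n A B')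
  have h : ψ.comp (PP16.map n A B' A' B').toRingHom = RingHom.id _ := by
    refine ringHom_ext n A B' (fun b => ?_) fun b => ?_
    · show ψ (PP16.map n A B' A' B' (algebraMap B' _ b)) = _
      rw [PP16.map_algebraMap, hψ₁]; rfl
    · show ψ (PP16.map n A B' A' B' (PP16.dn n A B' b)) = _
      rw [PP16.map_dn, hψ₂]; rfl
  exact Function.LeftInverse.injective (g := ψ) fun x => RingHom.congr_fun h x

end BaseLocalization

end Groth.Agent.PP16Lib29
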