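import Mathlib.LinearAlgebra.TensorPower.Symmetric
import Mathlib.LinearAlgebra.Finsupp.LinearCombination
import Mathlib.RingTheory.MvPolynomial.Homogeneous
import Mathlib.RingTheory.MvPolynomial.Ideal
import Mathlib.LinearAlgebra.Multilinear.Basis

/-! # Symmetric powers of direct summands of free modules inside polynomial rings -/

set_option autoImplicit false

noncomputable section

namespace Groth.Agent.PP16Lib29

universe u v

variable {B : Type u} [CommRing B] {σ : Type v}

/-- a finitely supported family of coefficients as a linear form -/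
def linForm : (σ →₀ B) →ₗ[B] MvPolynomial σ B :=
  Finsupp.linearCombination B (MvPolynomial.X : σ → MvPolynomial σ B)

theorem linForm_single (i : σ) (b : B) :
    linForm (Finsupp.single i b) = MvPolynomial.C b * MvPolynomial.X i := by
  rw [linForm, Finsupp.linearCombination_single, MvPolynomial.smul_eq_C_mul]

theorem linForm_isHomogeneous (c : σ →₀ B) : (linForm c).IsHomogeneous 1 := by
  induction c using Finsupp.induction_linear with
  | zero => rw [map_zero]; exact MvPolynomial.isHomogeneous_zero σ B 1
  | add a b ha hb => rw [map_add]; exact ha.add hb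
  | single i b =>
    rw [linForm_single]
    simpa using (MvPolynomial.isHomogeneous_C σ b).mul (MvPolynomial.isHomogeneous_X B i)

theorem linForm_mem (c : σ →₀ B) :
    linForm c ∈ Ideal.span (Set.range (MvPolynomial.X : σ → MvPolynomial σ B)) := by
  induction c using Finsupp.induction_linear with
  | zero => rw [map_zero]; exact zero_mem _
  | add a b ha hb => rw [map_add]; exact add_mem ha hb
  | single i b => rw [linForm_single]; exact Ideal.mul_mem_left _ _ (Ideal.subset_span ⟨i, rfl⟩)

theorem eq_zero_of_isHomogeneous_of_mem_pow {p : MvPolynomial σ B} {k : ℕ} (hp : p.IsHomogeneous k)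
    (hm : p ∈ Ideal.span (Set.range (MvPolynomial.X : σ → MvPolynomial σ B)) ^ (k + 1)) : p = 0 := by
  refine MvPolynomial.ext _ _ fun d => ?_
  rw [MvPolynomial.coeff_zero]
  by_contra hd
  have h1 : Finsupp.degree d = k := by
    have := hp hd
    rwa [Finsupp.degree_eq_weight_one]
  exact hd ((MvPolynomial.mem_pow_idealOfVars_iff' (k + 1) p).1 hm d (by omega))

/-- The universal property of the symmetric power. -/
theorem exists_symLift {R : Type u} [CommRing R] {M : Type u} [AddCommGroup M] [Module R M] {ι : Type u}
    {N : Type*} [AddCommGroup N] [Module R N] (F : MultilinearMap R (fun _ : ι => M) N)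
    (hF : ∀ (e : Equiv.Perm ι) (m : ι → M), F (fun i => m (e i)) = F m) :
    ∃ S : SymmetricPower R ι M →ₗ[R] N, ∀ m, S (SymmetricPower.tprod R m) = F m := by
  have hrel : ∀ {x y}, addConGen (SymmetricPower.Rel R ι M) x y →
      PiTensorProduct.lift F x = PiTensorProduct.lift F y := fun {x y} h => by
    induction h with
    | of x y h => cases h with
      | perm e m =>
        show PiTensorProduct.lift F _ = PiTensorProduct.lift F _
        rw [PiTensorProduct.lift.tprod, PiTensorProduct.lift.tprod, hF]
    | refl => rfl
    | symm _ ih => exact ih.symm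
    | trans _ _ ih ih' => exact ih.trans ih'
    | add _ _ ih ih' => rw [map_add, map_add, ih, ih']
  let S₀ : SymmetricPower R ι M →+ N :=
    AddCon.lift _ (PiTensorProduct.lift F).toAddMonoidHom (fun x y h => hrel h)
  exact ⟨{ toFun := S₀
           map_add' := map_add S₀
           map_smul' := fun r x => AddCon.induction_on x fun t => (PiTensorProduct.lift F).map_smul r t },
    fun m => PiTensorProduct.lift.tprod m⟩

theorem symPowInduction {R : Type u} [CommRing R] {M : Type u} [AddCommGroup M] [Module R M] {ι : Type u}
    {p : SymmetricPower R ι M → Prop} (h0 : p 0)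
    (ht : ∀ (r : R) (m : ι → M), p (r • SymmetricPower.tprod R m)) (hadd : ∀ x y, p x → p y → p (x + y))
    (x : SymmetricPower R ι M) : p x := by
  have hx : x ∈ Submodule.span R (Set.range (SymmetricPower.tprod R (ι := ι) (M := M))) := by
    rw [SymmetricPower.span_tprod_eq_top]; trivial
  obtain ⟨c, rfl⟩ := Finsupp.mem_span_range_iff_exists_finsupp.1 hx
  clear hx
  rw [Finsupp.sum]
  exact Finset.sum_induction _ p hadd h0 fun a _ => ht (c a) a

/-- multilinear maps are determined on tuples from a spanning set -/
theorem multilinear_ext_of_span {R : Type*} [CommRing R] {ι : Type*} [Fintype ι] {M N : Type*}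
    [AddCommGroup M] [Module R M] [AddCommGroup N] [Module R N] {T : Set M} (hT : Submodule.span R T = ⊤)
    {f g : MultilinearMap R (fun _ : ι => M) N} (h : ∀ b : ι → M, (∀ i, b i ∈ T) → f b = g b) : f = g := by
  classical
  refine MultilinearMap.ext fun m => ?_
  have hm : ∀ i, m i ∈ Submodule.span R T := fun i => by rw [hT]; trivial
  choose c hcsupp hc using fun i => (Submodule.mem_span_set).1 (hm i)
  have e : m = fun i => ∑ a ∈ (c i).support, c i a • a := funext fun i => (hc i).symm
  rw [e, MultilinearMap.map_sum_finset, MultilinearMap.map_sum_finset]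
  refine Finset.sum_congr rfl fun r hr => ?_
  rw [MultilinearMap.map_smul_univ, MultilinearMap.map_smul_univ,
    h _ fun i => hcsupp i (Fintype.mem_piFinset.1 hr i)]

/-- tuples with the same multiset differ by a permutation -/
theorem exists_perm_of_sum_single {τ : Type*} {ι : Type*} [Fintype ι] (f g : ι → τ)
    (h : (∑ i, Finsupp.single (f i) 1 : τ →₀ ℕ) = ∑ i, Finsupp.single (g i) 1) :
    ∃ e : Equiv.Perm ι, ∀ i, g (e i) = f i := by
  classical
  have hc : ∀ (k : ι → τ) (x : τ),
      (∑ i, Finsupp.single (k i) 1 : τ →₀ ℕ) x = Fintype.card {i // k i = x} :=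
    fun k x => by
      rw [Finsupp.finsetSum_apply, Fintype.card_subtype, Finset.card_filter]
      exact Finset.sum_congr rfl fun i _ => Finsupp.single_apply
  have e : ∀ x, {i // f i = x} ≃ {i // g i = x} := fun x =>
    Fintype.equivOfCardEq (by rw [← hc, ← hc, h])
  exact ⟨Equiv.ofFiberEquiv e, fun i => Equiv.ofFiberEquiv_map e i⟩

section Sigma

variable {M : Type u} [AddCommGroup M] [Module B M] (L : M →ₗ[B] (σ →₀ B))

/-- products of linear forms -/
theorem exists_symToPoly (ι : Type u) [Fintype ι] :
    ∃ S : SymmetricPower B ι M →ₗ[B] MvPolynomial σ B,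
      (∀ m, S (SymmetricPower.tprod B m) = ∏ i, linForm (L (m i))) ∧
      ∀ x, (S x).IsHomogeneous (Fintype.card ι) := by
  let F : MultilinearMap B (fun _ : ι => M) (MvPolynomial σ B) :=
    (MultilinearMap.mkPiAlgebra B ι (MvPolynomial σ B)).compLinearMap fun _ => linForm.comp L
  obtain ⟨S, hS⟩ : ∃ S : SymmetricPower B ι M →ₗ[B] MvPolynomial σ B,
      ∀ m, S (SymmetricPower.tprod B m) = ∏ i, linForm (L (m i)) := by
    obtain ⟨S, hS⟩ := exists_symLift F fun e m => by
      simp only [F, MultilinearMap.compLinearMap_apply, MultilinearMap.mkPiAlgebra_apply]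
      exact Equiv.prod_comp e fun i => (linForm.comp L) (m i)
    exact ⟨S, fun m => by rw [hS]; simp [F]⟩
  refine ⟨S, hS, fun x => ?_⟩
  have hx : x ∈ Submodule.span B (Set.range (SymmetricPower.tprod B (ι := ι) (M := M))) := by
    rw [SymmetricPower.span_tprod_eq_top]; trivial
  induction hx using Submodule.span_induction with
  | mem y hy =>
    obtain ⟨m, rfl⟩ := hy
    rw [hS]
    simpa using MvPolynomial.IsHomogeneous.prod (Finset.univ : Finset ι) (fun i => linForm (L (m i)))
      (fun _ => 1) fun i _ => linForm_isHomogeneous (L (m i))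
  | zero => rw [map_zero]; exact MvPolynomial.isHomogeneous_zero σ B _
  | add a b _ _ ha hb => rw [map_add]; exact ha.add hb
  | smul c a _ ha =>
    rw [map_smul, MvPolynomial.smul_eq_C_mul]
    simpa using (MvPolynomial.isHomogeneous_C σ c).mul ha

/-- For a split injection into a free module the map to the polynomial ring is injective. -/
theorem symToPoly_injective (r : (σ →₀ B) →ₗ[B] M) (hrL : ∀ m, r (L m) = m) (ι : Type u) [Fintype ι]
    (S : SymmetricPower B ι M →ₗ[B] MvPolynomial σ B)
    (hS : ∀ m, S (SymmetricPower.tprod B m) = ∏ i, linForm (L (m i))) : Function.Injective S := by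
  classical
  have hsingle : ∀ f : ι → σ, (∏ i, (MvPolynomial.X (f i) : MvPolynomial σ B)) =
      MvPolynomial.monomial (∑ i, Finsupp.single (f i) 1) 1 := fun f => by
    rw [MvPolynomial.monomial_sum_one]; rfl
  have hperm : ∀ f g : ι → σ, (∑ i, Finsupp.single (f i) 1 : σ →₀ ℕ) = ∑ i, Finsupp.single (g i) 1 →
      ∃ e : Equiv.Perm ι, ∀ i, g (e i) = f i := fun f g h => by
    have hc : ∀ (k : ι → σ) (x : σ),
        (∑ i, Finsupp.single (k i) 1 : σ →₀ ℕ) x = Fintype.card {i // k i = x} :=
      fun k x => by
        rw [Finsupp.finsetSum_apply, Fintype.card_subtype, Finset.card_filter]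
        exact Finset.sum_congr rfl fun i _ => Finsupp.single_apply
    have e : ∀ x, {i // f i = x} ≃ {i // g i = x} := fun x =>
      Fintype.equivOfCardEq (by rw [← hc, ← hc, h])
    exact ⟨Equiv.ofFiberEquiv e, fun i => Equiv.ofFiberEquiv_map e i⟩
  let τ : MvPolynomial σ B →ₗ[B] SymmetricPower B ι M :=
    (MvPolynomial.basisMonomials σ B).constr B fun d =>
      if h : ∃ f : ι → σ, (∑ i, Finsupp.single (f i) 1) = d then
        SymmetricPower.tprod B (fun i => r (Finsupp.single (h.choose i) 1)) else 0
  let F : MultilinearMap B (fun _ : ι => σ →₀ B) (SymmetricPower B ι M) :=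
    (τ.compMultilinearMap (MultilinearMap.mkPiAlgebra B ι (MvPolynomial σ B))).compLinearMap
      fun _ => linForm
  let G : MultilinearMap B (fun _ : ι => σ →₀ B) (SymmetricPower B ι M) :=
    (SymmetricPower.tprod B (ι := ι) (M := M)).compLinearMap fun _ => r
  have hFG : F = G := by
    refine Module.Basis.ext_multilinear (fun _ => Finsupp.basisSingleOne) fun f => ?_
    simp only [F, G, MultilinearMap.compLinearMap_apply, LinearMap.compMultilinearMap_apply,
      MultilinearMap.mkPiAlgebra_apply, Finsupp.coe_basisSingleOne, linForm_single, map_one, one_mul]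
    rw [hsingle, show MvPolynomial.monomial (∑ i, Finsupp.single (f i) 1) (1 : B) =
      MvPolynomial.basisMonomials σ B (∑ i, Finsupp.single (f i) 1) by
        rw [MvPolynomial.coe_basisMonomials]]
    simp only [τ, Module.Basis.constr_basis]
    have h : ∃ g : ι → σ, (∑ i, Finsupp.single (g i) 1 : σ →₀ ℕ) = ∑ i, Finsupp.single (f i) 1 :=
      ⟨f, rfl⟩
    rw [dif_pos h]
    obtain ⟨e, he⟩ := hperm h.choose f h.choose_spec
    calc SymmetricPower.tprod B (fun i => r (Finsupp.single (h.choose i) 1))
        = SymmetricPower.tprod B (fun i => r (Finsupp.single (f (e i)) 1)) := by simp only [he]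
      _ = _ := SymmetricPower.tprod_equiv e fun i => r (Finsupp.single (f i) 1)
  have hτ : τ.comp S = LinearMap.id := by
    refine LinearMap.ext_on (s := Set.range (SymmetricPower.tprod B (ι := ι) (M := M))) (by rw [SymmetricPower.span_tprod_eq_top]) ?_
    rintro _ ⟨m, rfl⟩
    have := congrArg (fun H : MultilinearMap B (fun _ : ι => σ →₀ B) (SymmetricPower B ι M) =>
      H fun i => L (m i)) hFG
    simp only [F, G, MultilinearMap.compLinearMap_apply, LinearMap.compMultilinearMap_apply,
      MultilinearMap.mkPiAlgebra_apply, hrL] at this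
    rw [LinearMap.comp_apply, hS, LinearMap.id_apply]
    exact this
  exact Function.LeftInverse.injective (g := τ) fun x => LinearMap.congr_fun hτ x

end Sigma

end Groth.Agent.PP16Lib29
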