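import Groth.Agent.PP16Lib29.Poly
import Groth.Agent.PP16Lib29.SymPow
import Mathlib.RingTheory.Ideal.Operations

/-! # The graded pieces `I^k / I^(k+1)` -/

set_option autoImplicit false

noncomputable section

open scoped TensorProduct

namespace Groth.Agent.PP16Lib29

universe u v

section Generic

variable {R : Type u} [CommRing R] (I : Ideal R) {ι : Type v}

theorem finset_prod_mem_pow (s : Finset ι) (x : ι → R) (hx : ∀ i ∈ s, x i ∈ I) :
    ∏ i ∈ s, x i ∈ I ^ s.card := by
  simpa [Finset.prod_const] using Ideal.prod_mem_prod (I := fun _ => I) hx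

/-- products of congruent elements are congruent one degree higher -/
theorem prod_sub_prod_mem (s : Finset ι) (x y : ι → R) (hx : ∀ i ∈ s, x i ∈ I) (hy : ∀ i ∈ s, y i ∈ I)
    (h : ∀ i ∈ s, x i - y i ∈ I ^ 2) : ∏ i ∈ s, x i - ∏ i ∈ s, y i ∈ I ^ (s.card + 1) := by
  classical
  induction s using Finset.induction_on with
  | empty => simp
  | insert a s ha ih =>
    rw [Finset.prod_insert ha, Finset.prod_insert ha, Finset.card_insert_of_notMem ha]
    have e : x a * ∏ i ∈ s, x i - y a * ∏ i ∈ s, y i =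
        (x a - y a) * ∏ i ∈ s, x i + y a * (∏ i ∈ s, x i - ∏ i ∈ s, y i) := by ring
    rw [e]
    refine add_mem ?_ ?_
    · have := Ideal.mul_mem_mul (h a (by simp)) (finset_prod_mem_pow I s x fun i hi => hx i (by simp [hi]))
      rw [← pow_add] at this
      rwa [show 2 + s.card = s.card + 1 + 1 by omega] at this
    · have := Ideal.mul_mem_mul (hy a (by simp)) (ih (fun i hi => hx i (by simp [hi]))
        (fun i hi => hy i (by simp [hi])) fun i hi => h i (by simp [hi]))
      rwa [← pow_succ' I (s.card + 1)] at this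

end Generic

variable (A B : Type u) [CommRing A] [CommRing B] [Algebra A B]

local notation "𝓘" => KaehlerDifferential.ideal A B

/-- the class of an element in the graded piece -/
def cls (k : ℕ) : ↥((𝓘 ^ k).restrictScalars B) →ₗ[B] PP16.grI A B k := Submodule.mkQ _

theorem cls_eq_iff (k : ℕ) (x y : ↥((𝓘 ^ k).restrictScalars B)) :
    cls A B k x = cls A B k y ↔ (x : B ⊗[A] B) - y ∈ 𝓘 ^ (k + 1) :=
  Submodule.Quotient.eq _

theorem smul_eq_mul_algebraMap (c : B) (x : B ⊗[A] B) : c • x = algebraMap B (B ⊗[A] B) c * x :=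
  Algebra.smul_def c x

/-- a chosen lift of a differential -/
def liftΩ (w : KaehlerDifferential A B) : B ⊗[A] B :=
  ((Ideal.toCotangent_surjective 𝓘) w).choose.1

theorem liftΩ_mem (w : KaehlerDifferential A B) : liftΩ A B w ∈ 𝓘 :=
  ((Ideal.toCotangent_surjective 𝓘) w).choose.2

theorem liftΩ_spec (w : KaehlerDifferential A B) :
    Ideal.toCotangent 𝓘 ⟨liftΩ A B w, liftΩ_mem A B w⟩ = w :=
  ((Ideal.toCotangent_surjective 𝓘) w).choose_spec

theorem liftΩ_sub_mem {x : B ⊗[A] B} (hx : x ∈ 𝓘) {w : KaehlerDifferential A B}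
    (h : Ideal.toCotangent 𝓘 ⟨x, hx⟩ = w) : liftΩ A B w - x ∈ 𝓘 ^ 2 :=
  (Ideal.toCotangent_eq 𝓘).1 ((liftΩ_spec A B w).trans h.symm)

theorem D_eq (b : B) : KaehlerDifferential.D A B b =
    Ideal.toCotangent 𝓘 ⟨1 ⊗ₜ[A] b - b ⊗ₜ[A] 1, KaehlerDifferential.one_smul_sub_smul_one_mem_ideal A b⟩ :=
  rfl

theorem liftΩ_D (b : B) :
    liftΩ A B (KaehlerDifferential.D A B b) - (1 ⊗ₜ[A] b - b ⊗ₜ[A] 1) ∈ 𝓘 ^ 2 :=
  liftΩ_sub_mem A B _ (D_eq A B b).symm

theorem liftΩ_add (w w' : KaehlerDifferential A B) :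
    liftΩ A B (w + w') - (liftΩ A B w + liftΩ A B w') ∈ 𝓘 ^ 2 :=
  liftΩ_sub_mem A B (add_mem (liftΩ_mem A B w) (liftΩ_mem A B w')) (by
    rw [show (⟨liftΩ A B w + liftΩ A B w', add_mem (liftΩ_mem A B w) (liftΩ_mem A B w')⟩ : 𝓘) =
      ⟨liftΩ A B w, liftΩ_mem A B w⟩ + ⟨liftΩ A B w', liftΩ_mem A B w'⟩ from rfl,
      map_add, liftΩ_spec, liftΩ_spec]
    rfl)

theorem liftΩ_smul (c : B) (w : KaehlerDifferential A B) :
    liftΩ A B (c • w) - c • liftΩ A B w ∈ 𝓘 ^ 2 := by
  rw [smul_eq_mul_algebraMap]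
  refine liftΩ_sub_mem A B (Ideal.mul_mem_left _ _ (liftΩ_mem A B w)) ?_
  rw [show (⟨algebraMap B (B ⊗[A] B) c * liftΩ A B w, Ideal.mul_mem_left _ _ (liftΩ_mem A B w)⟩ : 𝓘) =
    algebraMap B (B ⊗[A] B) c • ⟨liftΩ A B w, liftΩ_mem A B w⟩ from rfl, map_smul, liftΩ_spec]
  exact algebraMap_smul (B ⊗[A] B) c w

variable (ι : Type u) [Fintype ι]

/-- product of lifts -/
def prodLift (w : ι → KaehlerDifferential A B) : ↥((𝓘 ^ Fintype.card ι).restrictScalars B) :=
  ⟨∏ i, liftΩ A B (w i), by
    simpa using finset_prod_mem_pow 𝓘 Finset.univ (fun i => liftΩ A B (w i))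
      (fun i _ => liftΩ_mem A B (w i))⟩

theorem cls_prod_congr (w : ι → KaehlerDifferential A B) (x : ι → B ⊗[A] B) (hx : ∀ i, x i ∈ 𝓘)
    (h : ∀ i, liftΩ A B (w i) - x i ∈ 𝓘 ^ 2) (y : ↥((𝓘 ^ Fintype.card ι).restrictScalars B))
    (hy : (y : B ⊗[A] B) = ∏ i, x i) :
    cls A B _ (prodLift A B ι w) = cls A B _ y := by
  rw [cls_eq_iff, hy]
  exact prod_sub_prod_mem 𝓘 Finset.univ _ _ (fun i _ => liftΩ_mem A B (w i)) (fun i _ => hx i)
    fun i _ => h i

/-- The canonical map `Sym^ι Ω → I^n / I^(n+1)` exists. -/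
theorem exists_phi :
    ∃ φ : SymmetricPower B ι (KaehlerDifferential A B) →ₗ[B] PP16.grI A B (Fintype.card ι),
      (∀ b : ι → B, φ (SymmetricPower.tprod B (fun i => KaehlerDifferential.D A B (b i))) =
        PP16.zetaProd A B b) ∧
      ∀ w, φ (SymmetricPower.tprod B w) = cls A B _ (prodLift A B ι w) := by
  classical
  let F : MultilinearMap B (fun _ : ι => KaehlerDifferential A B) (PP16.grI A B (Fintype.card ι)) :=
    { toFun := fun w => cls A B _ (prodLift A B ι w)
      map_update_add' := fun w i a b => by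
        rw [← map_add]
        refine cls_prod_congr A B ι _
          (Function.update (fun j => liftΩ A B (w j)) i (liftΩ A B a + liftΩ A B b)) ?_ ?_ _ ?_
        · intro j
          rcases eq_or_ne j i with rfl | hj
          · rw [Function.update_self]; exact add_mem (liftΩ_mem A B a) (liftΩ_mem A B b)
          · rw [Function.update_of_ne hj]; exact liftΩ_mem A B _
        · intro j
          rcases eq_or_ne j i with rfl | hj
          · rw [Function.update_self, Function.update_self]; exact liftΩ_add A B a b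
          · rw [Function.update_of_ne hj, Function.update_of_ne hj, sub_self]; exact zero_mem _
        · show ∏ j, liftΩ A B (Function.update w i a j) + ∏ j, liftΩ A B (Function.update w i b j) = _
          have e : ∀ c, (fun j => liftΩ A B (Function.update w i c j)) =
              Function.update (fun j => liftΩ A B (w j)) i (liftΩ A B c) := fun c => by
            funext j
            rcases eq_or_ne j i with rfl | hj
            · simp
            · simp [hj]
          rw [e a, e b, Finset.prod_update_of_mem (Finset.mem_univ i),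
            Finset.prod_update_of_mem (Finset.mem_univ i), Finset.prod_update_of_mem (Finset.mem_univ i),
            add_mul]
      map_update_smul' := fun w i c a => by
        rw [← map_smul]
        refine cls_prod_congr A B ι _
          (Function.update (fun j => liftΩ A B (w j)) i (c • liftΩ A B a)) ?_ ?_ _ ?_
        · intro j
          rcases eq_or_ne j i with rfl | hj
          · rw [Function.update_self, smul_eq_mul_algebraMap]; exact Ideal.mul_mem_left _ _ (liftΩ_mem A B a)
          · rw [Function.update_of_ne hj]; exact liftΩ_mem A B _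
        · intro j
          rcases eq_or_ne j i with rfl | hj
          · rw [Function.update_self, Function.update_self]; exact liftΩ_smul A B c a
          · rw [Function.update_of_ne hj, Function.update_of_ne hj, sub_self]; exact zero_mem _
        · show c • ∏ j, liftΩ A B (Function.update w i a j) = _
          have e : (fun j => liftΩ A B (Function.update w i a j)) =
              Function.update (fun j => liftΩ A B (w j)) i (liftΩ A B a) := by
            funext j
            rcases eq_or_ne j i with rfl | hj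
            · simp
            · simp [hj]
          rw [e, Finset.prod_update_of_mem (Finset.mem_univ i),
            Finset.prod_update_of_mem (Finset.mem_univ i), smul_mul_assoc] }
  obtain ⟨φ, hφ⟩ := exists_symLift F fun e w => by
    show cls A B _ (prodLift A B ι fun i => w (e i)) = cls A B _ (prodLift A B ι w)
    congr 1
    exact Subtype.ext (Equiv.prod_comp e fun i => liftΩ A B (w i))
  refine ⟨φ, fun b => ?_, hφ⟩
  rw [hφ]
  exact cls_prod_congr A B ι _ (fun i => 1 ⊗ₜ[A] b i - b i ⊗ₜ[A] 1)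
    (fun i => KaehlerDifferential.one_smul_sub_smul_one_mem_ideal A (b i))
    (fun i => liftΩ_D A B (b i)) _ rfl

/-- Elements of `I^k` are generated, modulo `I^(k+1)`, by products of `1 ⊗ b - b ⊗ 1`. -/
theorem mem_span_zetaProd (z : PP16.grI A B (Fintype.card ι)) :
    z ∈ Submodule.span B (Set.range (fun b : ι → B => PP16.zetaProd A B b)) := by
  classical
  obtain ⟨⟨x, hx⟩, rfl⟩ := Submodule.Quotient.mk_surjective _ z
  have hpow : 𝓘 ^ Fintype.card ι = Ideal.span (Set.range fun b : ι → B =>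
      ∏ i, ((1 : B) ⊗ₜ[A] b i - b i ⊗ₜ[A] (1 : B))) := by
    rw [← KaehlerDifferential.span_range_eq_ideal, ← Finset.card_univ, ← Finset.prod_const,
      Ideal.prod_span]
    congr 1
    ext y
    rw [Set.mem_finsetProd]
    constructor
    · rintro ⟨g, hg, rfl⟩
      choose b hb using fun i => hg (Finset.mem_univ i)
      exact ⟨b, Finset.prod_congr rfl fun i _ => hb i⟩
    · rintro ⟨b, rfl⟩
      exact ⟨fun i => 1 ⊗ₜ[A] b i - b i ⊗ₜ[A] 1, fun {i} _ => ⟨b i, rfl⟩, rfl⟩
  have hx' : x ∈ 𝓘 ^ Fintype.card ι := hx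
  rw [hpow] at hx'
  obtain ⟨c, hc⟩ := Finsupp.mem_span_range_iff_exists_finsupp.1 hx'
  let μ : B ⊗[A] B → B := fun y => Algebra.TensorProduct.lmul' A (S := B) y
  have key : cls A B _ ⟨x, hx⟩ = ∑ b ∈ c.support, μ (c b) • PP16.zetaProd A B b := by
    show cls A B _ ⟨x, hx⟩ = ∑ b ∈ c.support, μ (c b) • cls A B _ _
    simp only [← map_smul]
    rw [← map_sum, cls_eq_iff, Submodule.coe_sum]
    show x - _ ∈ _
    rw [← hc, Finsupp.sum, ← Finset.sum_sub_distrib]
    refine Ideal.sum_mem _ fun b _ => ?_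
    show c b • ∏ i, ((1 : B) ⊗ₜ[A] b i - b i ⊗ₜ[A] (1 : B)) -
      μ (c b) • ∏ i, ((1 : B) ⊗ₜ[A] b i - b i ⊗ₜ[A] (1 : B)) ∈ _
    rw [smul_eq_mul, smul_eq_mul_algebraMap, ← sub_mul, pow_succ']
    refine Ideal.mul_mem_mul ?_ (by
      simpa using finset_prod_mem_pow 𝓘 Finset.univ (fun i => (1 : B) ⊗ₜ[A] b i - b i ⊗ₜ[A] (1 : B))
        fun i _ => KaehlerDifferential.one_smul_sub_smul_one_mem_ideal A (b i))
    refine RingHom.mem_ker.2 ?_
    simp [μ, Algebra.TensorProduct.algebraMap_apply]
  show cls A B _ ⟨x, hx⟩ ∈ _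
  rw [key]
  exact Submodule.sum_mem _ fun b _ => Submodule.smul_mem _ _ (Submodule.subset_span ⟨b, rfl⟩)

theorem phi_surjective (φ : SymmetricPower B ι (KaehlerDifferential A B) →ₗ[B] PP16.grI A B (Fintype.card ι))
    (hφ : ∀ b : ι → B, φ (SymmetricPower.tprod B (fun i => KaehlerDifferential.D A B (b i))) =
      PP16.zetaProd A B b) : Function.Surjective φ := by
  rw [← LinearMap.range_eq_top, eq_top_iff]
  intro z _
  refine Submodule.span_le.2 ?_ (mem_span_zetaProd A B ι z)
  rintro _ ⟨b, rfl⟩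
  exact ⟨_, hφ b⟩

end Groth.Agent.PP16Lib29
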