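import Mathlib.RingTheory.Spectrum.Prime.FreeLocus
import Mathlib.RingTheory.Localization.Free
import Mathlib.Algebra.Module.FinitePresentation
import Mathlib.Algebra.Module.Projective
import Mathlib.RingTheory.Spectrum.Prime.Basic

/-! # Locally free modules through elements -/

set_option autoImplicit false

noncomputable section

namespace Groth.Agent.PP16Lib29

universe u

variable {B : Type u} [CommRing B] {M : Type u} [AddCommGroup M] [Module B M]

/-- `x` is a basis of `M` over `D(b)`. -/
def LocBasis (b : B) {r : ℕ} (x : Fin r → M) : Prop :=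
  (∀ c : Fin r → B, ∑ i, c i • x i = 0 → ∃ k : ℕ, ∀ i, b ^ k * c i = 0) ∧
    ∀ w : M, ∃ k : ℕ, b ^ k • w ∈ Submodule.span B (Set.range x)

theorem exists_uniform {ι : Type*} [Finite ι] {p : ι → ℕ → Prop} (h : ∀ i, ∃ k, p i k)
    (hm : ∀ i k k', k ≤ k' → p i k → p i k') : ∃ k, ∀ i, p i k := by
  cases nonempty_fintype ι
  choose k hk using h
  exact ⟨∑ i, k i, fun i => hm i _ _ (Finset.single_le_sum (fun j _ => Nat.zero_le (k j)) (Finset.mem_univ i)) (hk i)⟩

theorem exists_locBasis [Module.Finite B M] [Module.Projective B M] (p : Ideal B) [p.IsPrime] :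
    ∃ b ∉ p, ∃ (r : ℕ) (x : Fin r → M), LocBasis b x := by
  classical
  haveI : Module.FinitePresentation B M := Module.finitePresentation_of_projective B M
  have hmem : (⟨p, inferInstance⟩ : PrimeSpectrum B) ∈ Module.freeLocus B M :=
    Module.freeLocus_eq_univ (R := B) (M := M) ▸ Set.mem_univ _
  have hfree : Module.Free (Localization.AtPrime p) (LocalizedModule p.primeCompl M) := hmem
  haveI : Module.Finite (Localization.AtPrime p) (LocalizedModule p.primeCompl M) :=
    Module.Finite.of_isLocalizedModule p.primeCompl (LocalizedModule.mkLinearMap p.primeCompl M)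
  let bp := Module.finBasis (Localization.AtPrime p) (LocalizedModule p.primeCompl M)
  obtain ⟨b, hb, b', -⟩ := Module.FinitePresentation.exists_basis_localizedModule_powers p.primeCompl
    (LocalizedModule.mkLinearMap p.primeCompl M) (Localization.AtPrime p) bp
  let ℓ := LocalizedModule.mkLinearMap (Submonoid.powers b) M
  have hsurj : ∀ y : LocalizedModule.Away b M, ∃ (k : ℕ) (m : M), b ^ k • y = ℓ m := fun y => by
    obtain ⟨⟨m, ⟨_, k, rfl⟩⟩, h⟩ := IsLocalizedModule.surj (Submonoid.powers b) ℓ y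
    exact ⟨k, m, h⟩
  obtain ⟨K, hK⟩ := exists_uniform (p := fun i k => ∃ m : M, b ^ k • b' i = ℓ m) (fun i => hsurj (b' i))
    fun i k k' hk ⟨m, hm⟩ => ⟨b ^ (k' - k) • m, by
      rw [map_smul, ← hm, smul_smul, ← pow_add, Nat.sub_add_cancel hk]⟩
  choose x hx using hK
  have hu : ∀ k : ℕ, IsUnit (algebraMap B (Localization (Submonoid.powers b)) (b ^ k)) := fun k =>
    IsLocalization.map_units _ (⟨b ^ k, k, rfl⟩ : Submonoid.powers b)
  refine ⟨b, hb, _, x, fun c hc => ?_, fun w => ?_⟩
  · have h0 : ∑ i, (algebraMap B (Localization (Submonoid.powers b)) (b ^ K * c i)) • b' i = 0 := by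
      have := congrArg ℓ hc
      rw [map_sum, map_zero] at this
      simp only [map_smul, ← hx, smul_smul] at this
      simpa only [algebraMap_smul, mul_comm] using this
    have h1 := Fintype.linearIndependent_iff.1 b'.linearIndependent _ h0
    refine exists_uniform (fun i => ?_) fun i k k' hk h => by
      rw [← Nat.sub_add_cancel hk, pow_add, mul_assoc, h, mul_zero]
    obtain ⟨⟨_, k, rfl⟩, hk⟩ := (IsLocalization.map_eq_zero_iff (Submonoid.powers b) _ _).1 (h1 i)
    exact ⟨k + K, by rw [pow_add, mul_assoc]; exact hk⟩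
  · have hw : ℓ w ∈ Submodule.span (Localization (Submonoid.powers b)) (Set.range fun i => ℓ (x i)) := by
      have htop : ℓ w ∈ Submodule.span (Localization (Submonoid.powers b)) (Set.range b') := by
        rw [b'.span_eq]; trivial
      refine Submodule.span_le.2 ?_ htop
      rintro _ ⟨i, rfl⟩
      have hmem : ℓ (x i) ∈ Submodule.span (Localization (Submonoid.powers b)) (Set.range fun i => ℓ (x i)) :=
        Submodule.subset_span ⟨i, rfl⟩
      rw [← hx i, ← algebraMap_smul (Localization (Submonoid.powers b)) (b ^ K) (b' i)] at hmem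
      exact (Submodule.smul_mem_iff_of_isUnit _ (hu K)).1 hmem
    obtain ⟨a, ha⟩ := (Submodule.mem_span_range_iff_exists_fun _).1 hw
    obtain ⟨⟨_, e, rfl⟩, he⟩ := IsLocalization.exist_integer_multiples (Submonoid.powers b) Finset.univ a
    choose a' ha' using fun i => he i (Finset.mem_univ i)
    have h2 : ℓ (b ^ e • w) = ℓ (∑ i, a' i • x i) := by
      rw [map_smul, ← ha, Finset.smul_sum, map_sum]
      refine Finset.sum_congr rfl fun i _ => ?_
      rw [map_smul, ← algebraMap_smul (Localization (Submonoid.powers b)) (a' i), ha', smul_assoc]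
    obtain ⟨⟨_, k, rfl⟩, hk⟩ := (IsLocalizedModule.eq_iff_exists (Submonoid.powers b) ℓ).1 h2
    refine ⟨k + e, ?_⟩
    rw [pow_add, mul_smul]
    show b ^ k • b ^ e • w ∈ _
    rw [show b ^ k • b ^ e • w = b ^ k • ∑ i, a' i • x i from hk]
    exact Submodule.smul_mem _ _ (Submodule.sum_mem _ fun i _ => Submodule.smul_mem _ _ (Submodule.subset_span ⟨i, rfl⟩))

theorem span_eq_top_of_forall_prime {S : Set B} (h : ∀ p : Ideal B, p.IsPrime → ∃ b ∈ S, b ∉ p) :
    Ideal.span S = ⊤ := by
  by_contra hne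
  obtain ⟨m, hm, hle⟩ := Ideal.exists_le_maximal _ hne
  obtain ⟨b, hbS, hb⟩ := h m hm.isPrime
  exact hb (hle (Ideal.subset_span hbS))

/-- A finitely generated module with local bases is projective. -/
theorem projective_of_locBasis [Module.Finite B M]
    (h : ∀ p : Ideal B, p.IsPrime → ∃ b ∉ p, ∃ (r : ℕ) (x : Fin r → M), LocBasis b x) :
    Module.Projective B M := by
  classical
  obtain ⟨N, w, hw⟩ := Module.Finite.exists_fin (R := B) (M := M)
  let π : (Fin N → B) →ₗ[B] M := Fintype.linearCombination B w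
  have hπ : Function.Surjective π := by
    rw [← LinearMap.range_eq_top, Fintype.range_linearCombination, hw]
  have hπe : ∀ j, π (Pi.single j 1) = w j := fun j => by
    simp [π, Fintype.linearCombination_apply_single]
  let S : Set B := {b | ∃ (r : ℕ) (x : Fin r → M), LocBasis b x}
  have hS : Ideal.span S = ⊤ := span_eq_top_of_forall_prime fun p hp => by
    obtain ⟨b, hb, hx⟩ := h p hp
    exact ⟨b, hx, hb⟩
  obtain ⟨t, htS, ht⟩ := (Ideal.span_eq_top_iff_finite S).1 hS
  -- the data at each member of the cover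
  have hdata : ∀ b : t, ∃ (r : ℕ) (x : Fin r → M) (s : ℕ) (c : Fin N → Fin r → B) (y : Fin r → Fin N → B),
      LocBasis (b : B) x ∧ (∀ j, ∑ i, c j i • x i = (b : B) ^ s • w j) ∧ ∀ i, π (y i) = x i := by
    intro b
    obtain ⟨r, x, hx⟩ := htS b.2
    obtain ⟨s, hs⟩ := exists_uniform (p := fun j s => (b : B) ^ s • w j ∈ Submodule.span B (Set.range x))
      (fun j => hx.2 (w j)) fun j k k' hk hmem => by
        rw [← Nat.sub_add_cancel hk, pow_add, mul_smul]; exact Submodule.smul_mem _ _ hmem
    choose c hc using fun j => (Submodule.mem_span_range_iff_exists_fun B).1 (hs j)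
    choose y hy using fun i => hπ (x i)
    exact ⟨r, x, s, c, y, hx, hc, hy⟩
  choose r x s c y hx hc hy using hdata
  let rel : (Σ _ : t, Fin N) → (Fin N → B) := fun bj =>
    (bj.1 : B) ^ s bj.1 • Pi.single bj.2 1 - ∑ i, c bj.1 bj.2 i • y bj.1 i
  have hrel : ∀ bj, π (rel bj) = 0 := fun bj => by
    simp only [rel, map_sub, map_smul, map_sum, hy, hc, hπe, sub_self]
  let K : Submodule B (Fin N → B) := Submodule.span B (Set.range rel)
  have hKle : K ≤ LinearMap.ker π := Submodule.span_le.2 (by rintro _ ⟨bj, rfl⟩; exact hrel bj)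
  have hK : LinearMap.ker π = K := by
    refine le_antisymm (fun a ha => ?_) hKle
    refine Submodule.mem_of_span_eq_top_of_smul_pow_mem K (t : Set B) ht a fun ⟨b, hb⟩ => ?_
    let bb : t := ⟨b, hb⟩
    let d : Fin (r bb) → B := fun i => ∑ j, a j * c bb j i
    have hd : b ^ s bb • a = (∑ j, a j • rel ⟨bb, j⟩) + ∑ i, d i • y bb i := by
      have ea : a = ∑ j, a j • (Pi.single j 1 : Fin N → B) := (pi_eq_sum_univ' a)
      simp only [rel, smul_sub, Finset.sum_sub_distrib, d, Finset.sum_smul, Finset.smul_sum, smul_smul]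
      rw [Finset.sum_comm (f := fun (i : Fin (r bb)) (j : Fin N) => (a j * c bb j i) • y bb i), sub_add_cancel]
      conv_lhs => rw [ea, Finset.smul_sum]
      simp only [smul_smul, mul_comm]
      rfl
    have hd0 : ∑ i, d i • x bb i = 0 := by
      have := congrArg π hd
      rw [map_smul, LinearMap.mem_ker.1 ha, smul_zero, map_add, map_sum, map_sum] at this
      simp only [map_smul, hrel, smul_zero, Finset.sum_const_zero, zero_add, hy] at this
      exact this.symm
    obtain ⟨k, hk⟩ := (hx bb).1 d hd0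
    refine ⟨k + s bb, ?_⟩
    rw [pow_add, mul_smul]
    show b ^ k • b ^ s bb • a ∈ K
    rw [hd, smul_add, Finset.smul_sum]
    refine add_mem (Submodule.sum_mem _ fun j _ => Submodule.smul_mem _ _
      (Submodule.smul_mem _ _ (Submodule.subset_span ⟨⟨bb, j⟩, rfl⟩))) ?_
    rw [Finset.smul_sum, Finset.sum_eq_zero fun i _ => by rw [smul_smul, hk i, zero_smul]]
    exact zero_mem _
  -- multiplication by elements of the cover factors through free modules
  let F : Set B := {e | ∃ (n : ℕ) (f : M →ₗ[B] (Fin n → B)) (g : (Fin n → B) →ₗ[B] M), ∀ m, g (f m) = e • m}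
  have hF : ∀ b : t, ∃ k, (b : B) ^ k ∈ F := by
    intro b
    let ĉ : (Fin N → B) →ₗ[B] (Fin (r b) → B) := Fintype.linearCombination B (c b)
    have hrel0 : ∀ bj, ∃ k, ∀ i, (b : B) ^ k * ĉ (rel bj) i = 0 := by
      intro bj
      obtain ⟨k, hk⟩ := (hx b).1 (fun i => ĉ (rel bj) i) (by
        have hlin : ∀ a : Fin N → B, ∑ i, ĉ a i • x b i = (b : B) ^ s b • π a := fun a => by
          simp only [ĉ, π, Fintype.linearCombination_apply, Finset.sum_apply, Pi.smul_apply, smul_eq_mul,
            Finset.sum_smul, Finset.smul_sum, mul_smul]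
          rw [Finset.sum_comm]
          refine Finset.sum_congr rfl fun j _ => ?_
          rw [← Finset.smul_sum, hc, smul_comm]
        rw [hlin, hrel, smul_zero])
      exact ⟨k, hk⟩
    obtain ⟨m, hm⟩ := exists_uniform (p := fun bj k => ∀ i, (b : B) ^ k * ĉ (rel bj) i = 0) hrel0
      fun bj k k' hk hh i => by rw [← Nat.sub_add_cancel hk, pow_add, mul_assoc, hh i, mul_zero]
    let L₀ : (Fin N → B) →ₗ[B] (Fin (r b) → B) := (b : B) ^ m • ĉ
    have hL₀ : LinearMap.ker π ≤ LinearMap.ker L₀ := by
      rw [hK, Submodule.span_le]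
      rintro _ ⟨bj, rfl⟩
      refine LinearMap.mem_ker.2 (funext fun i => ?_)
      exact hm bj i
    let L : M →ₗ[B] (Fin (r b) → B) :=
      (Submodule.liftQ _ L₀ hL₀).comp (π.quotKerEquivOfSurjective hπ).symm.toLinearMap
    have hLπ : ∀ a, L (π a) = L₀ a := fun a => by
      simp only [L, LinearMap.comp_apply, LinearEquiv.coe_coe,
        LinearMap.quotKerEquivOfSurjective_symm_apply, Submodule.liftQ_apply]
    refine ⟨m + s b, r b, L, Fintype.linearCombination B (x b), fun v => ?_⟩
    obtain ⟨a, rfl⟩ := hπ v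
    rw [hLπ]
    simp only [L₀, ĉ, π, LinearMap.smul_apply, Fintype.linearCombination_apply, Pi.smul_apply,
      Finset.sum_apply, smul_eq_mul, Finset.smul_sum, Finset.sum_smul, Finset.mul_sum, mul_smul, pow_add]
    rw [Finset.sum_comm]
    refine Finset.sum_congr rfl fun j _ => ?_
    rw [← Finset.smul_sum, ← Finset.smul_sum, hc, smul_comm ((b : B) ^ s b) (a j)]
  choose k hk using hF
  -- the set `F` is an ideal
  let FI : Ideal B :=
    { carrier := F
      zero_mem' := ⟨0, 0, 0, fun m => by simp⟩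
      add_mem' := by
        rintro e e' ⟨n, f, g, hfg⟩ ⟨n', f', g', hfg'⟩
        let ε : ((Fin n → B) × (Fin n' → B)) ≃ₗ[B] (Fin (n + n') → B) :=
          (LinearEquiv.sumArrowLequivProdArrow (Fin n) (Fin n') B B).symm ≪≫ₗ
            LinearEquiv.funCongrLeft B B finSumFinEquiv.symm
        refine ⟨n + n', ε.toLinearMap.comp (f.prod f'), (g.coprod g').comp ε.symm.toLinearMap, fun m => ?_⟩
        simp [hfg, hfg', add_smul]
      smul_mem' := by
        rintro a e ⟨n, f, g, hfg⟩
        exact ⟨n, f, a • g, fun m => by simp [hfg, smul_smul]⟩ }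
  have h1 : (1 : B) ∈ FI := by
    have hp := Ideal.span_pow_eq_top (t : Set B) ht
    obtain ⟨n, hn⟩ : ∃ n, ∀ b : t, k b ≤ n := ⟨∑ b, k b, fun b =>
      Finset.single_le_sum (fun j _ => Nat.zero_le (k j)) (Finset.mem_univ b)⟩
    have : (⊤ : Ideal B) ≤ FI := by
      rw [← hp n, Ideal.span_le]
      rintro _ ⟨b, hb, rfl⟩
      show b ^ n ∈ FI
      rw [show b ^ n = b ^ (n - k ⟨b, hb⟩) * b ^ k ⟨b, hb⟩ by
        rw [← pow_add, Nat.sub_add_cancel (hn ⟨b, hb⟩)]]
      exact FI.mul_mem_left _ (hk ⟨b, hb⟩)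
    exact this trivial
  obtain ⟨n, f, g, hfg⟩ := h1
  exact Module.Projective.of_split f g (LinearMap.ext fun m => by simp [hfg])

end Groth.Agent.PP16Lib29
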