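import Groth.Agent.PP16Lib29.Crit

/-! # The polynomial model of `P^n` for a differentially smooth algebra -/

set_option autoImplicit false

noncomputable section

open scoped TensorProduct

namespace Groth.Agent.PP16Lib29

universe u v

theorem mem_pow_one_iff {R : Type*} [CommRing R] {I : Ideal R} {x : R} : x ∈ I ^ 1 ↔ x ∈ I := by
  rw [pow_one]

theorem mem_pow_zero' {R : Type*} [CommRing R] (I : Ideal R) (x : R) : x ∈ I ^ 0 := by
  rw [pow_zero, Ideal.one_eq_top]; trivial

theorem pow_succ_induction {R : Type*} [CommRing R] {I : Ideal R} {k : ℕ} {C : R → Prop} {a : R}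
    (ha : a ∈ I ^ (k + 1)) (hm : ∀ x ∈ I ^ k, ∀ y ∈ I, C (x * y)) (hadd : ∀ x y, C x → C y → C (x + y)) :
    C a := by
  rw [pow_succ] at ha
  exact Submodule.mul_induction_on ha hm hadd

theorem mul_mem_pow_add {R : Type*} [CommRing R] {I : Ideal R} {i j : ℕ} {x y : R} (hx : x ∈ I ^ i)
    (hy : y ∈ I ^ j) : x * y ∈ I ^ (i + j) := pow_add I i j ▸ Ideal.mul_mem_mul hx hy

variable {A B : Type u} [CommRing A] [CommRing B] [Algebra A B] {σ : Type v}

local notation "𝓘" => KaehlerDifferential.ideal A B

section Lifts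

variable (n : ℕ)

/-- `liftΩ` pushed to `P^n` -/
def liftP (w : KaehlerDifferential A B) : PP16.P n A B := Ideal.Quotient.mk _ (liftΩ A B w)

theorem mk_mem_aug {x : B ⊗[A] B} (hx : x ∈ 𝓘) :
    (Ideal.Quotient.mk _ x : PP16.P n A B) ∈ PP16.augIdeal n A B :=
  map_mk_mem_of _ _ hx

theorem mk_mem_aug_pow {x : B ⊗[A] B} {k : ℕ} (hx : x ∈ 𝓘 ^ k) :
    (Ideal.Quotient.mk _ x : PP16.P n A B) ∈ PP16.augIdeal n A B ^ k :=
  map_pow_mem (Ideal.Quotient.mk _) (fun _ h => mk_mem_aug n h) hx

theorem mem_pow_of_mk_mem {x : B ⊗[A] B} {k : ℕ} (hk : k ≤ n + 1)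
    (hx : (Ideal.Quotient.mk _ x : PP16.P n A B) ∈ PP16.augIdeal n A B ^ k) : x ∈ 𝓘 ^ k := by
  have h : (PP16.augIdeal n A B) ^ k ≤ (𝓘 ^ k).map (Ideal.Quotient.mk (𝓘 ^ (n + 1))) := by
    rw [Ideal.map_pow]; exact le_rfl
  have h2 := (Ideal.mem_quotient_iff_mem_sup).1 (h hx)
  rwa [sup_eq_left.2 (Ideal.pow_le_pow_right hk)] at h2

theorem zeta_sub_liftP (b : B) :
    zeta n A B b - liftP n (KaehlerDifferential.D A B b) ∈ PP16.augIdeal n A B ^ 2 := by
  rw [zeta_eq_mk, liftP, ← map_sub]
  refine mk_mem_aug_pow n ?_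
  rw [← neg_sub]
  exact neg_mem (liftΩ_D A B b)

theorem exists_additive_liftP :
    (∀ w w', liftP (A := A) (B := B) n (w + w') - (liftP n w + liftP n w') ∈ PP16.augIdeal n A B ^ 2) ∧
    ∀ (c : B) w, liftP (A := A) n (c • w) - c • liftP n w ∈ PP16.augIdeal n A B ^ 2 := by
  refine ⟨fun w w' => ?_, fun c w => ?_⟩
  · simp only [liftP, ← map_add, ← map_sub]
    exact mk_mem_aug_pow n (liftΩ_add A B w w')
  · have : c • liftP n w = Ideal.Quotient.mk (𝓘 ^ (n + 1)) (c • liftΩ A B w) := rfl
    rw [this, liftP, ← map_sub]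
    exact mk_mem_aug_pow n (liftΩ_smul A B c w)

end Lifts

theorem linForm_comp_aeval {R : Type*} [CommRing R] [Algebra B R] (f : σ → R) (c : σ →₀ B) :
    MvPolynomial.aeval f (linForm c) = c.sum fun i b => b • f i := by
  induction c using Finsupp.induction_linear with
  | zero => simp
  | add a b ha hb =>
    rw [map_add, map_add, ha, hb, Finsupp.sum_add_index'] <;> intros <;> simp [add_smul]
  | single i b =>
    rw [linForm_single, map_mul, MvPolynomial.aeval_C, MvPolynomial.aeval_X, Finsupp.sum_single_index]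
    · rw [Algebra.smul_def]
    · simp

theorem prod_map_toMultiset {M : Type*} [CommMonoid M] (f : σ → M) (d : σ →₀ ℕ) :
    ((Finsupp.toMultiset d).map f).prod = d.prod fun i e => f i ^ e := by
  induction d using Finsupp.induction_linear with
  | zero => simp
  | add a b ha hb =>
    rw [Finsupp.toMultiset_add, Multiset.map_add, Multiset.prod_add, ha, hb, Finsupp.prod_add_index'] <;>
      intros <;> simp [pow_add]
  | single a e => simp [Finsupp.toMultiset_single, Multiset.map_nsmul, Multiset.prod_nsmul]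

theorem isHomogeneous_map_linear {τ : Type*} (E : MvPolynomial σ B →ₐ[B] MvPolynomial τ B)
    (h : ∀ i, (E (MvPolynomial.X i)).IsHomogeneous 1) {k : ℕ} {p : MvPolynomial σ B}
    (hp : p.IsHomogeneous k) : (E p).IsHomogeneous k := by
  classical
  rw [p.as_sum, map_sum]
  refine MvPolynomial.IsHomogeneous.sum _ _ k fun d hd => ?_
  rw [MvPolynomial.monomial_eq, map_mul, ← MvPolynomial.algebraMap_eq, AlgHom.commutes,
    MvPolynomial.algebraMap_eq]
  have hdeg : Finsupp.degree d = k := by
    have := hp (MvPolynomial.mem_support_iff.1 hd)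
    rwa [Finsupp.degree_eq_weight_one]
  have : (E (d.prod fun i e => MvPolynomial.X i ^ e)).IsHomogeneous (Finsupp.degree d) := by
    rw [Finsupp.prod, map_prod]
    simp only [map_pow]
    rw [show Finsupp.degree d = ∑ i ∈ d.support, 1 * d i by simp [Finsupp.degree_apply]]
    exact MvPolynomial.IsHomogeneous.prod _ _ _ fun i _ => (h i).pow (d i)
  simpa [hdeg] using (MvPolynomial.isHomogeneous_C τ (p.coeff d)).mul this

theorem pow_varIdeal_map {τ : Type*} (E : MvPolynomial σ B →ₐ[B] MvPolynomial τ B)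
    (h : ∀ i, E (MvPolynomial.X i) ∈ varIdeal τ B) {k : ℕ} {p : MvPolynomial σ B}
    (hp : p ∈ varIdeal σ B ^ k) : E p ∈ varIdeal τ B ^ k := by
  refine map_pow_mem E.toRingHom (fun x hx => ?_) hp
  have hle : varIdeal σ B ≤ (varIdeal τ B).comap E.toRingHom := by
    rw [Ideal.span_le]; rintro _ ⟨i, rfl⟩; exact h i
  exact hle hx

theorem constantCoeff_eq_zero_iff {p : MvPolynomial σ B} :
    MvPolynomial.constantCoeff p = 0 ↔ p ∈ varIdeal σ B := by
  rw [← mem_pow_one_iff (I := varIdeal σ B),
    show varIdeal σ B = MvPolynomial.idealOfVars σ B from rfl, MvPolynomial.mem_pow_idealOfVars_iff']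
  refine ⟨fun h d hd => ?_, fun h => h 0 (by simp)⟩
  rw [(Finsupp.degree_eq_zero_iff d).1 (by omega)]
  exact h

variable (L : KaehlerDifferential A B →ₗ[B] (σ →₀ B)) (r : (σ →₀ B) →ₗ[B] KaehlerDifferential A B)

/-- the projection on polynomials induced by `L ∘ r` -/
def proj : MvPolynomial σ B →ₐ[B] MvPolynomial σ B :=
  MvPolynomial.aeval fun i => linForm (L (r (Finsupp.single i 1)))

theorem proj_linForm (c : σ →₀ B) : proj L r (linForm c) = linForm (L (r c)) := by
  rw [proj, linForm_comp_aeval]
  conv_rhs => rw [← Finsupp.sum_single c]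
  simp only [Finsupp.sum, map_sum]
  refine Finset.sum_congr rfl fun i _ => ?_
  rw [← map_smul, ← map_smul, ← map_smul, Finsupp.smul_single, smul_eq_mul, mul_one]

theorem proj_X (i : σ) : proj L r (MvPolynomial.X i) = linForm (L (r (Finsupp.single i 1))) := by
  rw [proj, MvPolynomial.aeval_X]

/-- The model: `Θ` is surjective, and the projection detects its kernel. -/
theorem exists_model (h : PP16.IsDiffSmooth A B) (hrL : ∀ w, r (L w) = w) (n : ℕ) :
    ∃ Θ : MvPolynomial σ B →ₐ[B] PP16.P n A B,
      Function.Surjective Θ ∧ (∀ i, Θ (MvPolynomial.X i) ∈ PP16.augIdeal n A B) ∧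
      (∀ x, Θ (proj L r x) = Θ x) ∧
      (∀ x, Θ x = 0 → proj L r x ∈ varIdeal σ B ^ (n + 1)) ∧
      ∀ b, zeta n A B b - Θ (linForm (L (KaehlerDifferential.D A B b))) ∈ PP16.augIdeal n A B ^ 2 := by
  classical
  have hEidem : ∀ x, proj L r (proj L r x) = proj L r x := fun x => by
    have : (proj L r).comp (proj L r) = proj L r := MvPolynomial.algHom_ext fun i => by
      rw [AlgHom.comp_apply, proj_X, proj_linForm, hrL]
    exact AlgHom.congr_fun this x
  let Θ₀ : MvPolynomial σ B →ₐ[B] PP16.P n A B :=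
    MvPolynomial.aeval fun i => liftP n (r (Finsupp.single i 1))
  let Θ : MvPolynomial σ B →ₐ[B] PP16.P n A B := Θ₀.comp (proj L r)
  obtain ⟨hadd, hsmul⟩ := exists_additive_liftP (A := A) (B := B) n
  have hΘ₀lin : ∀ c, Θ₀ (linForm c) - liftP n (r c) ∈ PP16.augIdeal n A B ^ 2 := by
    intro c
    induction c using Finsupp.induction_linear with
    | zero =>
      have h0 := hsmul 0 0
      rw [zero_smul, zero_smul, sub_zero] at h0
      simpa using neg_mem h0
    | add a b ha hb =>
      have h1 := sub_mem (add_mem ha hb) (hadd (r a) (r b))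
      convert h1 using 1
      simp only [map_add]
      ring
    | single i b =>
      have h1 := hsmul b (r (Finsupp.single i 1))
      rw [← map_smul, Finsupp.smul_single, smul_eq_mul, mul_one] at h1
      have : Θ₀ (linForm (Finsupp.single i b)) = b • liftP n (r (Finsupp.single i 1)) := by
        simp only [Θ₀, linForm_comp_aeval, Finsupp.sum_single_index, zero_smul]
      rw [this, ← neg_sub]
      exact neg_mem h1
  have hΘL : ∀ w, Θ (linForm (L w)) - liftP n w ∈ PP16.augIdeal n A B ^ 2 := by
    intro w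
    show Θ₀ (proj L r (linForm (L w))) - _ ∈ _
    rw [proj_linForm, hrL]
    simpa [hrL] using hΘ₀lin (L w)
  have hΘ₀X : ∀ i, Θ₀ (MvPolynomial.X i) ∈ PP16.augIdeal n A B := fun i => by
    simp only [Θ₀, MvPolynomial.aeval_X]
    exact mk_mem_aug n (liftΩ_mem A B _)
  have hΘU : ∀ {k : ℕ} {p}, p ∈ varIdeal σ B ^ k → Θ p ∈ PP16.augIdeal n A B ^ k := by
    intro k p hp
    refine map_pow_mem Θ.toRingHom (fun x hx => ?_) hp
    have hle : varIdeal σ B ≤ (PP16.augIdeal n A B).comap Θ.toRingHom := by
      rw [Ideal.span_le]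
      rintro _ ⟨i, rfl⟩
      show Θ₀ (proj L r (MvPolynomial.X i)) ∈ PP16.augIdeal n A B
      rw [proj_X]
      have hle₀ : varIdeal σ B ≤ (PP16.augIdeal n A B).comap Θ₀.toRingHom := by
        rw [Ideal.span_le]; rintro _ ⟨j, rfl⟩; exact hΘ₀X j
      exact hle₀ (linForm_mem _)
    exact hle hx
  have hzeta : ∀ b, zeta n A B b - Θ (linForm (L (KaehlerDifferential.D A B b))) ∈
      PP16.augIdeal n A B ^ 2 := by
    intro b
    have := sub_mem (zeta_sub_liftP n b) (hΘL (KaehlerDifferential.D A B b))
    convert this using 1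
    ring
  have hΘX : ∀ i, Θ (MvPolynomial.X i) ∈ PP16.augIdeal n A B := fun i =>
    mem_pow_one_iff.1 (hΘU (k := 1) (p := MvPolynomial.X i) (mem_pow_one_iff.2 (Ideal.subset_span ⟨i, rfl⟩)))
  -- surjectivity
  have happrox1 : ∀ b ∈ PP16.augIdeal n A B, ∃ s, b - Θ s ∈ PP16.augIdeal n A B ^ 2 := by
    intro b hb
    rw [augIdeal_eq_span] at hb
    induction hb using Submodule.span_induction with
    | mem y hy => obtain ⟨c, rfl⟩ := hy; exact ⟨_, hzeta c⟩
    | zero => exact ⟨0, by simp⟩
    | add a c _ _ ha hc =>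
      obtain ⟨s, hs⟩ := ha
      obtain ⟨t, ht⟩ := hc
      refine ⟨s + t, ?_⟩
      convert add_mem hs ht using 1
      rw [map_add]; ring
    | smul c a hmem ha =>
      obtain ⟨s, hs⟩ := ha
      refine ⟨MvPolynomial.C (aug n A B c) * s, ?_⟩
      rw [smul_eq_mul, map_mul, ← MvPolynomial.algebraMap_eq, AlgHom.commutes]
      have ha' : a ∈ PP16.augIdeal n A B := by rw [augIdeal_eq_span]; exact hmem
      have := add_mem (Ideal.mul_mem_left _ (algebraMap B (PP16.P n A B) (aug n A B c)) hs)
        (sq (PP16.augIdeal n A B) ▸ Ideal.mul_mem_mul (sub_aug_mem n A B c) ha')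
      convert this using 1
      ring
  have happrox : ∀ k, ∀ a ∈ PP16.augIdeal n A B ^ k, ∃ s, a - Θ s ∈ PP16.augIdeal n A B ^ (k + 1) := by
    intro k
    induction k with
    | zero =>
      intro a _
      refine ⟨MvPolynomial.C (aug n A B a), ?_⟩
      rw [← MvPolynomial.algebraMap_eq, AlgHom.commutes]
      exact mem_pow_one_iff.2 (sub_aug_mem n A B a)
    | succ k ih =>
      intro a ha
      refine pow_succ_induction (C := fun a => ∃ s, a - Θ s ∈ PP16.augIdeal n A B ^ (k + 1 + 1)) ha
        (fun x hx y hy => ?_) fun x y hx hy => ?_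
      · obtain ⟨s, hs⟩ := ih x hx
        obtain ⟨t, ht⟩ := happrox1 y hy
        refine ⟨s * t, ?_⟩
        have hΘs : Θ s ∈ PP16.augIdeal n A B ^ k := by
          have := sub_mem hx (Ideal.pow_le_pow_right (Nat.le_succ k) hs)
          simpa using this
        have h1 := mul_mem_pow_add hs (mem_pow_one_iff.2 hy)
        have h2 := mul_mem_pow_add hΘs ht
        convert add_mem h1 h2 using 1
        rw [map_mul]; ring
      · obtain ⟨s, hs⟩ := hx
        obtain ⟨t, ht⟩ := hy
        refine ⟨s + t, ?_⟩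
        convert add_mem hs ht using 1
        rw [map_add]; ring
  have hsurj : ∀ j k, k + j = n + 1 → ∀ a ∈ PP16.augIdeal n A B ^ k, ∃ s, Θ s = a := by
    intro j
    induction j with
    | zero =>
      intro k hk a ha
      rw [Nat.add_zero] at hk
      rw [hk, augIdeal_pow, Ideal.mem_bot] at ha
      exact ⟨0, by rw [map_zero, ha]⟩
    | succ j ih =>
      intro k hk a ha
      obtain ⟨s, hs⟩ := happrox k a ha
      obtain ⟨t, ht⟩ := ih (k + 1) (by omega) _ hs
      exact ⟨s + t, by rw [map_add, ht]; ring⟩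
  refine ⟨Θ, fun a => hsurj (n + 1) 0 (by omega) a (mem_pow_zero' _ a),
    hΘX, fun x => ?_, fun x hx => ?_, hzeta⟩
  · show Θ₀ (proj L r (proj L r x)) = Θ₀ (proj L r x)
    rw [hEidem]
  -- kernel
  set y := proj L r x with hy
  have hy0 : Θ y = 0 := by
    show Θ₀ (proj L r (proj L r x)) = 0
    rw [hEidem]; exact hx
  have hyE : proj L r y = y := hEidem x
  suffices ∀ k ≤ n + 1, y ∈ varIdeal σ B ^ k from this (n + 1) le_rfl
  intro k
  induction k with
  | zero => intro _; rw [pow_zero, Ideal.one_eq_top]; trivial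
  | succ k ih =>
    intro hk
    have hyk := ih (by omega)
    set z := MvPolynomial.homogeneousComponent k y with hz
    have hzk : z.IsHomogeneous k := MvPolynomial.homogeneousComponent_isHomogeneous k y
    have hyz : y - z ∈ varIdeal σ B ^ (k + 1) := by
      rw [show varIdeal σ B = MvPolynomial.idealOfVars σ B from rfl, MvPolynomial.mem_pow_idealOfVars_iff']
      intro d hd
      rw [MvPolynomial.coeff_sub, hz, MvPolynomial.coeff_homogeneousComponent]
      split_ifs with hdk
      · rw [sub_self]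
      · rw [sub_zero]
        exact (MvPolynomial.mem_pow_idealOfVars_iff' k y).1 hyk d (by omega)
    have hEhom : ∀ i, (proj L r (MvPolynomial.X i)).IsHomogeneous 1 := fun i => by
      rw [proj_X]; exact linForm_isHomogeneous _
    have hEX : ∀ i, proj L r (MvPolynomial.X i) ∈ varIdeal σ B := fun i => by
      rw [proj_X]; exact linForm_mem _
    have hzE : proj L r z = z := by
      refine sub_eq_zero.1 (eq_zero_of_isHomogeneous_of_mem_pow
        (((MvPolynomial.homogeneousSubmodule σ B k).sub_mem (isHomogeneous_map_linear _ hEhom hzk) hzk)) ?_)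
      have h1 := sub_mem hyz (pow_varIdeal_map _ hEX hyz)
      rw [map_sub, hyE] at h1
      convert h1 using 1
      ring
    let ι := ULift.{u} (Fin k)
    obtain ⟨S, hS, -⟩ := exists_symToPoly L ι
    have hzS : proj L r z ∈ LinearMap.range S := by
      rw [z.as_sum, map_sum]
      refine Submodule.sum_mem _ fun d hd => ?_
      have hdeg : (Finsupp.toMultiset d).toList.length = k := by
        rw [Multiset.length_toList, Finsupp.card_toMultiset]
        have := hzk (MvPolynomial.mem_support_iff.1 hd)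
        have hd' : Finsupp.degree d = k := by rw [Finsupp.degree_eq_weight_one]; exact this
        rw [Finsupp.degree_apply] at hd'
        simpa [Finsupp.sum] using hd' 
      let f : ι → σ := fun i => (Finsupp.toMultiset d).toList.get (i.down.cast hdeg.symm)
      have hmon : (d.prod fun i e => (MvPolynomial.X i : MvPolynomial σ B) ^ e) =
          ∏ i : ι, MvPolynomial.X (f i) := by
        rw [← prod_map_toMultiset, ← (Finsupp.toMultiset d).coe_toList, Multiset.map_coe,
          Multiset.prod_coe, ← List.ofFn_get (Finsupp.toMultiset d).toList, List.map_ofFn, List.prod_ofFn]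
        refine (Fintype.prod_equiv (Equiv.ulift.trans (finCongr hdeg.symm)) _ _ fun i => ?_).symm
        simp [f]
      refine ⟨z.coeff d • SymmetricPower.tprod B fun i => r (Finsupp.single (f i) 1), ?_⟩
      rw [map_smul, hS, MvPolynomial.monomial_eq, hmon, map_mul, ← MvPolynomial.algebraMap_eq,
        AlgHom.commutes, map_prod, Algebra.smul_def]
      simp only [proj_X, MvPolynomial.algebraMap_eq]
    obtain ⟨t, ht⟩ := hzS
    rw [hzE] at ht
    obtain ⟨φ, hφD, hφ⟩ := exists_phi A B ι
    obtain ⟨φ', hφ'D, hφ'inj, hφ'surj⟩ := h.2 ι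
    have hφinj : Function.Injective φ := by
      have : φ = φ' := by
        refine LinearMap.ext_on (s := Set.range fun b : ι → B =>
          SymmetricPower.tprod B fun i => KaehlerDifferential.D A B (b i)) ?_ ?_
        · refine eq_top_iff.2 fun q _ => ?_
          obtain ⟨q', hq'⟩ : ∃ q', q' ∈ Submodule.span B (Set.range fun b : ι → B =>
              SymmetricPower.tprod B fun i => KaehlerDifferential.D A B (b i)) ∧ φ' q' = φ' q := by
            have := mem_span_zetaProd A B ι (φ' q)
            rw [show (fun b : ι → B => PP16.zetaProd A B b) =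
              φ' ∘ (fun b : ι → B => SymmetricPower.tprod B fun i => KaehlerDifferential.D A B (b i)) from
                funext fun b => (hφ'D b).symm, Set.range_comp, Submodule.span_image] at this
            obtain ⟨q', h1, h2⟩ := this
            exact ⟨q', h1, h2⟩
          rw [← hφ'inj hq'.2]
          exact hq'.1
        · rintro _ ⟨b, rfl⟩
          rw [hφD, hφ'D]
      rw [this]; exact hφ'inj
    have hcard : Fintype.card ι = k := by simp [ι]
    have hrep : ∀ q : SymmetricPower B ι (KaehlerDifferential A B),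
        ∃ x : ↥((𝓘 ^ Fintype.card ι).restrictScalars B), cls A B _ x = φ q ∧
          Θ (S q) - Ideal.Quotient.mk _ (x : B ⊗[A] B) ∈ PP16.augIdeal n A B ^ (Fintype.card ι + 1) := by
      intro q
      have hq : q ∈ Submodule.span B (Set.range
          (SymmetricPower.tprod B (ι := ι) (M := KaehlerDifferential A B))) := by
        rw [SymmetricPower.span_tprod_eq_top]; trivial
      induction hq using Submodule.span_induction with
      | mem q hq =>
        obtain ⟨w, rfl⟩ := hq
        refine ⟨prodLift A B ι w, (hφ w).symm, ?_⟩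
        rw [hS, map_prod]
        show _ - Ideal.Quotient.mk _ (∏ i, liftΩ A B (w i)) ∈ _
        rw [map_prod, ← Finset.card_univ]
        exact prod_sub_prod_mem _ Finset.univ _ _
          (fun i _ => mem_pow_one_iff.1 (hΘU (k := 1) (p := linForm (L (w i))) (mem_pow_one_iff.2 (linForm_mem _))))
          (fun i _ => mk_mem_aug n (liftΩ_mem A B _)) fun i _ => hΘL (w i)
      | zero => exact ⟨0, by simp, by simp⟩
      | add a b _ _ ha hb =>
        obtain ⟨x, hx, hx'⟩ := ha
        obtain ⟨x₂, hx₂, hx₂'⟩ := hb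
        refine ⟨x + x₂, by rw [map_add, hx, hx₂, map_add], ?_⟩
        convert add_mem hx' hx₂' using 1
        simp only [map_add, Submodule.coe_add]
        ring
      | smul c a _ ha =>
        obtain ⟨x, hx, hx'⟩ := ha
        refine ⟨c • x, by rw [map_smul, hx, map_smul], ?_⟩
        rw [map_smul, map_smul, Submodule.coe_smul,
          show (Ideal.Quotient.mk (𝓘 ^ (n + 1)) (c • (x : B ⊗[A] B))) =
            c • Ideal.Quotient.mk (𝓘 ^ (n + 1)) (x : B ⊗[A] B) from rfl, ← smul_sub, Algebra.smul_def]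
        exact Ideal.mul_mem_left _ _ hx'
    obtain ⟨rep, hrep1, hrep2⟩ := hrep t
    have hrepI : (rep : B ⊗[A] B) ∈ 𝓘 ^ (Fintype.card ι + 1) := by
      refine mem_pow_of_mk_mem n (by omega) ?_
      have h1 : Θ z ∈ PP16.augIdeal n A B ^ (Fintype.card ι + 1) := by
        have := hΘU hyz
        rw [map_sub, hy0, zero_sub, neg_mem_iff] at this
        rwa [hcard]
      rw [ht] at hrep2
      have := sub_mem h1 hrep2
      simpa using this
    have ht0 : t = 0 := hφinj (by
      rw [← hrep1, map_zero, ← map_zero (cls A B (Fintype.card ι)), cls_eq_iff]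
      simpa using hrepI)
    rw [ht0, map_zero] at ht
    rw [← ht, sub_zero] at hyz
    exact hyz

/-- Taylor maps of a differentially smooth algebra. -/
theorem hasTaylor_of_isDiffSmooth (h : PP16.IsDiffSmooth A B) (hrL : ∀ w, r (L w) = w) (n : ℕ) :
    HasTaylor A B L n := by
  obtain ⟨Θ, hΘs, hΘX, -, hΘker, hzeta⟩ := exists_model L r h hrL n
  let q : MvPolynomial σ B →ₐ[B] Trunc σ B n := (Ideal.Quotient.mkₐ B _).comp (proj L r)
  have hker : RingHom.ker Θ.toRingHom ≤ RingHom.ker q.toRingHom := fun x hx =>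
    Ideal.Quotient.eq_zero_iff_mem.2 (hΘker x hx)
  let ψ : PP16.P n A B →ₐ[B] Trunc σ B n := AlgHom.liftOfSurjective Θ hΘs q hker
  have hψ : ∀ x, ψ (Θ x) = Ideal.Quotient.mk _ (proj L r x) := fun x =>
    AlgHom.liftOfSurjective_apply _ _ _ _ x
  set U : Ideal (Trunc σ B n) := (varIdeal σ B).map (Ideal.Quotient.mk _) with hU
  have hψU : ∀ a ∈ PP16.augIdeal n A B, ψ a ∈ U := by
    intro a ha
    obtain ⟨x, rfl⟩ := hΘs a
    rw [hψ]
    refine map_mk_mem_of _ _ (constantCoeff_eq_zero_iff.1 ?_)
    have e : ((aug n A B).comp Θ).toRingHom = (MvPolynomial.constantCoeff).comp (proj L r).toRingHom := by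
      refine MvPolynomial.ringHom_ext (fun b => ?_) fun i => ?_
      · show aug n A B (Θ (MvPolynomial.C b)) = MvPolynomial.constantCoeff (proj L r (MvPolynomial.C b))
        rw [← MvPolynomial.algebraMap_eq, AlgHom.commutes, AlgHom.commutes, AlgHom.commutes,
          MvPolynomial.algebraMap_eq, MvPolynomial.constantCoeff_C]
        rfl
      · show aug n A B (Θ (MvPolynomial.X i)) = MvPolynomial.constantCoeff (proj L r (MvPolynomial.X i))
        rw [(mem_augIdeal_iff n A B).1 (hΘX i), proj_X]
        exact (constantCoeff_eq_zero_iff.2 (linForm_mem _)).symm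
    exact (RingHom.congr_fun e x).symm.trans ((mem_augIdeal_iff n A B).1 ha)
  refine ⟨ψ.toRingHom.comp (PP16.dn n A B).toRingHom, fun a => ?_, fun b => ?_⟩
  · show ψ (PP16.dn n A B (algebraMap A B a)) = _
    rw [AlgHom.commutes, IsScalarTower.algebraMap_apply A B (PP16.P n A B), AlgHom.commutes]
    rfl
  · show ψ (PP16.dn n A B b) - _ ∈ _
    rw [Ideal.map_pow, ← hU]
    have h1 := map_pow_mem ψ.toRingHom hψU (hzeta b)
    have e : ψ (PP16.dn n A B b) - Ideal.Quotient.mk _ (MvPolynomial.C b + linForm (L (KaehlerDifferential.D A B b))) =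
        ψ (zeta n A B b - Θ (linForm (L (KaehlerDifferential.D A B b)))) := by
      rw [dn_eq, map_add, map_add, map_sub, hψ, proj_linForm, hrL, AlgHom.commutes]
      show _ + _ - (algebraMap B (Trunc σ B n) b + _) = _
      ring
    rw [e]
    exact h1

end Groth.Agent.PP16Lib29
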