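import Groth.Agent.PP16Lib29.Funct
import Mathlib.LinearAlgebra.SymmetricAlgebra.Basic
import Mathlib.RingTheory.MvPolynomial.Ideal

/-! # Principal parts of polynomial algebras and their localisations -/

set_option autoImplicit false

noncomputable section

open scoped TensorProduct

namespace Groth.Agent.PP16Lib29

universe u v

variable (n : ℕ) (A B : Type u) [CommRing A] [CommRing B] [Algebra A B]

/-- truncated polynomial ring -/
abbrev Trunc (σ : Type v) (B : Type u) [CommRing B] (n : ℕ) : Type max u v :=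
  MvPolynomial σ B ⧸ Ideal.span (Set.range (MvPolynomial.X : σ → MvPolynomial σ B)) ^ (n + 1)

variable {σ : Type v} (z : σ → B)

/-- substitution `U_i ↦ ζ(z_i)` -/
def subst : MvPolynomial σ B →ₐ[B] PP16.P n A B :=
  MvPolynomial.aeval fun i => zeta n A B (z i)

theorem pow_span_X_le_ker (φ : MvPolynomial σ B →ₐ[B] PP16.P n A B)
    (h : ∀ i, φ (MvPolynomial.X i) ∈ PP16.augIdeal n A B) :
    Ideal.span (Set.range (MvPolynomial.X : σ → MvPolynomial σ B)) ^ (n + 1) ≤ RingHom.ker φ.toRingHom := by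
  refine pow_le_ker φ.toRingHom _ (PP16.augIdeal n A B) (augIdeal_pow n A B) fun x hx => ?_
  have hle : Ideal.span (Set.range (MvPolynomial.X : σ → MvPolynomial σ B)) ≤
      (PP16.augIdeal n A B).comap φ.toRingHom := by
    rw [Ideal.span_le]
    rintro _ ⟨i, rfl⟩
    exact h i
  exact hle hx

/-- Existence of a Taylor map determined by `z` computes `P^n`. -/
theorem principalParts_of_taylor (g : B →+* Trunc σ B n)
    (hgA : ∀ a, g (algebraMap A B a) = Ideal.Quotient.mk _ (MvPolynomial.C (algebraMap A B a)))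
    (hgC : ∀ b, g b - Ideal.Quotient.mk _ (MvPolynomial.C b) ∈
      (Ideal.span (Set.range (MvPolynomial.X : σ → MvPolynomial σ B))).map (Ideal.Quotient.mk _))
    (hgz : ∀ i, g (z i) = Ideal.Quotient.mk _ (MvPolynomial.C (z i) + MvPolynomial.X i))
    (hext : ∀ u v : B →+* PP16.P n A B, (∀ a, u (algebraMap A B a) = v (algebraMap A B a)) →
      (∀ i, u (z i) = v (z i)) → u = v) :
    Function.Surjective (subst n A B z) ∧
      RingHom.ker (subst n A B z).toRingHom =
        Ideal.span (Set.range (MvPolynomial.X : σ → MvPolynomial σ B)) ^ (n + 1) ∧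
      ∃ e : PP16.P n A B ≃ₐ[B] Trunc σ B n,
        ∀ i, e (PP16.dn n A B (z i)) = Ideal.Quotient.mk _ (MvPolynomial.C (z i) + MvPolynomial.X i) := by
  have hker₀ := pow_span_X_le_ker n A B (subst n A B z) fun i => by
    rw [subst, MvPolynomial.aeval_X]; exact zeta_mem n A B (z i)
  let φ' : Trunc σ B n →ₐ[B] PP16.P n A B :=
    Ideal.Quotient.liftₐ _ (subst n A B z) fun x hx => hker₀ hx
  have hφ' : ∀ p, φ' (Ideal.Quotient.mk _ p) = subst n A B z p := fun p => rfl
  obtain ⟨ψ, hψ₁, hψ₂⟩ := exists_lift (n := n) (A := A) (B := B) (R := Trunc σ B n)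
    ((Ideal.Quotient.mk _).comp MvPolynomial.C) g
    (RingHom.ext fun a => (hgA a).symm)
    ((Ideal.span (Set.range (MvPolynomial.X : σ → MvPolynomial σ B))).map (Ideal.Quotient.mk _))
    (by rw [← Ideal.map_pow, Ideal.map_quotient_self]) hgC
  have hright : φ'.toRingHom.comp ψ = RingHom.id _ := by
    refine ringHom_ext n A B (fun b => ?_) fun b => ?_
    · show φ' (ψ _) = _
      rw [hψ₁, RingHom.comp_apply, hφ', subst, MvPolynomial.aeval_C]; rfl
    · have := hext ((φ'.toRingHom.comp ψ).comp (PP16.dn n A B).toRingHom) (PP16.dn n A B).toRingHom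
        (fun a => by
          show φ' (ψ (PP16.dn n A B (algebraMap A B a))) = PP16.dn n A B (algebraMap A B a)
          rw [hψ₂, hgA, hφ', subst, MvPolynomial.aeval_C, AlgHom.commutes,
            ← IsScalarTower.algebraMap_apply])
        (fun i => by
          show φ' (ψ (PP16.dn n A B (z i))) = PP16.dn n A B (z i)
          rw [hψ₂, hgz, hφ', subst, map_add, MvPolynomial.aeval_C, MvPolynomial.aeval_X, ← dn_eq])
      exact RingHom.congr_fun this b
  have hleft : ψ.comp (subst n A B z).toRingHom = Ideal.Quotient.mk _ := by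
    refine MvPolynomial.ringHom_ext (fun b => ?_) fun i => ?_
    · show ψ (subst n A B z (MvPolynomial.C b)) = _
      rw [subst, MvPolynomial.aeval_C, hψ₁]; rfl
    · show ψ (subst n A B z (MvPolynomial.X i)) = _
      rw [subst, MvPolynomial.aeval_X, zeta, map_sub, hψ₁, hψ₂, hgz, RingHom.comp_apply, map_add,
        add_sub_cancel_left]
  refine ⟨fun x => ?_, le_antisymm ?_ hker₀, ?_⟩
  · obtain ⟨p, hp⟩ := Ideal.Quotient.mk_surjective (ψ x)
    exact ⟨p, by rw [← hφ', hp]; exact RingHom.congr_fun hright x⟩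
  · intro p hp
    refine Ideal.Quotient.eq_zero_iff_mem.1 ?_
    rw [← hleft, RingHom.comp_apply, RingHom.mem_ker.1 hp, map_zero]
  · let ψ' : PP16.P n A B →ₐ[B] Trunc σ B n := { ψ with commutes' := fun b => hψ₁ b }
    refine ⟨AlgEquiv.ofBijective ψ' ⟨Function.LeftInverse.injective (g := φ') fun x =>
      RingHom.congr_fun hright x, fun y => ?_⟩, fun i => (hψ₂ _).trans (hgz i)⟩
    obtain ⟨p, rfl⟩ := Ideal.Quotient.mk_surjective y
    exact ⟨subst n A B z p, RingHom.congr_fun hleft p⟩

/-- Localisations of polynomial algebras. -/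
theorem principalParts_mvPolynomial_localization (σ : Type v) [Algebra (MvPolynomial σ A) B]
    [IsScalarTower A (MvPolynomial σ A) B] (S : Submonoid (MvPolynomial σ A)) [IsLocalization S B] :
    let z : σ → B := fun i => algebraMap (MvPolynomial σ A) B (MvPolynomial.X i)
    Function.Surjective (subst n A B z) ∧
      RingHom.ker (subst n A B z).toRingHom =
        Ideal.span (Set.range (MvPolynomial.X : σ → MvPolynomial σ B)) ^ (n + 1) ∧
      ∃ e : PP16.P n A B ≃ₐ[B] Trunc σ B n,
        ∀ i, e (PP16.dn n A B (z i)) = Ideal.Quotient.mk _ (MvPolynomial.C (z i) + MvPolynomial.X i) := by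
  intro z
  set U := (Ideal.span (Set.range (MvPolynomial.X : σ → MvPolynomial σ B))).map
    (Ideal.Quotient.mk (Ideal.span (Set.range (MvPolynomial.X : σ → MvPolynomial σ B)) ^ (n + 1)))
  have hU : U ^ (n + 1) = ⊥ := by rw [← Ideal.map_pow, Ideal.map_quotient_self]
  let g₀ : MvPolynomial σ A →+* Trunc σ B n :=
    MvPolynomial.eval₂Hom ((Ideal.Quotient.mk _).comp (MvPolynomial.C.comp (algebraMap A B)))
      fun i => Ideal.Quotient.mk _ (MvPolynomial.C (z i) + MvPolynomial.X i)
  let c : MvPolynomial σ A →+* Trunc σ B n :=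
    ((Ideal.Quotient.mk _).comp MvPolynomial.C).comp (algebraMap (MvPolynomial σ A) B)
  have hcong : ∀ p, g₀ p - c p ∈ U := by
    have : (Ideal.Quotient.mk U).comp g₀ = (Ideal.Quotient.mk U).comp c := by
      refine MvPolynomial.ringHom_ext (fun a => ?_) fun i => ?_
      · simp only [g₀, c, RingHom.comp_apply, MvPolynomial.eval₂Hom_C]
        rw [IsScalarTower.algebraMap_apply A (MvPolynomial σ A) B, MvPolynomial.algebraMap_eq]
      · refine Ideal.Quotient.eq.2 ?_
        simp only [g₀, c, RingHom.comp_apply, MvPolynomial.eval₂Hom_X']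
        rw [map_add, show MvPolynomial.C (z i) = MvPolynomial.C (algebraMap (MvPolynomial σ A) B (MvPolynomial.X i))
          from rfl, add_sub_cancel_left]
        exact Ideal.mem_map_of_mem _ (Ideal.subset_span ⟨i, rfl⟩)
    exact fun p => Ideal.Quotient.eq.1 (RingHom.congr_fun this p)
  have hu : ∀ s : S, IsUnit (g₀ s) := by
    intro s
    rw [show g₀ s = (g₀ s - c s) + c s from (sub_add_cancel _ _).symm]
    refine IsNilpotent.isUnit_add_right_of_commute ?_ ?_ (Commute.all _ _)
    · exact ⟨n + 1, by simpa [hU] using Ideal.pow_mem_pow (hcong s) (n + 1)⟩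
    · exact (IsLocalization.map_units B s).map ((Ideal.Quotient.mk _).comp MvPolynomial.C : B →+* Trunc σ B n)
  refine principalParts_of_taylor n A B z (IsLocalization.lift hu) (fun a => ?_) (fun b => ?_)
    (fun i => ?_) ?_
  · rw [IsScalarTower.algebraMap_apply A (MvPolynomial σ A) B, IsLocalization.lift_eq,
      MvPolynomial.algebraMap_eq]
    simp only [g₀, MvPolynomial.eval₂Hom_C, RingHom.comp_apply]
    rw [IsScalarTower.algebraMap_apply A (MvPolynomial σ A) B, MvPolynomial.algebraMap_eq]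
  · have : (Ideal.Quotient.mk U).comp (IsLocalization.lift hu) =
        (Ideal.Quotient.mk U).comp ((Ideal.Quotient.mk _).comp MvPolynomial.C) :=
      IsLocalization.ringHom_ext S (RingHom.ext fun p => by
        show Ideal.Quotient.mk U (IsLocalization.lift hu (algebraMap _ B p)) = _
        rw [IsLocalization.lift_eq]
        exact Ideal.Quotient.eq.2 (hcong p))
    exact Ideal.Quotient.eq.1 (RingHom.congr_fun this b)
  · show IsLocalization.lift hu (algebraMap _ B (MvPolynomial.X i)) = _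
    rw [IsLocalization.lift_eq]
    simp [g₀]
  · intro u v hA hz
    refine IsLocalization.ringHom_ext S (MvPolynomial.ringHom_ext (fun a => ?_) hz)
    show u (algebraMap _ B (MvPolynomial.C a)) = v (algebraMap _ B (MvPolynomial.C a))
    rw [← MvPolynomial.algebraMap_eq, ← IsScalarTower.algebraMap_apply]
    exact hA a

/-- Algebras with a translation map: the case of symmetric algebras. -/
theorem exists_algEquiv_of_translation {E : Type u} [AddCommGroup E] [Module A E] (ι : E →ₗ[A] B)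
    {C : Type u} [CommRing C] [Algebra A C] (π : B →ₐ[A] C) (KC : Ideal C) (hKC : KC ^ (n + 1) = ⊥)
    (hι : ∀ t, π (ι t) ∈ KC)
    (g : B →ₐ[A] B ⊗[A] C) (hg : ∀ t, g (ι t) = ι t ⊗ₜ 1 + 1 ⊗ₜ π (ι t))
    (hextB : ∀ (R : Type u) [CommRing R] [Algebra A R] (u v : B →ₐ[A] R),
      (∀ t, u (ι t) = v (ι t)) → u = v)
    (h : C →ₐ[A] PP16.P n A B) (hh : ∀ t, h (π (ι t)) = zeta n A B (ι t))
    (hπ : Function.Surjective π) :
    ∃ e : PP16.P n A B ≃ₐ[B] B ⊗[A] C,
      ∀ t, e (PP16.dn n A B (ι t)) = ι t ⊗ₜ 1 + 1 ⊗ₜ π (ι t) := by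
  set J := KC.map (Algebra.TensorProduct.includeRight : C →ₐ[A] B ⊗[A] C).toRingHom
  have hJ : ∀ b, g b - b ⊗ₜ[A] 1 ∈ J := by
    intro b
    rw [← Ideal.Quotient.eq]
    have := hextB (B ⊗[A] C ⧸ J) ((Ideal.Quotient.mkₐ A J).comp g)
      ((Ideal.Quotient.mkₐ A J).comp Algebra.TensorProduct.includeLeft) fun t => by
        refine Ideal.Quotient.eq.2 ?_
        show g (ι t) - ι t ⊗ₜ[A] 1 ∈ J
        rw [hg, add_sub_cancel_left]
        exact Ideal.mem_map_of_mem _ (hι t)
    exact AlgHom.congr_fun this b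
  obtain ⟨ψ, hψ₁, hψ₂⟩ := exists_lift (n := n) (A := A) (B := B)
    (algebraMap B (B ⊗[A] C)) g.toRingHom
    (RingHom.ext fun a => by
      show algebraMap B (B ⊗[A] C) (algebraMap A B a) = g (algebraMap A B a)
      rw [AlgHom.commutes, ← IsScalarTower.algebraMap_apply])
    J (by rw [← Ideal.map_pow, hKC, Ideal.map_bot])
    (fun b => by simpa [Algebra.TensorProduct.algebraMap_apply] using hJ b)
  let φ : B ⊗[A] C →ₐ[B] PP16.P n A B :=
    Algebra.TensorProduct.lift (Algebra.ofId B _) h fun _ _ => Commute.all _ _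
  have hφl : ∀ b : B, φ (b ⊗ₜ[A] 1) = algebraMap B _ b := fun b => by simp [φ]
  have hφr : ∀ c : C, φ ((1 : B) ⊗ₜ[A] c) = h c := fun c => by simp [φ]
  have hψl : ∀ b : B, ψ (algebraMap B _ b) = b ⊗ₜ[A] 1 := fun b => by
    rw [hψ₁, Algebra.TensorProduct.algebraMap_apply]; rfl
  let ψ' : PP16.P n A B →ₐ[B] B ⊗[A] C := { ψ with commutes' := fun b => hψ₁ b }
  have hright : φ.comp ψ' = AlgHom.id B _ := by
    refine AlgHom.coe_ringHom_injective (ringHom_ext n A B (fun b => ?_) fun b => ?_)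
    · show φ (ψ _) = _
      rw [hψl, hφl]; rfl
    · have := hextB _ ((φ.restrictScalars A).comp g) (PP16.dn n A B) fun t => by
        show φ (g (ι t)) = _
        rw [hg, map_add, hφl, hφr, hh, ← dn_eq]
      show φ (ψ (PP16.dn n A B b)) = PP16.dn n A B b
      rw [hψ₂]
      exact AlgHom.congr_fun this b
  have hleft : ψ'.comp φ = AlgHom.id B _ := by
    refine Algebra.TensorProduct.ext (AlgHom.ext fun b => ?_) (AlgHom.ext fun c => ?_)
    · show ψ (φ (b ⊗ₜ[A] 1)) = b ⊗ₜ[A] 1
      rw [hφl, hψl]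
    · obtain ⟨b, rfl⟩ := hπ c
      have := hextB _ (((ψ'.comp φ).restrictScalars A).comp
          (Algebra.TensorProduct.includeRight.comp π))
          (Algebra.TensorProduct.includeRight.comp π) fun t => by
        show ψ (φ ((1 : B) ⊗ₜ[A] π (ι t))) = (1 : B) ⊗ₜ[A] π (ι t)
        rw [hφr, hh, zeta, map_sub, hψl, hψ₂]
        show g (ι t) - _ = _
        rw [hg, add_sub_cancel_left]
      exact AlgHom.congr_fun this b
  refine ⟨AlgEquiv.ofAlgHom ψ' φ hleft hright, fun t => ?_⟩
  show ψ (PP16.dn n A B (ι t)) = _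
  rw [hψ₂]
  exact hg t

/-- Symmetric algebras, with the quotient by `K^(n+1)` kept abstract. -/
theorem exists_algEquiv_symmetricAlgebra {E : Type u} [AddCommGroup E] [Module A E]
    {C : Type u} [CommRing C] [Algebra A C] (π : SymmetricAlgebra A E →ₐ[A] C)
    (hπ : Function.Surjective π)
    (hker : RingHom.ker π.toRingHom = RingHom.ker (SymmetricAlgebra.lift (0 : E →ₗ[A] A)) ^ (n + 1)) :
    ∃ e : PP16.P n A (SymmetricAlgebra A E) ≃ₐ[SymmetricAlgebra A E] SymmetricAlgebra A E ⊗[A] C,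
      ∀ t : E, e (PP16.dn n A (SymmetricAlgebra A E) (SymmetricAlgebra.ι A E t)) =
        SymmetricAlgebra.ι A E t ⊗ₜ 1 + 1 ⊗ₜ π (SymmetricAlgebra.ι A E t) := by
  set K : Ideal (SymmetricAlgebra A E) := RingHom.ker (SymmetricAlgebra.lift (0 : E →ₗ[A] A)) with hK
  have hι : ∀ t, SymmetricAlgebra.ι A E t ∈ K := fun t => by
    rw [hK, RingHom.mem_ker]; exact SymmetricAlgebra.lift_ι_apply 0 t
  let gl : E →ₗ[A] SymmetricAlgebra A E ⊗[A] C :=
    ((Algebra.TensorProduct.includeLeft :
        SymmetricAlgebra A E →ₐ[A] SymmetricAlgebra A E ⊗[A] C).toLinearMap +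
      ((Algebra.TensorProduct.includeRight : C →ₐ[A] SymmetricAlgebra A E ⊗[A] C).comp π).toLinearMap)
      ∘ₗ SymmetricAlgebra.ι A E
  let g : SymmetricAlgebra A E →ₐ[A] SymmetricAlgebra A E ⊗[A] C :=
    SymmetricAlgebra.lift (A := SymmetricAlgebra A E ⊗[A] C) gl
  let hl : E →ₗ[A] PP16.P n A (SymmetricAlgebra A E) :=
    ((PP16.dn n A (SymmetricAlgebra A E)).toLinearMap -
      (IsScalarTower.toAlgHom A (SymmetricAlgebra A E) (PP16.P n A (SymmetricAlgebra A E))).toLinearMap) ∘ₗ
      SymmetricAlgebra.ι A E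
  let h₀ : SymmetricAlgebra A E →ₐ[A] PP16.P n A (SymmetricAlgebra A E) :=
    SymmetricAlgebra.lift (A := PP16.P n A (SymmetricAlgebra A E)) hl
  have h₀ι : ∀ t, h₀ (SymmetricAlgebra.ι A E t) =
      zeta n A (SymmetricAlgebra A E) (SymmetricAlgebra.ι A E t) :=
    fun t => SymmetricAlgebra.lift_ι_apply hl t
  have haug : ((aug n A (SymmetricAlgebra A E)).restrictScalars A).comp h₀ =
      (Algebra.ofId A (SymmetricAlgebra A E)).comp (SymmetricAlgebra.lift (0 : E →ₗ[A] A)) := by
    refine SymmetricAlgebra.algHom_ext (LinearMap.ext fun t => ?_)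
    show aug n A _ (h₀ (SymmetricAlgebra.ι A E t)) =
      algebraMap A _ (SymmetricAlgebra.lift (0 : E →ₗ[A] A) (SymmetricAlgebra.ι A E t))
    rw [h₀ι, SymmetricAlgebra.lift_ι_apply]
    simp [zeta]
  have hkill : RingHom.ker π.toRingHom ≤ RingHom.ker h₀.toRingHom := by
    rw [hker]
    refine pow_le_ker h₀.toRingHom K (PP16.augIdeal n A _) (augIdeal_pow n A _) fun b hb => ?_
    rw [mem_augIdeal_iff]
    refine (AlgHom.congr_fun haug b).trans ?_
    rw [hK, RingHom.mem_ker] at hb
    simp [hb]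
  refine exists_algEquiv_of_translation n A (SymmetricAlgebra A E) (SymmetricAlgebra.ι A E) π
    (K.map π.toRingHom) ?_ (fun t => Ideal.mem_map_of_mem π.toRingHom (hι t))
    g (fun t => SymmetricAlgebra.lift_ι_apply gl t)
    (fun R _ _ u v huv => SymmetricAlgebra.algHom_ext (LinearMap.ext huv))
    (AlgHom.liftOfSurjective π hπ h₀ hkill) (fun t => ?_) hπ
  · rw [← Ideal.map_pow, Ideal.map_eq_bot_iff_le_ker, hker]
  · rw [AlgHom.liftOfSurjective_apply]
    exact h₀ι t

end Groth.Agent.PP16Lib29
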