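import Groth.Agent.PP16Lib29.Gr
import Groth.Agent.PP16Lib29.LocFree
import Groth.Agent.QReg6.Basic
import Mathlib.RingTheory.Localization.Ideal
import Mathlib.RingTheory.Finiteness.Nakayama
import Mathlib.RingTheory.Localization.Away.Basic

/-! # Differential smoothness and quasi-regularity of the diagonal -/

set_option autoImplicit false

noncomputable section

open scoped TensorProduct

namespace Groth.Agent.PP16Lib29

universe u

section Generic

variable {C : Type u} [CommRing C] (I : Ideal C) {r : ℕ}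

/-- Nakayama around the zero locus of `I` inside `D(β)`. -/
theorem exists_map_le_of_le_sup_sq (hI : I.FG) (J : Ideal C) (β : C)
    (h : ∀ y ∈ I, ∃ k : ℕ, β ^ k * y ∈ J ⊔ I ^ 2) :
    ∃ g : C, β ∣ g ∧ (∀ P : Ideal C, P.IsPrime → I ≤ P → β ∉ P → g ∉ P) ∧
      I.map (algebraMap C (Localization.Away g)) ≤ J.map (algebraMap C (Localization.Away g)) := by
  set R := Localization.Away β
  set IR := I.map (algebraMap C R) with hIR
  set JR := J.map (algebraMap C R) with hJR
  have hunit : IsUnit (algebraMap C R β) := IsLocalization.Away.algebraMap_isUnit β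
  have hle : IR ≤ JR ⊔ IR ^ 2 := by
    rw [hIR, hJR, ← Ideal.map_pow, ← Ideal.map_sup, Ideal.map_le_iff_le_comap]
    intro y hy
    obtain ⟨k, hk⟩ := h y hy
    have := Ideal.mem_map_of_mem (algebraMap C R) hk
    rw [map_mul, map_pow] at this
    exact (Ideal.unit_mul_mem_iff_mem _ (hunit.pow k)).1 this
  obtain ⟨ρ, hρ1, hρ⟩ := Submodule.exists_sub_one_mem_and_smul_eq_zero_of_fg_of_le_smul IR
    (Submodule.map (Ideal.Quotient.mkₐ R JR).toLinearMap IR) (Submodule.FG.map _ (Ideal.FG.map hI _)) (by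
      rintro _ ⟨y, hy, rfl⟩
      obtain ⟨u, hu, v, hv, rfl⟩ := Submodule.mem_sup.1 (hle hy)
      rw [map_add, show (Ideal.Quotient.mkₐ R JR).toLinearMap u = 0 from Ideal.Quotient.eq_zero_iff_mem.2 hu,
        zero_add, ← Submodule.map_smul'' IR IR (Ideal.Quotient.mkₐ R JR).toLinearMap]
      exact Submodule.mem_map_of_mem (by rwa [sq] at hv))
  have hρJ : ∀ y ∈ IR, ρ * y ∈ JR := fun y hy => by
    have h0 := hρ _ (Submodule.mem_map_of_mem (f := (Ideal.Quotient.mkₐ R JR).toLinearMap) hy)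
    rw [← map_smul] at h0
    exact Ideal.Quotient.eq_zero_iff_mem.1 h0
  obtain ⟨j, a, ha⟩ := IsLocalization.Away.surj β ρ
  refine ⟨a * β, dvd_mul_left β a, fun P hP hIP hβ hg => ?_, ?_⟩
  · have ha' : a ∈ P := (hP.mem_or_mem hg).resolve_right hβ
    have hdisj : Disjoint (Submonoid.powers β : Set C) P := by
      rw [Set.disjoint_left]
      rintro _ ⟨k, rfl⟩ hk
      exact hβ (hP.mem_of_pow_mem k hk)
    haveI : (P.map (algebraMap C R)).IsPrime := IsLocalization.isPrime_of_isPrime_disjoint (Submonoid.powers β) R P hP hdisj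
    have hρP : ρ ∈ P.map (algebraMap C R) := by
      have := Ideal.mem_map_of_mem (algebraMap C R) ha'
      rw [← ha] at this
      exact (Ideal.mul_unit_mem_iff_mem _ (hunit.pow j)).1 this
    exact (inferInstance : (P.map (algebraMap C R)).IsPrime).ne_top
      ((Ideal.eq_top_iff_one _).2 (by simpa using sub_mem hρP (Ideal.map_mono hIP hρ1)))
  · set L := Localization.Away (a * β)
    have hu : IsUnit (algebraMap C L β) :=
      isUnit_of_dvd_unit (map_dvd _ (dvd_mul_left β a)) (IsLocalization.Away.algebraMap_isUnit (a * β))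
    have hua : IsUnit (algebraMap C L a) :=
      isUnit_of_dvd_unit (map_dvd _ (dvd_mul_right a β)) (IsLocalization.Away.algebraMap_isUnit (a * β))
    let ψ : R →+* L := IsLocalization.Away.lift β hu
    have hψ : ψ.comp (algebraMap C R) = algebraMap C L := IsLocalization.Away.lift_comp β hu
    rw [Ideal.map_le_iff_le_comap]
    intro y hy
    have h1 : algebraMap C R a * algebraMap C R y ∈ JR := by
      rw [← ha]
      have := hρJ _ (Ideal.mem_map_of_mem (algebraMap C R) hy)
      rw [mul_right_comm]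
      exact Ideal.mul_mem_right _ _ this
    have h2 := Ideal.mem_map_of_mem ψ h1
    rw [hJR, Ideal.map_map, hψ, map_mul, ← RingHom.comp_apply ψ, hψ, ← RingHom.comp_apply ψ, hψ] at h2
    exact (Ideal.unit_mul_mem_iff_mem _ hua).1 h2

/-- Quasi-regularity of a sequence after inverting `g`. -/
theorem isQuasiRegular_away (g : C) (L : Type u) [CommRing L] [Algebra C L] [IsLocalization.Away g L]
    (f : Fin r → C)
    (hspan : Ideal.span (Set.range (algebraMap C L ∘ f)) = I.map (algebraMap C L))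
    (h : ∀ (n : ℕ) (P : MvPolynomial (Fin r) C), P.IsHomogeneous n → MvPolynomial.eval f P ∈ I ^ (n + 1) →
      ∀ d, ∃ k : ℕ, g ^ k * P.coeff d ∈ I) :
    CAlgX.IsQuasiRegular (algebraMap C L ∘ f) := by
  classical
  intro n P hP heval d
  rw [hspan] at heval ⊢
  obtain ⟨⟨b, hbmem⟩, hb⟩ :=
    IsLocalization.exist_integer_multiples (Submonoid.powers g) P.support (fun d => P.coeff d)
  obtain ⟨e, rfl⟩ := hbmem
  choose! a ha using hb
  let P' : MvPolynomial (Fin r) C := ∑ d ∈ P.support, MvPolynomial.monomial d (a d)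
  have hcoeff : ∀ d, P'.coeff d = if d ∈ P.support then a d else 0 := fun d => by
    simp [P', MvPolynomial.coeff_sum, MvPolynomial.coeff_monomial]
  have hP'h : P'.IsHomogeneous n := by
    refine MvPolynomial.IsHomogeneous.sum _ _ _ fun d hd => MvPolynomial.isHomogeneous_monomial _ ?_
    have := hP (MvPolynomial.mem_support_iff.mp hd)
    rwa [Finsupp.degree_eq_weight_one]
  have hmap : MvPolynomial.map (algebraMap C L) P' = MvPolynomial.C (algebraMap C L (g ^ e)) * P := by
    ext d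
    rw [MvPolynomial.coeff_map, hcoeff, MvPolynomial.coeff_C_mul]
    split_ifs with hd
    · rw [ha d hd]; exact Algebra.smul_def _ _
    · rw [map_zero, MvPolynomial.notMem_support_iff.1 hd, mul_zero]
  have heval' : algebraMap C L (MvPolynomial.eval f P') ∈ (I ^ (n + 1)).map (algebraMap C L) := by
    rw [MvPolynomial.eval₂_comp (algebraMap C L) f P', MvPolynomial.eval₂_eq_eval_map, hmap,
      MvPolynomial.eval_mul, MvPolynomial.eval_C, Ideal.map_pow]
    exact Ideal.mul_mem_left _ _ heval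
  obtain ⟨_, ⟨m, rfl⟩, hm⟩ := (IsLocalization.algebraMap_mem_map_algebraMap_iff (Submonoid.powers g) L _ _).1 heval'
  obtain ⟨k, hk⟩ := h n (MvPolynomial.C (g ^ m) * P') (hP'h.C_mul _)
    (by rw [MvPolynomial.eval_mul, MvPolynomial.eval_C]; exact hm) d
  have h2 := Ideal.mem_map_of_mem (algebraMap C L) hk
  have hu : IsUnit (algebraMap C L g) := IsLocalization.Away.algebraMap_isUnit g
  rw [MvPolynomial.coeff_C_mul, map_mul, map_mul, map_pow, map_pow,
    Ideal.unit_mul_mem_iff_mem _ (hu.pow k), Ideal.unit_mul_mem_iff_mem _ (hu.pow m),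
    ← MvPolynomial.coeff_map, hmap, MvPolynomial.coeff_C_mul, map_pow,
    Ideal.unit_mul_mem_iff_mem _ (hu.pow e)] at h2
  exact h2

theorem sum_singleton_eq_map {α β : Type*} (s : Finset α) (g : α → β) :
    ∑ i ∈ s, ({g i} : Multiset β) = s.val.map g := by
  classical
  induction s using Finset.induction_on with
  | empty => simp
  | insert a s ha ih => rw [Finset.sum_insert ha, ih, Finset.insert_val_of_notMem ha, Multiset.map_cons, Multiset.singleton_add]

theorem map_get_univ {α : Type*} (l : List α) {n : ℕ} (h : l.length = n) :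
    (Finset.univ : Finset (ULift.{u} (Fin n))).val.map (fun x => l.get (x.down.cast h.symm)) = ↑l := by
  subst h
  rw [← Finset.map_univ_equiv Equiv.ulift.symm, Finset.map_val, Multiset.map_map]
  simp [Fin.univ_val_map]

end Generic

variable {A B : Type u} [CommRing A] [CommRing B] [Algebra A B] {r : ℕ}

local notation "𝓘" => KaehlerDifferential.ideal A B
local notation "μ" => Algebra.TensorProduct.lmul' A (S := B)

theorem mul'_algebraMap (b : B) : μ (algebraMap B (B ⊗[A] B) b) = b := by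
  rw [Algebra.TensorProduct.algebraMap_apply]; simp

theorem sub_mul'_mem (c : B ⊗[A] B) : c - algebraMap B (B ⊗[A] B) (μ c) ∈ 𝓘 := by
  refine RingHom.mem_ker.2 ?_
  show μ _ = 0
  rw [map_sub, mul'_algebraMap, sub_self]

theorem mul'_eq_zero_of_mem {c : B ⊗[A] B} (h : c ∈ 𝓘) : μ c = 0 := RingHom.mem_ker.1 h

theorem smul_mem_of_mul'_eq {c : B ⊗[A] B} {b : B} (h : b * μ c = 0) :
    algebraMap B (B ⊗[A] B) b * c ∈ 𝓘 := by
  refine RingHom.mem_ker.2 ?_
  show μ _ = 0
  rw [map_mul, mul'_algebraMap, h]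

theorem mem_prime_iff {P : Ideal (B ⊗[A] B)} (hP : 𝓘 ≤ P) (c : B ⊗[A] B) :
    c ∈ P ↔ μ c ∈ P.comap (algebraMap B (B ⊗[A] B)) := by
  have h := hP (sub_mul'_mem c)
  constructor
  · intro hc
    have h' := sub_mem hc h
    rw [sub_sub_cancel] at h'
    exact h'
  · intro hc
    have h' := add_mem h (Ideal.mem_comap.1 hc)
    rw [sub_add_cancel] at h'
    exact h' 

/-- the class of an element of the ideal, as a differential -/
def dΩ (y : B ⊗[A] B) (hy : y ∈ 𝓘) : KaehlerDifferential A B := Ideal.toCotangent 𝓘 ⟨y, hy⟩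

theorem toCot_smul (c : B) {y : B ⊗[A] B} (hy : y ∈ 𝓘) :
    c • dΩ y hy = dΩ (algebraMap B (B ⊗[A] B) c * y) (Ideal.mul_mem_left _ _ hy) := by
  rw [dΩ, dΩ, show (⟨algebraMap B (B ⊗[A] B) c * y, Ideal.mul_mem_left _ _ hy⟩ : 𝓘) =
    algebraMap B (B ⊗[A] B) c • ⟨y, hy⟩ from rfl, map_smul]
  exact (algebraMap_smul (B ⊗[A] B) c _).symm

theorem dΩ_add {y z : B ⊗[A] B} (hy : y ∈ 𝓘) (hz : z ∈ 𝓘) :
    dΩ (y + z) (add_mem hy hz) = dΩ y hy + dΩ z hz := map_add (Ideal.toCotangent 𝓘) ⟨y, hy⟩ ⟨z, hz⟩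

theorem dΩ_eq_iff {y z : B ⊗[A] B} (hy : y ∈ 𝓘) (hz : z ∈ 𝓘) :
    dΩ y hy = dΩ z hz ↔ y - z ∈ 𝓘 ^ 2 := Ideal.toCotangent_eq 𝓘

theorem dΩ_eq_zero_iff {y : B ⊗[A] B} (hy : y ∈ 𝓘) : dΩ y hy = 0 ↔ y ∈ 𝓘 ^ 2 :=
  Ideal.toCotangent_eq_zero 𝓘 _

theorem toCot_sum_smul (f : Fin r → B ⊗[A] B) (hf : ∀ i, f i ∈ 𝓘) (c : Fin r → B) :
    ∑ i, c i • dΩ (f i) (hf i) =
      dΩ (∑ i, algebraMap B (B ⊗[A] B) (c i) * f i)
        (Ideal.sum_mem _ fun i _ => Ideal.mul_mem_left _ _ (hf i)) := by
  simp only [toCot_smul]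
  refine (map_sum (Ideal.toCotangent 𝓘) _ Finset.univ).symm.trans (congrArg (Ideal.toCotangent 𝓘) ?_)
  exact Subtype.ext (by simp)

section Monomials

variable (ι : Type u) [Fintype ι]

theorem phi_tprod (φ : SymmetricPower B ι (KaehlerDifferential A B) →ₗ[B] PP16.grI A B (Fintype.card ι))
    (hφ : ∀ w, φ (SymmetricPower.tprod B w) = cls A B _ (prodLift A B ι w))
    (f : Fin r → B ⊗[A] B) (hf : ∀ i, f i ∈ 𝓘) (t : ι → Fin r) :
    φ (SymmetricPower.tprod B fun i => dΩ (f (t i)) (hf (t i))) =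
      cls A B _ ⟨∏ i, f (t i), by
        simpa using finset_prod_mem_pow 𝓘 Finset.univ (fun i => f (t i)) (fun i _ => hf (t i))⟩ := by
  rw [hφ]
  exact cls_prod_congr A B ι _ (fun i => f (t i)) (fun i => hf (t i))
    (fun i => liftΩ_sub_mem A B (hf (t i)) rfl) _ rfl

theorem phi_sum (φ : SymmetricPower B ι (KaehlerDifferential A B) →ₗ[B] PP16.grI A B (Fintype.card ι))
    (hφ : ∀ w, φ (SymmetricPower.tprod B w) = cls A B _ (prodLift A B ι w))
    (f : Fin r → B ⊗[A] B) (hf : ∀ i, f i ∈ 𝓘) (c : (ι → Fin r) → B) [DecidableEq ι] :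
    φ (∑ t, c t • SymmetricPower.tprod B fun i => dΩ (f (t i)) (hf (t i))) =
      cls A B _ ⟨∑ t, algebraMap B (B ⊗[A] B) (c t) * ∏ i, f (t i),
        Ideal.sum_mem _ fun t _ => Ideal.mul_mem_left _ _ (by
          simpa using finset_prod_mem_pow 𝓘 Finset.univ (fun i => f (t i)) (fun i _ => hf (t i)))⟩ := by
  rw [map_sum]
  simp only [map_smul, phi_tprod ι φ hφ f hf]
  simp only [← map_smul, ← map_sum]
  congr 1
  refine Subtype.ext ?_
  rw [Submodule.coe_sum]
  refine Finset.sum_congr rfl fun t _ => ?_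
  exact smul_eq_mul_algebraMap A B (c t) _

end Monomials

theorem exists_coord {M : Type u} [AddCommGroup M] [Module B M] {b : B} {x : Fin r → M}
    (hx : LocBasis b x) :
    ∃ Λ : M →ₗ[B] (Fin r →₀ Localization.Away b), ∀ i, Λ (x i) = Finsupp.single i 1 := by
  classical
  set L := Localization.Away b
  have hu : ∀ k : ℕ, IsUnit (algebraMap B L (b ^ k)) := fun k =>
    IsLocalization.map_units L (⟨b ^ k, k, rfl⟩ : Submonoid.powers b)
  choose k hk using hx.2
  choose c hc using fun w => (Submodule.mem_span_range_iff_exists_fun B).1 (hk w)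
  let v : M → (Fin r → L) := fun w i => ↑(hu (k w)).unit⁻¹ * algebraMap B L (c w i)
  have huniq : ∀ (w : M) (j : ℕ) (d : Fin r → B), ∑ i, d i • x i = b ^ j • w →
      ∀ i, algebraMap B L (b ^ j) * v w i = algebraMap B L (d i) := by
    intro w j d hd i
    have h0 : ∑ i, (b ^ k w * d i - b ^ j * c w i) • x i = 0 := by
      simp only [sub_smul, mul_smul, Finset.sum_sub_distrib, ← Finset.smul_sum, hd, hc]
      rw [smul_comm, sub_self]
    obtain ⟨m, hm⟩ := hx.1 _ h0
    have h1 := congrArg (algebraMap B L) (hm i)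
    rw [map_mul, map_zero, (hu m).mul_right_eq_zero, map_sub, sub_eq_zero, map_mul, map_mul] at h1
    show algebraMap B L (b ^ j) * (↑(hu (k w)).unit⁻¹ * algebraMap B L (c w i)) = _
    rw [mul_left_comm, ← h1, ← mul_assoc, IsUnit.val_inv_mul, one_mul]
  let Λ : M →ₗ[B] (Fin r →₀ L) :=
    { toFun := fun w => Finsupp.equivFunOnFinite.symm (v w)
      map_add' := fun w w' => Finsupp.ext fun i => by
        show v (w + w') i = v w i + v w' i
        refine (hu (k w + k w')).mul_left_cancel ?_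
        rw [huniq (w + w') (k w + k w') (fun i => b ^ k w' * c w i + b ^ k w * c w' i) ?_ i, mul_add]
        · rw [map_add, map_mul, map_mul, ← huniq w (k w) (c w) (hc w) i,
            ← huniq w' (k w') (c w') (hc w') i, pow_add, map_mul]
          ring
        · simp only [add_smul, mul_smul, Finset.sum_add_distrib, ← Finset.smul_sum, hc, smul_add, pow_add]
          congr 1
          exact smul_comm _ _ _
      map_smul' := fun e w => Finsupp.ext fun i => by
        show v (e • w) i = e • v w i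
        refine (hu (k w)).mul_left_cancel ?_
        rw [huniq (e • w) (k w) (fun i => e * c w i) ?_ i, Algebra.smul_def, map_mul,
          ← huniq w (k w) (c w) (hc w) i]
        · ring
        · rw [smul_comm, ← hc, Finset.smul_sum]
          exact Finset.sum_congr rfl fun j _ => mul_smul e _ _ }
  refine ⟨Λ, fun j => Finsupp.ext fun i => ?_⟩
  show v (x j) i = _
  have := huniq (x j) 0 (fun i => if i = j then 1 else 0) (by simp) i
  rw [pow_zero, map_one, one_mul] at this
  rw [this, Finsupp.single_apply]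
  simp [eq_comm]

/-- From differential smoothness. -/
theorem isLocallyQuasiRegular_of_isDiffSmooth [Algebra.FiniteType A B] (h : PP16.IsDiffSmooth A B) :
    PP16.IsLocallyQuasiRegular (B ⊗[A] B) 𝓘 := by
  classical
  intro P hPp hP
  haveI := h.1
  let p := P.comap (algebraMap B (B ⊗[A] B))
  obtain ⟨b, hb, r, x, hx⟩ := exists_locBasis (B := B) (M := KaehlerDifferential A B) p
  let f : Fin r → B ⊗[A] B := fun i => liftΩ A B (x i)
  have hf : ∀ i, f i ∈ 𝓘 := fun i => liftΩ_mem A B (x i)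
  have hfx : ∀ i, dΩ (f i) (hf i) = x i := fun i => liftΩ_spec A B (x i)
  set β := algebraMap B (B ⊗[A] B) b with hβ
  have hJI : Ideal.span (Set.range f) ≤ 𝓘 := Ideal.span_le.2 (by rintro _ ⟨i, rfl⟩; exact hf i)
  obtain ⟨g, hβg, hgP, hgle⟩ := exists_map_le_of_le_sup_sq 𝓘 (KaehlerDifferential.ideal_fg A B)
    (Ideal.span (Set.range f)) β fun y hy => by
      obtain ⟨k, hk⟩ := hx.2 (dΩ y hy)
      obtain ⟨c, hc⟩ := (Submodule.mem_span_range_iff_exists_fun B).1 hk
      have h2 : ∑ i, c i • dΩ (f i) (hf i) = b ^ k • dΩ y hy := by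
        simp only [hfx]; exact hc
      have h2' := (toCot_sum_smul f hf c).symm.trans (h2.trans (toCot_smul (b ^ k) hy))
      refine ⟨k, ?_⟩
      have hd := (dΩ_eq_iff _ _).1 h2'.symm
      rw [hβ, ← map_pow]
      have hs : ∑ i, algebraMap B (B ⊗[A] B) (c i) * f i ∈ Ideal.span (Set.range f) :=
        Ideal.sum_mem _ fun i _ => Ideal.mul_mem_left _ _ (Ideal.subset_span ⟨i, rfl⟩)
      have h3 := Submodule.add_mem_sup hs hd
      rwa [add_sub_cancel] at h3
  have hgP' : g ∉ P := hgP P hPp hP fun hβP => hb hβP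
  let L := Localization.Away g
  have hspan : Ideal.span (Set.range (algebraMap (B ⊗[A] B) L ∘ f)) = (𝓘).map (algebraMap (B ⊗[A] B) L) := by
    rw [Set.range_comp, ← Ideal.map_span]
    exact le_antisymm (Ideal.map_mono hJI) hgle
  refine ⟨g, hgP', r, algebraMap (B ⊗[A] B) L ∘ f, isQuasiRegular_away 𝓘 g L f hspan ?_, hspan⟩
  intro n Q hQ heval d
  by_cases hd : Q.coeff d = 0
  · exact ⟨0, by rw [hd, mul_zero]; exact zero_mem _⟩
  let ι := ULift.{u} (Fin n)
  obtain ⟨φ, hφD, hφ⟩ := exists_phi A B ι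
  obtain ⟨φ', hφ'D, hφ'inj, -⟩ := h.2 ι
  have hφinj : Function.Injective φ := by
    have : φ = φ' := by
      have hmult : φ.compMultilinearMap (SymmetricPower.tprod B) = φ'.compMultilinearMap (SymmetricPower.tprod B) := by
        refine multilinear_ext_of_span (KaehlerDifferential.span_range_derivation A B) fun w hw => ?_
        choose c hc using hw
        rw [show w = fun i => KaehlerDifferential.D A B (c i) from funext fun i => (hc i).symm]
        simp only [LinearMap.compMultilinearMap_apply, hφD, hφ'D]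
      exact LinearMap.ext_on (s := Set.range (SymmetricPower.tprod B (ι := ι) (M := KaehlerDifferential A B)))
        (by rw [SymmetricPower.span_tprod_eq_top]) (by
          rintro _ ⟨w, rfl⟩
          exact congrArg (fun H : MultilinearMap B _ _ => H w) hmult)
    rw [this]; exact hφ'inj
  have hcard : Fintype.card ι = n := by simp [ι]
  -- each exponent is realised by one tuple
  have hlist : ∀ e ∈ Q.support, ∃ t : ι → Fin r, (∑ i, Finsupp.single (t i) 1) = e := by
    intro e he
    have hlen : (Finsupp.toMultiset e).toList.length = n := by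
      rw [Multiset.length_toList, Finsupp.card_toMultiset]
      have hd' : Finsupp.degree e = n := by
        rw [Finsupp.degree_eq_weight_one]; exact hQ (MvPolynomial.mem_support_iff.1 he)
      rw [Finsupp.degree_apply] at hd'
      simpa [Finsupp.sum] using hd'
    refine ⟨fun i => (Finsupp.toMultiset e).toList.get (i.down.cast hlen.symm), ?_⟩
    have H : Finsupp.toMultiset (∑ i : ι, Finsupp.single
        ((Finsupp.toMultiset e).toList.get (i.down.cast hlen.symm)) 1) = Finsupp.toMultiset e := by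
      rw [Finsupp.toMultiset_sum]
      simp only [Finsupp.toMultiset_single, one_smul]
      conv_rhs => rw [← Multiset.coe_toList (Finsupp.toMultiset e)]
      rw [sum_singleton_eq_map]
      exact map_get_univ _ hlen
    have := congrArg Multiset.toFinsupp H
    rwa [Finsupp.toMultiset_toFinsupp, Finsupp.toMultiset_toFinsupp] at this
  choose T hT using fun e : Q.support => hlist e.1 e.2
  let q : SymmetricPower B ι (KaehlerDifferential A B) :=
    ∑ e : Q.support, μ (Q.coeff e.1) • SymmetricPower.tprod B fun i => x (T e i)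
  have hprod : ∀ e : Q.support, ∏ i, f (T e i) = ∏ j, f j ^ e.1 j := by
    intro e
    rw [← Finsupp.prod_fintype e.1 (fun j m => f j ^ m) (fun j => pow_zero _)]
    conv_rhs => rw [← hT e]
    rw [← Finsupp.prod_finsetSum_index (fun j => pow_zero _) (fun j m₁ m₂ => pow_add _ _ _)]
    simp [Finsupp.prod_single_index]
  have hq : q = 0 := by
    refine hφinj ?_
    rw [map_zero]
    have e1 : ∀ e : Q.support, φ (μ (Q.coeff e.1) • SymmetricPower.tprod B fun i => x (T e i)) =
        cls A B _ ⟨algebraMap B (B ⊗[A] B) (μ (Q.coeff e.1)) * ∏ i, f (T e i),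
          Ideal.mul_mem_left _ _ (by
            simpa using finset_prod_mem_pow 𝓘 Finset.univ (fun i => f (T e i)) (fun i _ => hf _))⟩ := by
      intro e
      have h5 := phi_tprod ι φ hφ f hf (T e)
      simp only [hfx] at h5
      rw [map_smul, h5, ← map_smul]
      congr 1
      exact Subtype.ext (smul_eq_mul_algebraMap A B _ _)
    rw [show φ q = ∑ e : Q.support, φ (μ (Q.coeff e.1) • SymmetricPower.tprod B fun i => x (T e i)) from map_sum φ _ _,
      Finset.sum_congr rfl fun e _ => e1 e, ← map_sum,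
      ← map_zero (cls A B (Fintype.card ι)), cls_eq_iff, Submodule.coe_sum]
    show _ - ((0 : ↥((𝓘 ^ Fintype.card ι).restrictScalars B)) : B ⊗[A] B) ∈ _
    rw [ZeroMemClass.coe_zero, sub_zero]
    have : MvPolynomial.eval f Q -
        (∑ e : Q.support, algebraMap B (B ⊗[A] B) (μ (Q.coeff e.1)) * ∏ i, f (T e i)) ∈
        𝓘 ^ (Fintype.card ι + 1) := by
      rw [MvPolynomial.eval_eq', ← Finset.sum_attach Q.support (fun e => Q.coeff e * ∏ j, f j ^ e j),
        ← Finset.univ_eq_attach, ← Finset.sum_sub_distrib]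
      refine Ideal.sum_mem _ fun e _ => ?_
      rw [← hprod e, ← sub_mul, pow_succ']
      refine Ideal.mul_mem_mul (sub_mul'_mem _) ?_
      simpa using finset_prod_mem_pow 𝓘 Finset.univ (fun i => f (T e i)) (fun i _ => hf _)
    rw [← hcard] at heval
    have h4 := sub_mem heval this
    rwa [sub_sub_cancel] at h4
  obtain ⟨Λ, hΛ⟩ := exists_coord hx
  let Lb := Localization.Away b
  let F : MultilinearMap B (fun _ : ι => KaehlerDifferential A B) (MvPolynomial (Fin r) Lb) :=
    (MultilinearMap.mkPiAlgebra B ι (MvPolynomial (Fin r) Lb)).compLinearMap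
      fun _ => ((linForm (B := Lb) (σ := Fin r)).restrictScalars B).comp Λ
  obtain ⟨S, hS⟩ := exists_symLift F fun e w => by
    simp only [F, MultilinearMap.compLinearMap_apply, MultilinearMap.mkPiAlgebra_apply]
    exact Equiv.prod_comp e fun i => linForm (B := Lb) (Λ (w i))
  have hSq := congrArg (fun z => (S z).coeff d) hq
  simp only [map_zero, MvPolynomial.coeff_zero, q, map_sum, map_smul, hS, F,
    MultilinearMap.compLinearMap_apply, MultilinearMap.mkPiAlgebra_apply, LinearMap.comp_apply,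
    LinearMap.coe_restrictScalars, hΛ, linForm_single, map_one, one_mul] at hSq
  rw [MvPolynomial.coeff_sum, Finset.sum_eq_single (⟨d, MvPolynomial.mem_support_iff.2 hd⟩ : Q.support)] at hSq
  · rw [show (∏ i, (MvPolynomial.X (T ⟨d, MvPolynomial.mem_support_iff.2 hd⟩ i) : MvPolynomial (Fin r) Lb)) = MvPolynomial.monomial d 1 by
        conv_rhs => rw [show d = _ from (hT ⟨d, MvPolynomial.mem_support_iff.2 hd⟩).symm, MvPolynomial.monomial_sum_one]
        rfl,
      MvPolynomial.coeff_smul, MvPolynomial.coeff_monomial, if_pos rfl, ← Algebra.algebraMap_eq_smul_one] at hSq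
    obtain ⟨⟨_, k, rfl⟩, hk⟩ := (IsLocalization.map_eq_zero_iff (Submonoid.powers b) Lb _).1 hSq
    refine ⟨k, ?_⟩
    obtain ⟨a, ha⟩ := hβg
    rw [ha, mul_pow, mul_right_comm, hβ, ← map_pow]
    exact Ideal.mul_mem_right _ _ (smul_mem_of_mul'_eq hk)
  · intro e he hne
    rw [show (∏ i, (MvPolynomial.X (T e i) : MvPolynomial (Fin r) Lb)) = MvPolynomial.monomial e.1 1 by
        conv_rhs => rw [← hT e, MvPolynomial.monomial_sum_one]
        rfl,
      MvPolynomial.coeff_smul, MvPolynomial.coeff_monomial, if_neg (fun hh => hne (Subtype.ext hh)), smul_zero]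
  · intro hd'
    exact absurd (Finset.mem_univ _) hd'

/-- To differential smoothness. -/
theorem isDiffSmooth_of_isLocallyQuasiRegular [Algebra.FiniteType A B]
    (h : PP16.IsLocallyQuasiRegular (B ⊗[A] B) 𝓘) : PP16.IsDiffSmooth A B := by
  classical
  have hdata : ∀ p : Ideal B, p.IsPrime → ∃ b ∉ p, ∃ (r : ℕ) (f : Fin r → B ⊗[A] B) (hf : ∀ i, f i ∈ 𝓘),
      LocBasis b (fun i => dΩ (f i) (hf i)) ∧
      ∀ (n : ℕ) (Q : MvPolynomial (Fin r) (B ⊗[A] B)), Q.IsHomogeneous n →
        MvPolynomial.eval f Q ∈ 𝓘 ^ (n + 1) → ∀ d, ∃ k : ℕ, b ^ k * μ (Q.coeff d) = 0 := by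
    intro p hp
    let P : Ideal (B ⊗[A] B) := p.comap (μ).toRingHom
    haveI : P.IsPrime := Ideal.IsPrime.comap _
    have hIP : 𝓘 ≤ P := fun c hc => by
      show μ c ∈ p
      rw [mul'_eq_zero_of_mem hc]; exact zero_mem _
    obtain ⟨g, hg, r, f₀, hf₀, hspan₀⟩ := h P hIP
    let L := Localization.Away g
    have hu : IsUnit (algebraMap (B ⊗[A] B) L g) := IsLocalization.Away.algebraMap_isUnit g
    have hf0I : ∀ i, f₀ i ∈ (𝓘).map (algebraMap (B ⊗[A] B) L) := fun i =>
      hspan₀ ▸ Ideal.subset_span ⟨i, rfl⟩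
    choose fm hfm using fun i => (IsLocalization.mem_map_algebraMap_iff (Submonoid.powers g) L).1 (hf0I i)
    let f : Fin r → B ⊗[A] B := fun i => ((fm i).1 : B ⊗[A] B)
    have hf : ∀ i, f i ∈ 𝓘 := fun i => (fm i).1.2
    have hum : ∀ i, IsUnit (algebraMap (B ⊗[A] B) L ((fm i).2 : B ⊗[A] B)) := fun i =>
      IsLocalization.map_units L (fm i).2
    have hspan : Ideal.span (Set.range (algebraMap (B ⊗[A] B) L ∘ f)) = Ideal.span (Set.range f₀) := by
      refine le_antisymm (Ideal.span_le.2 ?_) (Ideal.span_le.2 ?_)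
      · rintro _ ⟨i, rfl⟩
        show algebraMap (B ⊗[A] B) L (f i) ∈ _
        rw [← hfm i]
        exact Ideal.mul_mem_right _ _ (Ideal.subset_span ⟨i, rfl⟩)
      · rintro _ ⟨i, rfl⟩
        refine (Ideal.mul_unit_mem_iff_mem _ (hum i)).1 ?_
        rw [hfm i]
        exact Ideal.subset_span ⟨i, rfl⟩
    have hqr : CAlgX.IsQuasiRegular (algebraMap (B ⊗[A] B) L ∘ f) :=
      QReg6.isQuasiRegular_of_span_eq hf₀ hspan
    have hJ : Ideal.span (Set.range (algebraMap (B ⊗[A] B) L ∘ f)) = (𝓘).map (algebraMap (B ⊗[A] B) L) :=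
      hspan.trans hspan₀
    have hkey : ∀ (n : ℕ) (Q : MvPolynomial (Fin r) (B ⊗[A] B)), Q.IsHomogeneous n →
        MvPolynomial.eval f Q ∈ 𝓘 ^ (n + 1) → ∀ d, ∃ k : ℕ, μ g ^ k * μ (Q.coeff d) = 0 := by
      intro n Q hQ heval d
      have h1 := hqr n (MvPolynomial.map (algebraMap (B ⊗[A] B) L) Q) (hQ.map _) (by
        rw [hJ, ← Ideal.map_pow, ← MvPolynomial.eval₂_eq_eval_map, ← MvPolynomial.eval₂_comp]
        exact Ideal.mem_map_of_mem _ heval) d
      rw [hJ, MvPolynomial.coeff_map] at h1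
      obtain ⟨_, ⟨k, rfl⟩, hk⟩ := (IsLocalization.algebraMap_mem_map_algebraMap_iff (Submonoid.powers g) L _ _).1 h1
      exact ⟨k, by rw [← map_pow, ← map_mul]; exact mul'_eq_zero_of_mem hk⟩
    refine ⟨μ g, hg, r, f, hf, ⟨?_, ?_⟩, hkey⟩
    · intro c hc
      rw [toCot_sum_smul f hf c, dΩ_eq_zero_iff] at hc
      let Q : MvPolynomial (Fin r) (B ⊗[A] B) :=
        ∑ i, MvPolynomial.C (algebraMap B (B ⊗[A] B) (c i)) * MvPolynomial.X i
      have hQ : Q.IsHomogeneous 1 :=
        MvPolynomial.IsHomogeneous.sum _ _ _ fun i _ => by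
          simpa using (MvPolynomial.isHomogeneous_C _ _).mul (MvPolynomial.isHomogeneous_X _ i)
      refine exists_uniform (fun i => ?_) fun i k k' hk h => by
        rw [← Nat.sub_add_cancel hk, pow_add, mul_assoc, h, mul_zero]
      obtain ⟨k, hk⟩ := hkey 1 Q hQ (by simpa [Q] using hc) (Finsupp.single i 1)
      refine ⟨k, ?_⟩
      simpa [Q, MvPolynomial.coeff_sum, MvPolynomial.coeff_C_mul, MvPolynomial.coeff_X',
        Finsupp.single_left_inj, mul'_algebraMap] using hk
    · intro w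
      obtain ⟨⟨y, hy⟩, hw⟩ := Ideal.toCotangent_surjective 𝓘 w
      obtain rfl : dΩ y hy = w := hw
      have h1 : algebraMap (B ⊗[A] B) L y ∈ (Ideal.span (Set.range f)).map (algebraMap (B ⊗[A] B) L) := by
        rw [Ideal.map_span, ← Set.range_comp, hJ]
        exact Ideal.mem_map_of_mem _ hy
      obtain ⟨_, ⟨k, rfl⟩, hk⟩ := (IsLocalization.algebraMap_mem_map_algebraMap_iff (Submonoid.powers g) L _ _).1 h1
      obtain ⟨a, ha⟩ := (Submodule.mem_span_range_iff_exists_fun _).1 hk
      refine ⟨k, (Submodule.mem_span_range_iff_exists_fun B).2 ⟨fun i => μ (a i), ?_⟩⟩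
      refine (toCot_sum_smul f hf fun i => μ (a i)).trans (Eq.trans ?_ (toCot_smul (μ g ^ k) hy).symm)
      rw [dΩ_eq_iff]
      show ∑ i, algebraMap B (B ⊗[A] B) (μ (a i)) * f i - algebraMap B (B ⊗[A] B) (μ g ^ k) * y ∈ 𝓘 ^ 2
      have e1 : ∀ i, (algebraMap B (B ⊗[A] B) (μ (a i)) - a i) * f i ∈ 𝓘 ^ 2 := fun i => by
        rw [sq, ← neg_sub]
        exact Ideal.mul_mem_mul (neg_mem (sub_mul'_mem (a i))) (hf i)
      have e2 : (g ^ k - algebraMap B (B ⊗[A] B) (μ g ^ k)) * y ∈ 𝓘 ^ 2 := by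
        rw [sq, ← map_pow μ]
        exact Ideal.mul_mem_mul (sub_mul'_mem (g ^ k)) hy
      convert add_mem (Ideal.sum_mem _ fun i (_ : i ∈ Finset.univ) => e1 i) e2 using 1
      simp only [sub_mul, Finset.sum_sub_distrib, smul_eq_mul] at ha ⊢
      rw [← ha]
      ring
  haveI : Module.Projective B (KaehlerDifferential A B) := projective_of_locBasis fun p hp => by
    obtain ⟨b, hb, r, f, hf, hx, -⟩ := hdata p hp
    exact ⟨b, hb, r, _, hx⟩
  refine ⟨inferInstance, fun ι _ => ?_⟩
  obtain ⟨φ, hφD, hφ⟩ := exists_phi A B ι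
  refine ⟨φ, hφD, (injective_iff_map_eq_zero φ).2 fun q hq => ?_, phi_surjective A B ι φ hφD⟩
  suffices hT : ∀ p : Ideal B, p.IsPrime → ∃ b ∉ p, b • q = 0 by
    have h2 : Ideal.span {b : B | b • q = 0} = ⊤ := span_eq_top_of_forall_prime fun p hp => by
      obtain ⟨b, hb, hbq⟩ := hT p hp
      exact ⟨b, hbq, hb⟩
    have h3 : Ideal.span {b : B | b • q = 0} ≤ LinearMap.ker (LinearMap.toSpanSingleton B _ q) :=
      Ideal.span_le.2 fun b hb => hb
    have h4 : (1 : B) • q = 0 := LinearMap.mem_ker.1 (h3 (h2 ▸ Submodule.mem_top))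
    rwa [one_smul] at h4
  intro p hp
  obtain ⟨b, hb, r, f, hf, hx, hkey⟩ := hdata p hp
  let V : Submodule B (SymmetricPower B ι (KaehlerDifferential A B)) :=
    Submodule.span B (Set.range fun t : ι → Fin r =>
      SymmetricPower.tprod B fun i => dΩ (f (t i)) (hf (t i)))
  have hsat : ∀ q : SymmetricPower B ι (KaehlerDifferential A B), ∃ k : ℕ, b ^ k • q ∈ V := by
    intro q
    induction q using symPowInduction with
    | h0 => exact ⟨0, by rw [smul_zero]; exact zero_mem _⟩
    | hadd u v hu hv =>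
      obtain ⟨k, hk⟩ := hu
      obtain ⟨k', hk'⟩ := hv
      refine ⟨k' + k, ?_⟩
      rw [smul_add, pow_add, mul_smul, mul_smul, smul_comm (b ^ k') (b ^ k) v]
      exact add_mem (V.smul_mem _ hk) (V.smul_mem _ hk')
    | ht c w =>
      choose k hk using fun i => hx.2 (w i)
      choose a ha using fun i => (Submodule.mem_span_range_iff_exists_fun B).1 (hk i)
      refine ⟨∑ i, k i, ?_⟩
      rw [smul_comm]
      refine V.smul_mem c ?_
      rw [← Finset.prod_pow_eq_pow_sum, ← MultilinearMap.map_smul_univ]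
      simp only [← ha]
      rw [MultilinearMap.map_sum]
      refine Submodule.sum_mem _ fun t _ => ?_
      rw [MultilinearMap.map_smul_univ]
      exact V.smul_mem _ (Submodule.subset_span ⟨t, rfl⟩)
  obtain ⟨k, hk⟩ := hsat q
  obtain ⟨c, hc⟩ := (Submodule.mem_span_range_iff_exists_fun B).1 hk
  have h0 : φ (∑ t, c t • SymmetricPower.tprod B fun i => dΩ (f (t i)) (hf (t i))) = 0 := by
    rw [hc, map_smul, hq, smul_zero]
  rw [phi_sum ι φ hφ f hf c, ← map_zero (cls A B (Fintype.card ι)), cls_eq_iff] at h0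
  let dt : (ι → Fin r) → (Fin r →₀ ℕ) := fun t => ∑ i, Finsupp.single (t i) 1
  let Q : MvPolynomial (Fin r) (B ⊗[A] B) :=
    ∑ t, MvPolynomial.monomial (dt t) (algebraMap B (B ⊗[A] B) (c t))
  have hQ : Q.IsHomogeneous (Fintype.card ι) := MvPolynomial.IsHomogeneous.sum _ _ _ fun t _ =>
    MvPolynomial.isHomogeneous_monomial _ (by simp [dt, map_sum, Finsupp.degree_single])
  have heval : MvPolynomial.eval f Q ∈ 𝓘 ^ (Fintype.card ι + 1) := by
    rw [map_sum]
    rw [ZeroMemClass.coe_zero, sub_zero] at h0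
    convert h0 using 1
    refine Finset.sum_congr rfl fun t _ => ?_
    rw [MvPolynomial.eval_monomial, ← Finsupp.prod_finsetSum_index (fun j => pow_zero _) (fun j m₁ m₂ => pow_add _ _ _)]
    simp [Finsupp.prod_single_index]
  obtain ⟨m, hm⟩ := exists_uniform
    (p := fun d : (Finset.univ.image dt : Finset (Fin r →₀ ℕ)) => fun k => b ^ k * μ (Q.coeff d.1) = 0)
    (fun d => hkey _ Q hQ heval d.1)
    fun d k k' hkk h => by rw [← Nat.sub_add_cancel hkk, pow_add, mul_assoc, h, mul_zero]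
  have hbp : b ^ (m + k) ∉ p := fun hmem => hb (hp.mem_of_pow_mem _ hmem)
  refine ⟨b ^ (m + k), hbp, ?_⟩
  rw [pow_add, mul_smul, ← hc, Finset.smul_sum,
    ← Finset.sum_fiberwise_of_maps_to (g := dt) (t := Finset.univ.image dt) (fun t _ => Finset.mem_image_of_mem _ (Finset.mem_univ t))]
  refine Finset.sum_eq_zero fun d hd => ?_
  obtain ⟨t₀, -, ht₀⟩ := Finset.mem_image.1 hd
  have hperm : ∀ t ∈ Finset.univ.filter (fun t => dt t = d),
      (SymmetricPower.tprod B fun i => dΩ (f (t i)) (hf (t i)) :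
        SymmetricPower B ι (KaehlerDifferential A B)) =
        SymmetricPower.tprod B fun i => dΩ (f (t₀ i)) (hf (t₀ i)) := by
    intro t ht
    obtain ⟨e, he⟩ := exists_perm_of_sum_single t t₀ ((Finset.mem_filter.1 ht).2.trans ht₀.symm)
    rw [← SymmetricPower.tprod_equiv e fun i => dΩ (f (t₀ i)) (hf (t₀ i))]
    simp only [he]
  have hco : μ (Q.coeff d) = ∑ t ∈ Finset.univ.filter (fun t => dt t = d), c t := by
    simp only [Q, MvPolynomial.coeff_sum, MvPolynomial.coeff_monomial, map_sum]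
    rw [Finset.sum_filter]
    refine Finset.sum_congr rfl fun t _ => ?_
    split_ifs with hh
    · exact mul'_algebraMap _
    · exact map_zero _
  rw [Finset.sum_congr rfl fun t ht => by rw [hperm t ht, smul_smul], ← Finset.sum_smul, ← Finset.mul_sum,
    ← hco, hm ⟨d, hd⟩, zero_smul]

end Groth.Agent.PP16Lib29
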